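import Groth.Agent.AbVar.K504.AVFam
import Groth.Agent.S0034
import Groth.Agent.S1536
import Groth.Agent.CurvesA.HHMap
import Groth.Agent.Fga.EulerLEAdd
import Groth.Agent.Sga3.H780.Pointed
import Groth.Agent.CurvesC.UnitCoh
import Mathlib.RingTheory.KrullDimension.Regular

/-!
# `dim H^j(A, O_A) = choose g j`
-/

set_option autoImplicit false
universe u

open CategoryTheory Limits MonoidalCategory CartesianMonoidalCategory MonObj GrpObj AlgebraicGeometry
open RingTheory.Sequence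

namespace K504.AVMain

open Groth.Agent.Sga7.H620.TorsCount K504.KerReg K504.H0Kill K504.Fam K504.AVFam
open Groth.Agent.Grpsch Groth.Agent.Grpsch.PicGrp Groth.Agent.Grpsch.Cube Groth.Agent.Sga7.H515.FKLam
  Groth.Agent.Sga7.H515.FKSub Groth.Agent.Fdesc.LocGen

section Alg

/-- A quotient by a regular sequence of maximal length has dimension zero. -/
theorem dim_quot {R : Type u} [CommRing R] [IsNoetherianRing R] [IsLocalRing R] {g : ℕ}
    (hg : ringKrullDim R = g) (xs : List R) (hxs : IsWeaklyRegular R xs) (hlen : xs.length = g)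
    (hle : Ideal.ofList xs ≤ IsLocalRing.maximalIdeal R) : ringKrullDim (R ⧸ Ideal.ofList xs) = 0 := by
  have hreg : IsRegular R xs := ⟨hxs, fun h => by
    have h1 : Ideal.ofList xs = ⊤ := by simpa using h.symm
    exact (IsLocalRing.maximalIdeal.isMaximal R).ne_top (top_le_iff.mp (h1 ▸ hle))⟩
  have h := ringKrullDim_add_length_eq_ringKrullDim_of_isRegular xs hreg
  rw [hg, hlen] at h
  have hne : Nontrivial (R ⧸ Ideal.ofList xs) := Ideal.Quotient.nontrivial_iff.mpr fun h1 =>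
    (IsLocalRing.maximalIdeal.isMaximal R).ne_top (top_le_iff.mp (h1 ▸ hle))
  have h0 : (0 : WithBot ℕ∞) ≤ ringKrullDim (R ⧸ Ideal.ofList xs) := ringKrullDim_nonneg_of_nontrivial
  obtain ⟨n, hn⟩ : ∃ n : ℕ∞, ringKrullDim (R ⧸ Ideal.ofList xs) = n := by
    match hd : ringKrullDim (R ⧸ Ideal.ofList xs), h0 with
    | (n : ℕ∞), _ => exact ⟨n, rfl⟩
  rw [hn] at h ⊢
  have h2 : n + (g : ℕ∞) = (0 : ℕ∞) + g := by
    rw [zero_add]
    exact_mod_cast h
  have h3 : n = 0 := by
    rw [zero_add] at h2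
    have hnt : n ≠ ⊤ := by
      rintro rfl
      rw [top_add] at h2
      exact ENat.natCast_ne_top g h2.symm
    obtain ⟨m, rfl⟩ := ENat.ne_top_iff_exists.mp hnt
    have h4 : m + g = g := by exact_mod_cast h2
    have h5 : m = 0 := by omega
    rw [h5]
    rfl
  rw [h3]
  rfl

theorem eq_maximalIdeal {R : Type u} [CommRing R] [IsNoetherianRing R] [IsLocalRing R] {g : ℕ}
    (hg : ringKrullDim R = g) (xs : List R) (hxs : IsWeaklyRegular R xs) (hlen : xs.length = g)
    (hle : Ideal.ofList xs ≤ IsLocalRing.maximalIdeal R) (p : Ideal R) [hp : p.IsPrime]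
    (h : Ideal.ofList xs ≤ p) : p = IsLocalRing.maximalIdeal R := by
  have h0 := dim_quot hg xs hxs hlen hle
  have h1 : Ring.KrullDimLE 0 (R ⧸ Ideal.ofList xs) := by
    rw [Ring.krullDimLE_iff, h0]
    rfl
  have h2 : (p.map (Ideal.Quotient.mk (Ideal.ofList xs))).IsPrime :=
    Ideal.map_isPrime_of_surjective Ideal.Quotient.mk_surjective (by rw [Ideal.mk_ker]; exact h)
  have h3 : (p.map (Ideal.Quotient.mk (Ideal.ofList xs))).IsMaximal := h2.isMaximal'
  have h4 : p = (p.map (Ideal.Quotient.mk (Ideal.ofList xs))).comap (Ideal.Quotient.mk (Ideal.ofList xs)) := by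
    rw [Ideal.comap_map_of_surjective _ Ideal.Quotient.mk_surjective, ← RingHom.ker_eq_comap_bot, Ideal.mk_ker,
      sup_eq_left.mpr h]
  have h5 : p.IsMaximal := by
    rw [h4]
    exact Ideal.comap_isMaximal_of_surjective _ Ideal.Quotient.mk_surjective
  exact IsLocalRing.eq_maximalIdeal h5

/-- Comparison of lengths. -/
theorem eq_of_length {k B : Type u} [Field k] [CommRing B] [Algebra k B] [Nontrivial B]
    (hfin : Module.length B B ≠ ⊤) {V₀ V : Type u} [AddCommGroup V₀] [Module k V₀]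
    [AddCommGroup V] [Module k V] {W₀ W : Type u} [AddCommGroup W₀] [Module B W₀]
    [AddCommGroup W] [Module B W] (e₀ : TensorProduct k B V₀ ≃ₗ[B] W₀) (e : TensorProduct k B V ≃ₗ[B] W)
    (h0 : Module.finrank k V₀ = 1) (c : ℕ) (h : Module.length B W = (c : ℕ∞) * Module.length B W₀)
    (_ : Module.Finite k V₀) (_ : Module.Finite k V) :
    Module.finrank k V = c := by
  rw [← e.length_eq, ← e₀.length_eq, Module.length_of_free_of_finite B (TensorProduct k B V),
    Module.length_of_free_of_finite B (TensorProduct k B V₀),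
    Module.finrank_baseChange, Module.finrank_baseChange, h0, Nat.cast_one, _root_.one_mul] at h
  obtain ⟨n, hn⟩ := ENat.ne_top_iff_exists.mp hfin
  have hpos : 0 < Module.length B B := Module.length_pos
  rw [← hn] at h hpos
  have h1 : Module.finrank k V * n = c * n := by exact_mod_cast h
  have h2 : 0 < n := by exact_mod_cast hpos
  exact Nat.eq_of_mul_eq_mul_right h2 h1

end Alg

section Main

variable {k : Type u} [Field k]

/-- Cohomology of a trivial line bundle on the base change to `B`. -/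
theorem exists_hh (A : Over (Spec (CommRingCat.of k))) [A.left.Over (Spec (CommRingCat.of k))]
    (hA : (A.left ↘ Spec (CommRingCat.of k)) = A.hom) [IsProper A.hom]
    (B : Type u) [CommRing B] [Algebra k B] {Y : Scheme.{u}}
    [Y.Over (Spec (CommRingCat.of B))] (a : Y ⟶ A.left)
    (H : IsPullback a (Y ↘ Spec (CommRingCat.of B)) A.hom (Spec.map (CommRingCat.ofHom (algebraMap k B))))
    (F : Y.Modules) (e : F ≅ Coh.structureModule Y) (j : ℕ) :
    Nonempty (TensorProduct k B (Coh.HH A.left (Coh.structureModule A.left) j) ≃ₗ[B] Coh.HH Y F j) := by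
  have : CompactSpace A.left := QuasiCompact.compactSpace_of_compactSpace A.hom
  have : QuasiSeparatedSpace A.left := (quasiSeparated_iff_quasiSeparatedSpace (f := A.hom)).mp inferInstance
  have := Groth.Agent.CurvesC.UnitCoh.isQCoh_unit A.left
  obtain ⟨ε⟩ := Groth.Agent.S0034.result k B A.left Y a (by rw [hA]; exact H) (Coh.structureModule A.left) j
  exact ⟨ε.trans (Groth.Agent.CurvesA.HHMap.equivOver B (Groth.Agent.CurvesA.HHMap.pullbackUnit a ≪≫ e.symm) j)⟩

theorem geometricallyConnected_of {X Y : Scheme.{u}} (f : X ⟶ Y) [GeometricallyIrreducible f] :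
    GeometricallyConnected f := by
  rw [GeometricallyConnected.eq_geometrically]
  intro K _ y V fst snd h
  have : IrreducibleSpace V := GeometricallyIrreducible.geometrically_irreducibleSpace y fst snd h
  infer_instance

/-- The cohomology of the structure sheaf of an abelian variety. -/
theorem main [IsAlgClosed k] (A : Scheme.{u}) [A.Over (Spec (CommRingCat.of k))]
    [GrpObj (Over.mk (A ↘ Spec (CommRingCat.of k)))]
    [IsProper (A ↘ Spec (CommRingCat.of k))] [Smooth (A ↘ Spec (CommRingCat.of k))] [ConnectedSpace ↥A]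
    (hV : VanHyp.{u}) (g : ℕ) (hg : topologicalKrullDim ↥A = g) (n : ℕ) :
    Module.finrank k (Coh.HH A (Coh.structureModule A) n) = Nat.choose g n := by
  let 𝒜 : Over (Spec (CommRingCat.of k)) := Over.mk (A ↘ Spec (CommRingCat.of k))
  have i1 : IsProper 𝒜.hom := inferInstanceAs (IsProper (A ↘ Spec (CommRingCat.of k)))
  have i2 : Smooth 𝒜.hom := inferInstanceAs (Smooth (A ↘ Spec (CommRingCat.of k)))
  have i5 : ConnectedSpace 𝒜.left := inferInstanceAs (ConnectedSpace ↥A)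
  have i3 : GeometricallyIntegral 𝒜.hom := Groth.Agent.Sga3.H780.Pointed.geometricallyIntegral 𝒜
  have i4 : IsCommMonObj 𝒜 := isCommMonObj_of_isProper_of_geometricallyIntegral 𝒜
  have i6 : IsNoetherian A := by
    have : IsLocallyNoetherian A := LocallyOfFiniteType.isLocallyNoetherian (A ↘ Spec (CommRingCat.of k))
    have : CompactSpace A := QuasiCompact.compactSpace_of_compactSpace (A ↘ Spec (CommRingCat.of k))
    constructor
  have hvan : ∀ m : ℕ, g < m → Subsingleton (Coh.HH A (Coh.structureModule A) m) := fun m hm =>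
    Groth.Agent.Fga.EulerLEAdd.subsingleton_HH A g hg.le (Coh.structureModule A) m hm
  by_cases hn : g < n
  · have := hvan n hn
    rw [Nat.choose_eq_zero_of_lt hn]
    exact Module.finrank_zero_of_subsingleton
  obtain ⟨L, W, gW, i, hi1, hi2, hi3, hi4⟩ := K504.KL.exists_K 𝒜
  obtain ⟨hdim, xs, hxs, hlen, hfac⟩ := exists_params i g hg
  obtain ⟨E, hE, hcl⟩ := exists_mk (cl L (𝟙 𝒜) (xR 𝒜))
  have key : ∀ (B : CommRingCat.{u}) (φ : Loc 𝒜 ⟶ B), cl L (𝟙 𝒜) (vB φ ≫ xR 𝒜) = 1 ↔
      Ideal.ofList xs ≤ RingHom.ker φ.hom := by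
    intro B φ
    rw [← hfac, ← hi4]
    constructor
    · rintro ⟨t, ht⟩
      exact ⟨t.left, congrArg CommaMorphism.left ht⟩
    · rintro ⟨t, ht⟩
      refine ⟨Over.homMk t ?_, ?_⟩
      · change t ≫ W.hom = _
        rw [← Over.w i, ← Category.assoc, ht, Category.assoc]
        rfl
      · ext1
        exact ht
  have hreg : IsRegularLocalRing (Loc 𝒜) := Groth.Agent.S1535.result k A _
  -- the ideal is contained in the maximal ideal
  have hle : Ideal.ofList xs ≤ IsLocalRing.maximalIdeal (Loc 𝒜) := by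
    obtain ⟨ε, hε1, hε2⟩ := exists_eps 𝒜.left (η[𝒜] : 𝟙_ (Over (Spec (CommRingCat.of k))) ⟶ 𝒜).left (eP 𝒜) rfl
    rw [← ker_eq_maximalIdeal ε.hom, ← hfac]
    refine ⟨(η[W] : 𝟙_ (Over (Spec (CommRingCat.of k))) ⟶ W).left, ?_⟩
    rw [hε2, ← Over.comp_left, IsMonHom.one_hom]
  let X : Scheme.{u} := (𝒜 ⊗ tR 𝒜).left
  let _ : X.Over (Spec (CommRingCat.of (Loc 𝒜))) := ⟨(snd 𝒜 (tR 𝒜)).left⟩
  have j1 : IsProper (X ↘ Spec (CommRingCat.of (Loc 𝒜))) :=
    inferInstanceAs (IsProper (pullback.snd 𝒜.hom (tR 𝒜).hom))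
  have j2 : Flat (X ↘ Spec (CommRingCat.of (Loc 𝒜))) :=
    inferInstanceAs (Flat (pullback.snd 𝒜.hom (tR 𝒜).hom))
  have j3 : LocallyOfFinitePresentation (X ↘ Spec (CommRingCat.of (Loc 𝒜))) :=
    inferInstanceAs (LocallyOfFinitePresentation (pullback.snd 𝒜.hom (tR 𝒜).hom))
  have j4 : GeometricallyIntegral (X ↘ Spec (CommRingCat.of (Loc 𝒜))) :=
    inferInstanceAs (GeometricallyIntegral (pullback.snd 𝒜.hom (tR 𝒜).hom))
  -- the base change to an algebra as a `k`-algebra
  have base : ∀ (B : Type u) [CommRing B] (φ : Loc 𝒜 ⟶ CommRingCat.of B), ∃ _ : Algebra k B,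
      IsPullback (fst 𝒜 (tB φ)).left (snd 𝒜 (tB φ)).left 𝒜.hom (Spec.map (CommRingCat.ofHom (algebraMap k B))) := by
    intro B _ φ
    let ψ : CommRingCat.of k ⟶ CommRingCat.of B := Spec.preimage (tB φ).hom
    refine ⟨ψ.hom.toAlgebra, ?_⟩
    have h1 : Spec.map (CommRingCat.ofHom (@algebraMap k B _ _ ψ.hom.toAlgebra)) = (tB φ).hom :=
      Spec.map_preimage _
    rw [h1]
    exact IsPullback.of_hasPullback 𝒜.hom (tB φ).hom
  have triv : ∀ (B : Type u) [CommRing B] (φ : Loc 𝒜 ⟶ CommRingCat.of B), Ideal.ofList xs ≤ RingHom.ker φ.hom →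
      Nonempty ((Scheme.Modules.pullback (𝒜 ◁ vB φ).left).obj E ≅ Coh.structureModule (𝒜 ⊗ tB φ).left) := by
    intro B _ φ hφ
    rw [← mk_eq_one_iff (isInvertible_pullback _ hE), mk_pullback L E hE hcl.symm φ]
    exact (key _ φ).mpr hφ
  have hres : RingHom.ker (algebraMap (Loc 𝒜) (IsLocalRing.ResidueField (Loc 𝒜))) =
      IsLocalRing.maximalIdeal (Loc 𝒜) := IsLocalRing.ker_residue
  have hnt : Nontrivial (Loc 𝒜 ⧸ Ideal.ofList xs) := Ideal.Quotient.nontrivial_iff.mpr fun h1 =>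
    (IsLocalRing.maximalIdeal.isMaximal (Loc 𝒜)).ne_top (top_le_iff.mp (h1 ▸ hle))
  -- the final comparison
  let φ : Loc 𝒜 ⟶ CommRingCat.of (Loc 𝒜 ⧸ Ideal.ofList xs) := CommRingCat.ofHom (Ideal.Quotient.mk (Ideal.ofList xs))
  let _ : ((𝒜 ⊗ tB φ).left).Over (Spec (CommRingCat.of (Loc 𝒜 ⧸ Ideal.ofList xs))) := ⟨(snd 𝒜 (tB φ)).left⟩
  obtain ⟨eφ⟩ := triv _ φ (by
    change _ ≤ RingHom.ker (Ideal.Quotient.mk (Ideal.ofList xs))
    rw [Ideal.mk_ker])
  have hmain := K504.Fam.main hdim (X := X)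
    (fun T g U => CubeData.isIso_app (pullback.snd _ g) U) E hE xs hxs hlen
    ((trivAt_iff L E hE hcl.symm (CommRingCat.ofHom (IsLocalRing.residue (Loc 𝒜)))).mpr ((key _ _).mpr (by
      change _ ≤ RingHom.ker (IsLocalRing.residue (Loc 𝒜))
      rw [IsLocalRing.ker_residue]
      exact hle)))
    (fun I _ hI => by
      have h1 := (key _ _).mp ((trivAt_iff L E hE hcl.symm (CommRingCat.ofHom (Ideal.Quotient.mk I))).mp hI)
      change _ ≤ RingHom.ker (Ideal.Quotient.mk I) at h1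
      rwa [Ideal.mk_ker] at h1)
    (fun p hp hpm j => by
      let ψ : Loc 𝒜 ⟶ CommRingCat.of p.ResidueField := CommRingCat.ofHom (algebraMap (Loc 𝒜) p.ResidueField)
      refine ⟨(𝒜 ⊗ tB ψ).left, (𝒜 ◁ vB ψ).left, (snd 𝒜 (tB ψ)).left, isPullback_B ψ,
        vanAt hV L (Spec.map ψ ≫ (tR 𝒜).hom) (vB ψ ≫ xR 𝒜) (fun h => hpm ?_) _ (isInvertible_pullback _ hE)
          (mk_pullback L E hE hcl.symm ψ) j⟩
      refine eq_maximalIdeal hdim xs hxs hlen hle p ?_
      have h1 := (key _ ψ).mp h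
      intro r hr
      exact (Ideal.algebraMap_residueField_eq_zero (I := p)).mp (h1 hr))
    (fun j hj => by
      let ψ : Loc 𝒜 ⟶ CommRingCat.of (IsLocalRing.ResidueField (Loc 𝒜)) :=
        CommRingCat.ofHom (algebraMap (Loc 𝒜) (IsLocalRing.ResidueField (Loc 𝒜)))
      refine ⟨(𝒜 ⊗ tB ψ).left, (𝒜 ◁ vB ψ).left, (snd 𝒜 (tB ψ)).left, isPullback_B ψ, ?_⟩
      obtain ⟨e⟩ := triv _ ψ (by
        change _ ≤ RingHom.ker (algebraMap (Loc 𝒜) (IsLocalRing.ResidueField (Loc 𝒜)))
        rw [hres]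
        exact hle)
      obtain ⟨alg, H⟩ := base _ ψ
      let _ : ((𝒜 ⊗ tB ψ).left).Over (Spec (CommRingCat.of (IsLocalRing.ResidueField (Loc 𝒜)))) :=
        ⟨(snd 𝒜 (tB ψ)).left⟩
      obtain ⟨ε⟩ := exists_hh 𝒜 rfl (IsLocalRing.ResidueField (Loc 𝒜)) (fst 𝒜 (tB ψ)).left H _ e j
      have h1 : Subsingleton (Coh.HH 𝒜.left (Coh.structureModule 𝒜.left) j) := hvan j hj
      have h2 : Subsingleton (TensorProduct k (IsLocalRing.ResidueField (Loc 𝒜))
        (Coh.HH 𝒜.left (Coh.structureModule 𝒜.left) j)) := Unique.instSubsingleton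
      exact ε.symm.toEquiv.subsingleton)
    (𝒜 ◁ vB φ).left (isPullback_B φ) (Coh.structureModule _) eφ n (g - n) (by omega)
  obtain ⟨alg, H⟩ := base _ φ
  obtain ⟨ε0⟩ := exists_hh 𝒜 rfl (Loc 𝒜 ⧸ Ideal.ofList xs) (fst 𝒜 (tB φ)).left H _ (Iso.refl _) 0
  obtain ⟨εn⟩ := exists_hh 𝒜 rfl (Loc 𝒜 ⧸ Ideal.ofList xs) (fst 𝒜 (tB φ)).left H _ (Iso.refl _) n
  have hcoh : Coh.IsCoh (Coh.structureModule A) := Groth.Agent.CurvesB.UnitCoh.isCoh_structureModule A
  have i7 : GeometricallyIntegral (A ↘ Spec (CommRingCat.of k)) := i3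
  have i8 : GeometricallyConnected (A ↘ Spec (CommRingCat.of k)) := geometricallyConnected_of _
  have f0 : Module.Finite k (Coh.HH 𝒜.left (Coh.structureModule 𝒜.left) 0) := Groth.Agent.S0002.result k A _ hcoh 0
  have fn : Module.Finite k (Coh.HH 𝒜.left (Coh.structureModule 𝒜.left) n) := Groth.Agent.S0002.result k A _ hcoh n
  have hart : IsArtinianRing (Loc 𝒜 ⧸ Ideal.ofList xs) := by
    have h0 := dim_quot hdim xs hxs hlen hle
    rw [isArtinianRing_iff_krullDimLE_zero, Ring.krullDimLE_iff, h0]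
    rfl
  exact (eq_of_length Module.length_ne_top ε0 εn (Groth.Agent.S1536.result k A) (g.choose (g - n)) hmain f0 fn).trans
    (Nat.choose_symm (by omega))

end Main

end K504.AVMain
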