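import Groth.Agent.AbVar.K504.Hodge
import Groth.Agent.S11892
import Groth.Agent.S0223
import Groth.Agent.AbSch.K449.Basic

/-!
# Hodge numbers of abelian varieties over an arbitrary field

For `X` a proper geometrically integral group scheme of dimension `g` over any field:
* `finrank_O`: `dim H^n(X, O_X) = g choose n`;
* `finrank_omega`: `dim H^s(X, L) = (g choose r) (g choose s)`, `L` an `r`-th exterior power of `Ω`.
-/

set_option autoImplicit false

universe u

open CategoryTheory CategoryTheory.Limits AlgebraicGeometry MonoidalCategory CartesianMonoidalCategory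

namespace K504.AnyField

open Groth.Agent

section

variable (k : Type u) [Field k] (X : Scheme.{u}) [X.Over (Spec (CommRingCat.of k))]
    [GrpObj (Over.mk (X ↘ Spec (CommRingCat.of k)))] [IsProper (X ↘ Spec (CommRingCat.of k))]
    [GeometricallyIntegral (X ↘ Spec (CommRingCat.of k))]

include k in
theorem smooth_str : Smooth (X ↘ Spec (CommRingCat.of k)) := by
  let 𝒜 : Over (Spec (CommRingCat.of k)) := Over.mk (X ↘ Spec (CommRingCat.of k))
  have i1 : LocallyOfFinitePresentation 𝒜.hom :=
    inferInstanceAs (LocallyOfFinitePresentation (X ↘ Spec (CommRingCat.of k)))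
  have i2 : Flat 𝒜.hom := inferInstanceAs (Flat (X ↘ Spec (CommRingCat.of k)))
  have i3 : GeometricallyReduced 𝒜.hom := inferInstanceAs (GeometricallyReduced (X ↘ Spec (CommRingCat.of k)))
  exact K449.Basic.smooth 𝒜

include k in
theorem isIntegral : IsIntegral X := by
  let 𝒜 : Over (Spec (CommRingCat.of k)) := Over.mk (X ↘ Spec (CommRingCat.of k))
  have i1 : IsProper 𝒜.hom := inferInstanceAs (IsProper (X ↘ Spec (CommRingCat.of k)))
  have i3 : GeometricallyIntegral 𝒜.hom := inferInstanceAs (GeometricallyIntegral (X ↘ Spec (CommRingCat.of k)))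
  exact K524.PicZeroVan.isIntegral_left (A := 𝒜)

theorem smoothOfRelativeDimension {g : ℕ} (hg : topologicalKrullDim ↥X = g) :
    SmoothOfRelativeDimension g (X ↘ Spec (CommRingCat.of k)) := by
  have h1 := smooth_str k X
  have h2 := isIntegral k X
  obtain ⟨d, hd⟩ := Hodge.exists_relDim k X (X ↘ Spec (CommRingCat.of k))
  have h3 : topologicalKrullDim X = d := Hodge.topologicalKrullDim_eq (X ↘ Spec (CommRingCat.of k)) d
  rw [hg] at h3
  have h4 : d = g := by exact_mod_cast h3.symm
  exact h4 ▸ hd

theorem finrank_O (g : ℕ) (hg : topologicalKrullDim ↥X = g) (n : ℕ) :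
    Module.finrank k (Coh.HH X (Coh.structureModule X) n) = Nat.choose g n := by
  have h1 := smoothOfRelativeDimension k X hg
  let K : Type u := AlgebraicClosure k
  let φ : Spec (CommRingCat.of K) ⟶ Spec (CommRingCat.of k) := Spec.map (CommRingCat.ofHom (algebraMap k K))
  let X' : Scheme.{u} := pullback (X ↘ Spec (CommRingCat.of k)) φ
  let _ : X'.Over (Spec (CommRingCat.of K)) := ⟨pullback.snd (X ↘ Spec (CommRingCat.of k)) φ⟩
  let hG : GrpObj (Over.mk (X' ↘ Spec (CommRingCat.of K))) := Over.grpObjMkPullbackSnd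
  have i1 : IsProper (X' ↘ Spec (CommRingCat.of K)) := inferInstanceAs (IsProper (pullback.snd _ _))
  have hst := smoothOfRelativeDimension_isStableUnderBaseChange g
  have i2 : SmoothOfRelativeDimension g (X' ↘ Spec (CommRingCat.of K)) :=
    MorphismProperty.pullback_snd (P := @SmoothOfRelativeDimension g) (X ↘ Spec (CommRingCat.of k)) φ h1
  have i3 : GeometricallyIntegral (X' ↘ Spec (CommRingCat.of K)) :=
    inferInstanceAs (GeometricallyIntegral (pullback.snd _ _))
  have i4 : IsIntegral X' := isIntegral K X'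
  have i5 : Smooth (X' ↘ Spec (CommRingCat.of K)) := SmoothOfRelativeDimension.smooth g _
  rw [← S0223.finrank_eq k X K X' (pullback.fst _ _) (IsPullback.of_hasPullback _ _) n]
  exact S11892.result K X' g (Hodge.topologicalKrullDim_eq (X' ↘ Spec (CommRingCat.of K)) g) n

theorem exists_iso_freeMod {g r : ℕ} (hg : topologicalKrullDim ↥X = g) {L : X.Modules}
    (hL : ExtPow.IsExtPow r (Omega.sheaf (X ↘ Spec (CommRingCat.of k))) L) :
    Nonempty (L ≅ FlatMod.freeMod X (g.choose r)) := by
  let 𝒜 : Over (Spec (CommRingCat.of k)) := Over.mk (X ↘ Spec (CommRingCat.of k))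
  have i1 : IsProper 𝒜.hom := inferInstanceAs (IsProper (X ↘ Spec (CommRingCat.of k)))
  have i2 : Smooth 𝒜.hom := smooth_str k X
  have i3 : IsIntegral 𝒜.left := isIntegral k X
  exact Hodge.main 𝒜 hg hL

theorem finrank_omega (g : ℕ) (hg : topologicalKrullDim ↥X = g) {r : ℕ} {L : X.Modules}
    (hL : ExtPow.IsExtPow r (Omega.sheaf (X ↘ Spec (CommRingCat.of k))) L) (s : ℕ) :
    Module.finrank k (Coh.HH X L s) = Nat.choose g r * Nat.choose g s := by
  obtain ⟨e⟩ := exists_iso_freeMod k X hg hL
  rw [(VarietyA.EulerLES.equivA k (X := X) e s).finrank_eq, Hodge.finrank_HH_freeMod, finrank_O k X g hg s]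

end

end K504.AnyField
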