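import Groth.Agent.Sga7.H515.FKSub
import Groth.Agent.Sga7.H515.FKAmple
import Groth.Agent.S1841

/-!
# The finite closed subgroup `K(L)` of an ample class
-/

set_option autoImplicit false
universe u

open CategoryTheory Limits MonoidalCategory CartesianMonoidalCategory AlgebraicGeometry
open scoped MonObj

namespace K504.KL

open Groth.Agent.Grpsch Groth.Agent.Grpsch.PicGrp Groth.Agent.Grpsch.Cube Groth.Agent.Sga7.H515.FKLam
  Groth.Agent.Sga7.H515.FKSub

variable {k : Type u} [Field k]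

/-- `K(L)` for an ample class `L`: a finite closed subgroup representing the triviality of `Λ(L)`. -/
theorem exists_K (A : Over (Spec (CommRingCat.of k))) [GrpObj A] [IsProper A.hom] [GeometricallyIntegral A.hom] :
    ∃ (L : Pic A.left) (W : Over (Spec (CommRingCat.of k))) (_ : GrpObj W) (i : W ⟶ A), IsMonHom i ∧
      IsClosedImmersion i.left ∧ IsFinite W.hom ∧
      ∀ (T : Over (Spec (CommRingCat.of k))) (x : T ⟶ A), (∃ t : T ⟶ W, t ≫ i = x) ↔ cl L (𝟙 A) x = 1 := by
  obtain ⟨M, hM⟩ := Groth.Agent.S1841.result k A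
  obtain ⟨W, gW, i, hi1, hi2, hi3⟩ := exists_ker (A := A) (mk M hM.1) A 1 (𝟙 A) (Category.comp_id _)
  refine ⟨mk M hM.1, W, gW, i, hi1, hi2, ?_, hi3⟩
  have h1 : cl (mk M hM.1) (𝟙 A) i = 1 := (hi3 W i).mp ⟨𝟙 W, Category.id_comp _⟩
  have h2 : lam (mk M hM.1) (i⁻¹) i = 1 := by
    have h3 : pl (lift (i⁻¹) (𝟙 W)) (cl (mk M hM.1) (𝟙 A) i) = 1 := by rw [h1, map_one]
    rwa [pl_lift_cl, Category.comp_id, Category.id_comp] at h3
  rw [lam, inv_mul_cancel, pl_one, one_mul, inv_eq_one] at h2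
  have : IsProper W.hom := by
    rw [← Over.w i]
    infer_instance
  exact Groth.Agent.Sga7.H515.FKAmple.isFinite_hom M hM i (by rw [mul_comm]; exact h2)

end K504.KL
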