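import Groth.Agent.Sga7.H620.TorsCount
import Groth.Agent.CalgB.RegPar
import Groth.Agent.CalgA.RegBasic
import Groth.Agent.S1535
import Mathlib.RingTheory.Regular.Flat
import Mathlib.AlgebraicGeometry.Group.Abelian
import Mathlib.AlgebraicGeometry.Artinian

/-!
# The ideal of a closed subgroup at the unit point is generated by a regular sequence

`k` algebraically closed, `A` a smooth connected commutative group over `k`, `i : W ⟶ A` a finite closed
subgroup: the ideal of `W` in `O_{A,0}` is generated by a weakly regular sequence of length `dim A`.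
-/

set_option autoImplicit false
universe u

open CategoryTheory Limits MonoidalCategory CartesianMonoidalCategory MonObj GrpObj AlgebraicGeometry
open RingTheory.Sequence

namespace K504.KerReg

open Groth.Agent.Sga7.H620.TorsCount

variable {k : Type u} [Field k]

/-- the local ring at the unit -/
noncomputable abbrev Loc (A : Over (Spec (CommRingCat.of k))) [GrpObj A] : CommRingCat.{u} :=
  A.left.presheaf.stalk (eP A)

/-- the kernel of a local homomorphism to a field is the maximal ideal -/
theorem ker_eq_maximalIdeal {R K : Type*} [CommRing R] [IsLocalRing R] [Field K] (f : R →+* K) [IsLocalHom f] :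
    RingHom.ker f = IsLocalRing.maximalIdeal R := by
  ext x
  rw [RingHom.mem_ker, IsLocalRing.mem_maximalIdeal, mem_nonunits_iff]
  constructor
  · intro hx hu
    exact (hu.map f).ne_zero hx
  · intro hx
    by_contra h
    exact hx ((isUnit_map_iff f x).mp (IsUnit.mk0 _ h))

/-- A point of a scheme with values in a field factors through the local scheme of the underlying point. -/
theorem exists_eps (X : Scheme.{u}) (s : Spec (CommRingCat.of k) ⟶ X) (x : X)
    (hx : s (IsLocalRing.closedPoint k) = x) :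
    ∃ ε : X.presheaf.stalk x ⟶ CommRingCat.of k, IsLocalHom ε.hom ∧ Spec.map ε ≫ X.fromSpecStalk x = s := by
  subst hx
  exact ⟨Scheme.stalkClosedPointTo s, Scheme.isLocalHom_stalkClosedPointTo' s,
    Scheme.Spec_stalkClosedPointTo_fromSpecStalk s⟩

/-- Factorisation through the kernel of a homomorphism, on the local scheme at the unit. -/
theorem factors_iff {W A X : Over (Spec (CommRingCat.of k))} [GrpObj A] [GrpObj X]
    (i : W ⟶ A) (p : A ⟶ X) [IsMonHom p] (hk : AlgGrp.IsKernel i p) (B : CommRingCat.{u}) (φ : Loc A ⟶ B) :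
    (∃ t : Spec B ⟶ W.left, t ≫ i.left = Spec.map φ ≫ A.left.fromSpecStalk (eP A)) ↔
      ∀ r ∈ IsLocalRing.maximalIdeal (X.left.presheaf.stalk (p.left (eP A))),
        φ (p.left.stalkMap (eP A) r) = 0 := by
  have h1 : IsPullback i.left (toUnit W).left p.left (η[X] : 𝟙_ (Over (Spec (CommRingCat.of k))) ⟶ X).left :=
    hk.map (Over.forget _)
  have hη : (η[X] : 𝟙_ (Over (Spec (CommRingCat.of k))) ⟶ X).left (IsLocalRing.closedPoint k) = p.left (eP A) := by
    rw [map_eP]
    rfl
  obtain ⟨ε, hε1, hε2⟩ := exists_eps X.left (η[X] : 𝟙_ (Over (Spec (CommRingCat.of k))) ⟶ X).left _ hη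
  have hker := ker_eq_maximalIdeal ε.hom
  have hsm : Spec.map (p.left.stalkMap (eP A)) ≫ X.left.fromSpecStalk (p.left (eP A)) =
      A.left.fromSpecStalk (eP A) ≫ p.left := Scheme.SpecMap_stalkMap_fromSpecStalk _
  constructor
  · rintro ⟨t, ht⟩ r hr
    obtain ⟨ψ, hψ⟩ : ∃ ψ : CommRingCat.of k ⟶ B, Spec.map ψ = t ≫ (toUnit W).left :=
      ⟨Spec.preimage _, Spec.map_preimage _⟩
    have h2 : Spec.map (p.left.stalkMap (eP A) ≫ φ) = Spec.map (ε ≫ ψ) := by
      rw [← cancel_mono (X.left.fromSpecStalk (p.left (eP A))), Spec.map_comp, Spec.map_comp, Category.assoc,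
        Category.assoc, hsm, hε2, hψ, Category.assoc, ← h1.w, ← Category.assoc, ← ht, Category.assoc]
    have h3 := Spec.map_injective h2
    have h4 : φ (p.left.stalkMap (eP A) r) = ψ (ε r) := congr($h3 r)
    rw [h4, show ε r = 0 from (hker ▸ hr : r ∈ RingHom.ker ε.hom), map_zero]
  · intro h
    obtain ⟨ψ, hψ⟩ : ∃ ψ : CommRingCat.of k ⟶ B, Spec.map ψ = Spec.map φ ≫ A.left.fromSpecStalk (eP A) ≫ A.hom :=
      ⟨Spec.preimage _, Spec.map_preimage _⟩
    obtain ⟨c, hc⟩ : ∃ c : CommRingCat.of k ⟶ X.left.presheaf.stalk (p.left (eP A)),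
        Spec.map c = X.left.fromSpecStalk (p.left (eP A)) ≫ X.hom := ⟨Spec.preimage _, Spec.map_preimage _⟩
    have hcε : c ≫ ε = 𝟙 _ := by
      apply Spec.map_injective
      rw [Spec.map_comp, hc, ← Category.assoc, hε2, Over.w, Spec.map_id]
      rfl
    have hcφ : c ≫ p.left.stalkMap (eP A) ≫ φ = ψ := by
      apply Spec.map_injective
      rw [Spec.map_comp, Spec.map_comp, hc, hψ, Category.assoc, ← Category.assoc (Spec.map (p.left.stalkMap (eP A))),
        hsm, Category.assoc, Over.w]
    have h2 : p.left.stalkMap (eP A) ≫ φ = ε ≫ ψ := by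
      ext r
      have h3 : r - c (ε r) ∈ IsLocalRing.maximalIdeal (X.left.presheaf.stalk (p.left (eP A))) := by
        rw [← hker, RingHom.mem_ker, map_sub, sub_eq_zero]
        exact (congr($hcε (ε r))).symm
      have h4 := h _ h3
      rw [map_sub, map_sub, sub_eq_zero] at h4
      change φ (p.left.stalkMap (eP A) r) = ψ (ε r)
      rw [h4]
      exact congr($hcφ (ε r))
    refine ⟨h1.lift (Spec.map φ ≫ A.left.fromSpecStalk (eP A)) (Spec.map ψ) ?_, h1.lift_fst _ _ _⟩
    rw [Category.assoc, ← hsm, ← Category.assoc, ← Spec.map_comp, h2, Spec.map_comp, Category.assoc, hε2]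

/-- The ideal of a finite closed subgroup at the unit point is generated by a regular sequence. -/
theorem exists_params [IsAlgClosed k] {W A : Over (Spec (CommRingCat.of k))} [GrpObj W] [GrpObj A]
    [IsCommMonObj A] [Smooth A.hom] [QuasiCompact A.hom] [ConnectedSpace A.left] (i : W ⟶ A) [IsMonHom i]
    [IsClosedImmersion i.left] [IsFinite W.hom] (g : ℕ) (hg : topologicalKrullDim A.left = g) :
    ringKrullDim (Loc A) = g ∧ ∃ xs : List (Loc A), IsWeaklyRegular (Loc A) xs ∧ xs.length = g ∧
      ∀ (B : CommRingCat.{u}) (φ : Loc A ⟶ B),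
        (∃ t : Spec B ⟶ W.left, t ≫ i.left = Spec.map φ ≫ A.left.fromSpecStalk (eP A)) ↔
          Ideal.ofList xs ≤ RingHom.ker φ.hom := by
  obtain ⟨X, gX, cX, p, hp1, hp2, hp3, hp4, hk, hX1, hX2, hX3, hX4⟩ := exists_quotient i
  have hdR : ringKrullDim (Loc A) = g := by
    have : GrpObj (Over.mk A.hom) := inferInstanceAs (GrpObj A)
    rw [Groth.Agent.Localalg.GrpDim.ringKrullDim_stalk A.hom (eP A) (isClosed_eP A), hg]
  have hdW : topologicalKrullDim W.left = 0 := by
    have h1 : IsLocallyArtinian W.left := IsLocallyArtinian.of_locallyQuasiFinite W.hom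
    apply le_antisymm (topologicalKrullDim_zero_of_discreteTopology _)
    rw [dim_eq_coheight W (eP W) (isClosed_eP W)]
    exact WithBot.coe_le_coe.mpr bot_le
  have hdX : topologicalKrullDim X.left = g := by
    have h1 := dim_add i p hk
    rw [hdW, add_zero, hg] at h1
    exact h1.symm
  refine ⟨hdR, ?_⟩
  have : GrpObj (Over.mk X.hom) := inferInstanceAs (GrpObj X)
  let R' := X.left.presheaf.stalk (p.left (eP A))
  have hdR' : ringKrullDim R' = g := by
    have h1 : IsClosed {p.left (eP A)} := by
      rw [map_eP]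
      exact isClosed_eP X
    rw [Groth.Agent.Localalg.GrpDim.ringKrullDim_stalk X.hom _ h1, hdX]
  let _ : X.left.Over (Spec (CommRingCat.of k)) := ⟨X.hom⟩
  have : Smooth (X.left ↘ Spec (CommRingCat.of k)) := hX1
  have hreg : IsRegularLocalRing R' := Groth.Agent.S1535.result k X.left _
  obtain ⟨l, hl1, hl2⟩ := Groth.Agent.CalgB.RegPar.exists_list R' hdR'
  have hl3 := Groth.Agent.CalgA.RegBasic.isRegular_of_ofList_eq g R' l hl1 hdR' hl2
  let _ : Algebra R' (Loc A) := (p.left.stalkMap (eP A)).hom.toAlgebra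
  have hfl : Module.Flat R' (Loc A) := Flat.stalkMap p.left (eP A)
  have hl4 : IsWeaklyRegular (Loc A) (l.map (algebraMap R' (Loc A))) := hl3.toIsWeaklyRegular.of_flat
  refine ⟨l.map (algebraMap R' (Loc A)), hl4, by rw [List.length_map, hl1], fun B φ => ?_⟩
  rw [← Ideal.map_ofList, hl2, factors_iff i p hk, Ideal.map_le_iff_le_comap]
  rfl

end K504.KerReg
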