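import Groth.Agent.AbVar.K504.Fam
import Groth.Agent.AbVar.K504.KL
import Groth.Agent.AbVar.K504.KerReg
import Groth.Agent.Sga3B.BcPts
import Groth.Agent.Grpsch.CubePush

/-!
# The family `Λ(L)` on `A × Spec O_{A,0}`
-/

set_option autoImplicit false
universe u

open CategoryTheory Limits MonoidalCategory CartesianMonoidalCategory MonObj GrpObj AlgebraicGeometry
open RingTheory.Sequence

namespace K504.AVFam

open Groth.Agent.Sga7.H620.TorsCount K504.KerReg K504.H0Kill K504.Fam
open Groth.Agent.Grpsch Groth.Agent.Grpsch.PicGrp Groth.Agent.Grpsch.Cube Groth.Agent.Sga7.H515.FKLam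
  Groth.Agent.Sga7.H515.FKSub Groth.Agent.Fdesc.LocGen

/-- The vanishing of the cohomology of non-trivial translation invariant line bundles (S7804). -/
def VanHyp : Prop :=
  ∀ (K : Type u) [Field K] (X : Over (Spec (CommRingCat.of K)))
    [GrpObj X] [IsProper X.hom] [GeometricallyIntegral X.hom] (L : X.left.Modules) (_ : PicF.IsInvertible L)
    (_ : Nonempty ((Scheme.Modules.pullback μ[X].left).obj L ≅
      CohB1.tensorMod ((Scheme.Modules.pullback (fst X X).left).obj L) ((Scheme.Modules.pullback (snd X X).left).obj L))),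
    (¬ Nonempty (L ≅ Coh.structureModule X.left)) → ∀ i : ℕ, Subsingleton (Coh.HH X.left L i)

section Bc

variable {k : Type u} [Field k] {A : Over (Spec (CommRingCat.of k))} [GrpObj A]

/-- a point of the base change, as a point over the base -/
noncomputable def dn {T : Over (Spec (CommRingCat.of k))} {Z : Over T.left} (h : Z ⟶ Red.bc T.hom A) :
    (Over.map T.hom).obj Z ⟶ A :=
  (Groth.Agent.Sga3B.BcPts.bcEquiv T.hom Z A).symm h

theorem dn_mul {T : Over (Spec (CommRingCat.of k))} {Z : Over T.left} (h h' : Z ⟶ Red.bc T.hom A) :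
    dn (h * h') = dn h * dn h' :=
  (Groth.Agent.Sga3B.BcPts.bcMulEquiv T.hom Z A).symm.map_mul h h'

theorem dn_left {T : Over (Spec (CommRingCat.of k))} {Z : Over T.left} (h : Z ⟶ Red.bc T.hom A) :
    (dn h).left = h.left ≫ pullback.fst A.hom T.hom := by
  unfold dn Groth.Agent.Sga3B.BcPts.bcEquiv
  rw [Adjunction.homEquiv_symm_apply]
  rfl

/-- `h` as a morphism over the base to the product. -/
noncomputable def dk {T : Over (Spec (CommRingCat.of k))} {Z : Over T.left} (h : Z ⟶ Red.bc T.hom A) :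
    (Over.map T.hom).obj Z ⟶ A ⊗ T :=
  lift (dn h) (Over.homMk Z.hom rfl)

theorem dk_left {T : Over (Spec (CommRingCat.of k))} {Z : Over T.left} (h : Z ⟶ Red.bc T.hom A) :
    (dk h).left = h.left := by
  have h1 : (dk h).left ≫ pullback.fst A.hom T.hom = (dn h).left :=
    congrArg CommaMorphism.left (lift_fst (dn h) (Over.homMk Z.hom rfl))
  have h2 : (dk h).left ≫ pullback.snd A.hom T.hom = Z.hom :=
    congrArg CommaMorphism.left (lift_snd (dn h) (Over.homMk Z.hom rfl))
  apply pullback.hom_ext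
  · rw [h1, dn_left]
  · rw [h2]
    exact (Over.w h).symm

theorem pull_cl (L : Pic A.left) {T : Over (Spec (CommRingCat.of k))} (x : T ⟶ A) {Z : Over T.left}
    (h : Z ⟶ Red.bc T.hom A) :
    pull h.left (cl L (𝟙 A) x) = lam L (dn h) (Over.homMk Z.hom rfl ≫ x) := by
  have h1 : pull h.left (cl L (𝟙 A) x) = pl (dk h) (cl L (𝟙 A) x) := by
    change _ = pull (dk h).left _
    rw [dk_left]
  rw [h1, dk, pl_lift_cl, Category.comp_id]

variable [IsProper A.hom] [GeometricallyIntegral A.hom]

theorem pull_mul (L : Pic A.left) {T : Over (Spec (CommRingCat.of k))} (x : T ⟶ A) :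
    pull (μ[Red.bc T.hom A]).left (cl L (𝟙 A) x) =
      pull (fst (Red.bc T.hom A) (Red.bc T.hom A)).left (cl L (𝟙 A) x) *
      pull (snd (Red.bc T.hom A) (Red.bc T.hom A)).left (cl L (𝟙 A) x) := by
  rw [pull_cl, pull_cl, pull_cl, ← lam_mul_left, ← dn_mul]
  congr 2
  change _ = lift (fst _ _) (snd _ _) ≫ μ
  rw [lift_fst_snd, Category.id_comp]

/-- The vanishing over the points outside of `K(L)`. -/
theorem vanAt (hV : VanHyp.{u}) (L : Pic A.left) {K : Type u} [Field K] (t : Spec (CommRingCat.of K) ⟶ Spec (CommRingCat.of k))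
    (x : Over.mk t ⟶ A) (hx : cl L (𝟙 A) x ≠ 1) (F : (A ⊗ Over.mk t).left.Modules) (hF : PicF.IsInvertible F)
    (hcl : mk F hF = cl L (𝟙 A) x) (i : ℕ) : Subsingleton (Coh.HH (A ⊗ Over.mk t).left F i) := by
  have i1 : IsProper (Red.bc t A).hom := inferInstanceAs (IsProper (pullback.snd A.hom t))
  have i2 : GeometricallyIntegral (Red.bc t A).hom := inferInstanceAs (GeometricallyIntegral (pullback.snd A.hom t))
  refine hV K (Red.bc t A) F hF ?_ ?_ i
  · have h := pull_mul L x
    rw [← hcl] at h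
    exact (mk_eq_iff (isInvertible_pullback _ hF) (isInvertible_tensorMod (isInvertible_pullback _ hF)
      (isInvertible_pullback _ hF))).mp h
  · intro h
    exact hx (hcl ▸ (mk_eq_one_iff hF).mpr h)

end Bc

section Fam

variable {k : Type u} [Field k] (A : Over (Spec (CommRingCat.of k))) [GrpObj A]

/-- the local scheme at the unit, over the base -/
noncomputable abbrev tR : Over (Spec (CommRingCat.of k)) := Over.mk (A.left.fromSpecStalk (eP A) ≫ A.hom)

/-- the local scheme at the unit, as a point -/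
noncomputable abbrev xR : tR A ⟶ A := Over.homMk (A.left.fromSpecStalk (eP A)) rfl

variable {A}

/-- an algebra over the local ring, as a scheme over the base -/
noncomputable abbrev tB {B : CommRingCat.{u}} (φ : Loc A ⟶ B) : Over (Spec (CommRingCat.of k)) :=
  Over.mk (Spec.map φ ≫ (tR A).hom)

/-- its point -/
noncomputable abbrev vB {B : CommRingCat.{u}} (φ : Loc A ⟶ B) : tB φ ⟶ tR A := Over.homMk (Spec.map φ) rfl

/-- the cartesian square -/
theorem isPullback_B {B : CommRingCat.{u}} (φ : Loc A ⟶ B) :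
    IsPullback (A ◁ vB φ).left (snd A (tB φ)).left (snd A (tR A)).left (Spec.map φ) :=
  Groth.Agent.Picfga.HilbPull.isPullback_XTmap A.hom (vB φ)

theorem mk_pullback (L : Pic A.left) (E : (A ⊗ tR A).left.Modules) (hE : PicF.IsInvertible E)
    (hcl : mk E hE = cl L (𝟙 A) (xR A)) {B : CommRingCat.{u}} (φ : Loc A ⟶ B) :
    mk ((Scheme.Modules.pullback (A ◁ vB φ).left).obj E) (isInvertible_pullback _ hE) =
      cl L (𝟙 A) (vB φ ≫ xR A) := by
  rw [← pull_mk _ hE, hcl]
  exact pl_whisker_cl L (𝟙 A) (xR A) (vB φ)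

theorem trivAt_iff (L : Pic A.left) (E : (A ⊗ tR A).left.Modules) (hE : PicF.IsInvertible E)
    (hcl : mk E hE = cl L (𝟙 A) (xR A)) {B : CommRingCat.{u}} (φ : Loc A ⟶ B) :
    TrivAt (snd A (tR A)).left E φ ↔ cl L (𝟙 A) (vB φ ≫ xR A) = 1 := by
  let e := (isPullback_B φ).isoIsPullback _ _ (IsPullback.of_hasPullback (snd A (tR A)).left (Spec.map φ))
  have he : e.hom ≫ pullback.fst (snd A (tR A)).left (Spec.map φ) = (A ◁ vB φ).left :=
    IsPullback.isoIsPullback_hom_fst _ _ _ _
  have h5 : cl L (𝟙 A) (vB φ ≫ xR A) =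
      pull e.hom (pull (pullback.fst (snd A (tR A)).left (Spec.map φ)) (mk E hE)) := by
    rw [← pull_comp, he, pull_mk, mk_pullback L E hE hcl φ]
  rw [TrivAt, ← mk_eq_one_iff (isInvertible_pullback _ hE), ← pull_mk, h5]
  constructor
  · intro h
    rw [h, map_one]
  · intro h
    have := congrArg (pull e.inv) h
    rwa [← pull_comp, e.inv_hom_id, pull_id, map_one] at this

end Fam

end K504.AVFam
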