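import Mathlib.LinearAlgebra.Alternating.Uncurry.Fin

/-!
# The Chevalley-Eilenberg (Koszul) differential on alternating maps with values in a group with commuting operators
-/

set_option autoImplicit false

open AlternatingMap Fin

namespace K504.AltAb

variable {W W' : Type*} [AddCommGroup W] [AddCommGroup W'] {G H : Type*} [AddCommGroup G] [AddCommGroup H]

/-- `v ↦ τ_v ∘ α` -/
def tw (τ : W →ₗ[ℤ] (G →ₗ[ℤ] G)) (q : ℕ) (α : W [⋀^Fin q]→ₗ[ℤ] G) : W →ₗ[ℤ] (W [⋀^Fin q]→ₗ[ℤ] G) where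
  toFun v := (τ v).compAlternatingMap α
  map_add' v w := by
    ext x
    simp
  map_smul' a v := by
    ext x
    simp

/-- The differential. -/
def d (τ : W →ₗ[ℤ] (G →ₗ[ℤ] G)) (q : ℕ) : (W [⋀^Fin q]→ₗ[ℤ] G) →ₗ[ℤ] (W [⋀^Fin (q + 1)]→ₗ[ℤ] G) where
  toFun α := alternatizeUncurryFin (tw τ q α)
  map_add' α β := by
    rw [← alternatizeUncurryFin_add]
    congr 1
    ext v x
    simp [tw]
  map_smul' a α := by
    rw [RingHom.id_apply, ← alternatizeUncurryFin_smul]
    congr 1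
    ext v x
    simp [tw]

theorem d_apply (τ : W →ₗ[ℤ] (G →ₗ[ℤ] G)) (q : ℕ) (α : W [⋀^Fin q]→ₗ[ℤ] G) (v : Fin (q + 1) → W) :
    d τ q α v = ∑ i : Fin (q + 1), (-1) ^ (i : ℕ) • τ (v i) (α (i.removeNth v)) :=
  alternatizeUncurryFin_apply _ v

theorem d_d (τ : W →ₗ[ℤ] (G →ₗ[ℤ] G)) (hτ : ∀ v w x, τ v (τ w x) = τ w (τ v x)) (q : ℕ)
    (α : W [⋀^Fin q]→ₗ[ℤ] G) : d τ (q + 1) (d τ q α) = 0 := by
  let f : W →ₗ[ℤ] W →ₗ[ℤ] (W [⋀^Fin q]→ₗ[ℤ] G) :=
    LinearMap.mk₂ ℤ (fun v w => (τ v).compAlternatingMap ((τ w).compAlternatingMap α))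
      (fun a b w => by ext x; simp) (fun a b w => by ext x; simp) (fun a b w => by ext x; simp)
      (fun a b w => by ext x; simp)
  have h1 : d τ (q + 1) (d τ q α) = alternatizeUncurryFin (alternatizeUncurryFinLM ∘ₗ f) := by
    change alternatizeUncurryFin (tw τ (q + 1) (alternatizeUncurryFin (tw τ q α))) = _
    congr 1
    ext v x
    change τ v (alternatizeUncurryFin (tw τ q α) x) = alternatizeUncurryFin (f v) x
    rw [alternatizeUncurryFin_apply, alternatizeUncurryFin_apply, map_sum]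
    refine Finset.sum_congr rfl fun i _ => ?_
    rw [map_zsmul]
    rfl
  rw [h1]
  exact alternatizeUncurryFin_alternatizeUncurryFinLM_comp_of_symmetric fun v w => by
    ext x
    exact hτ v w _

theorem d_comp {τ : W →ₗ[ℤ] (G →ₗ[ℤ] G)} {σ : W →ₗ[ℤ] (H →ₗ[ℤ] H)} (f : G →ₗ[ℤ] H)
    (hf : ∀ v x, f (τ v x) = σ v (f x)) (q : ℕ) (α : W [⋀^Fin q]→ₗ[ℤ] G) :
    f.compAlternatingMap (d τ q α) = d σ q (f.compAlternatingMap α) := by
  ext v
  change f (d τ q α v) = _
  rw [d_apply, d_apply, map_sum]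
  refine Finset.sum_congr rfl fun i _ => ?_
  rw [map_zsmul, hf]
  rfl

theorem d_compLinearMap (τ : W →ₗ[ℤ] (G →ₗ[ℤ] G)) (u : W' →ₗ[ℤ] W) (q : ℕ) (α : W [⋀^Fin q]→ₗ[ℤ] G) :
    (d τ q α).compLinearMap u = d (τ ∘ₗ u) q (α.compLinearMap u) := by
  ext v
  rw [AlternatingMap.compLinearMap_apply, d_apply, d_apply]
  rfl

/-- contraction -/
def con (e : W) (q : ℕ) : (W [⋀^Fin (q + 1)]→ₗ[ℤ] G) →ₗ[ℤ] (W [⋀^Fin q]→ₗ[ℤ] G) where
  toFun α := α.curryLeft e
  map_add' _ _ := rfl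
  map_smul' _ _ := rfl

theorem con_apply (e : W) (q : ℕ) (α : W [⋀^Fin (q + 1)]→ₗ[ℤ] G) (v : Fin q → W) :
    con e q α v = α (Fin.cons e v) := rfl

theorem con_comp (f : G →ₗ[ℤ] H) (e : W) (q : ℕ) (α : W [⋀^Fin (q + 1)]→ₗ[ℤ] G) :
    f.compAlternatingMap (con e q α) = con e q (f.compAlternatingMap α) := rfl

omit [AddCommGroup W] in
theorem removeNth_cons_succ {n : ℕ} (e : W) (v : Fin (n + 1) → W) (i : Fin (n + 1)) :
    i.succ.removeNth (Fin.cons e v : Fin (n + 2) → W) = Fin.cons e (i.removeNth v) := by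
  funext j
  refine Fin.cases ?_ (fun j => ?_) j
  · simp [Fin.removeNth_apply]
  · simp [Fin.removeNth_apply]

/-- **Cartan's formula** in degrees `≥ 1`. -/
theorem cartan (τ : W →ₗ[ℤ] (G →ₗ[ℤ] G)) (e : W) (q : ℕ) (α : W [⋀^Fin (q + 1)]→ₗ[ℤ] G) :
    d τ q (con e q α) + con e (q + 1) (d τ (q + 1) α) = (τ e).compAlternatingMap α := by
  ext v
  rw [AlternatingMap.add_apply, d_apply, con_apply, d_apply, Fin.sum_univ_succ (n := q + 1)]
  have h1 : (0 : Fin (q + 1 + 1)).removeNth (Fin.cons e v : Fin (q + 1 + 1) → W) = v := by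
    funext j
    simp [Fin.removeNth_apply]
  rw [h1]
  simp only [Fin.cons_zero, Fin.val_zero, pow_zero, one_smul, Fin.cons_succ, Fin.val_succ, removeNth_cons_succ,
    con_apply]
  have h2 : ∀ i : Fin (q + 1), (-1 : ℤ) ^ ((i : ℕ) + 1) • τ (v i) (α (Fin.cons e (i.removeNth v))) =
      - ((-1 : ℤ) ^ (i : ℕ) • τ (v i) (α (Fin.cons e (i.removeNth v)))) := fun i => by
    rw [pow_succ, mul_neg_one, neg_smul]
  rw [Finset.sum_congr rfl fun i _ => h2 i, Finset.sum_neg_distrib]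
  change _ + (_ + - _) = τ e (α v)
  abel

/-- Cartan's formula in degree `0`. -/
theorem cartan_zero (τ : W →ₗ[ℤ] (G →ₗ[ℤ] G)) (e : W) (α : W [⋀^Fin 0]→ₗ[ℤ] G) :
    con e 0 (d τ 0 α) = (τ e).compAlternatingMap α := by
  ext v
  rw [con_apply, d_apply, Fin.sum_univ_succ]
  simp only [Fin.cons_zero, Fin.val_zero, pow_zero, one_smul, Finset.univ_eq_empty, Finset.sum_empty, add_zero]
  change τ e _ = τ e (α v)
  congr 2

/-! ### A splitting `v = p v + e* v • e` -/

section split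

variable (p : W →ₗ[ℤ] W) (e : W) (es : W →ₗ[ℤ] ℤ) (hv : ∀ v, p v + es v • e = v) (hpe : p e = 0)

/-- curried contraction with zero -/
theorem con_compLinearMap_comm (w : W) (q : ℕ) (α : W [⋀^Fin (q + 1)]→ₗ[ℤ] G) (hw : p w = w) :
    (con w q α).compLinearMap p = con w q (α.compLinearMap p) := by
  ext v
  change α (Fin.cons w fun i => p (v i)) = α fun i => p ((Fin.cons w v : Fin (q + 1) → W) i)
  congr 1
  funext i
  refine Fin.cases ?_ (fun i => ?_) i
  · simp [hw]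
  · simp

theorem con_con (v w : W) (q : ℕ) (α : W [⋀^Fin (q + 1 + 1)]→ₗ[ℤ] G) :
    con v q (con w (q + 1) α) = - con w q (con v (q + 1) α) := by
  ext x
  rw [con_apply, con_apply, AlternatingMap.neg_apply, con_apply, con_apply]
  have h1 := α.map_swap (Fin.cons v (Fin.cons w x : Fin (q + 1) → W)) (show (0 : Fin (q + 1 + 1)) ≠ 1 by simp)
  rw [← h1]
  congr 1
  funext i
  refine Fin.cases ?_ (fun i => Fin.cases ?_ (fun i => ?_) i) i
  · simp
  · simp
  · simp only [Fin.cons_succ, Function.comp_apply]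
    rw [Equiv.swap_apply_of_ne_of_ne (by simp) (by
      intro h
      have := congrArg Fin.val h
      simp at this)]
    simp

theorem con_self (e : W) (q : ℕ) (α : W [⋀^Fin (q + 1 + 1)]→ₗ[ℤ] G) : con e q (con e (q + 1) α) = 0 :=
  AlternatingMap.curryLeft_same α e

theorem con_add (v w : W) (q : ℕ) (α : W [⋀^Fin (q + 1)]→ₗ[ℤ] G) : con (v + w) q α = con v q α + con w q α :=
  map_add α.curryLeft v w

theorem con_smul (a : ℤ) (v : W) (q : ℕ) (α : W [⋀^Fin (q + 1)]→ₗ[ℤ] G) : con (a • v) q α = a • con v q α :=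
  map_smul α.curryLeft a v

include hv hpe in
theorem p_p (v : W) : p (p v) = p v := by
  conv_rhs => rw [← hv v]
  rw [map_add, map_smul, hpe, smul_zero, add_zero]

include hv in
theorem eq_zero_aux (q : ℕ) (α : W [⋀^Fin (q + 1)]→ₗ[ℤ] G) (h1 : ∀ v, con (p v) q α = 0) (h2 : con e q α = 0) :
    α = 0 := by
  ext v
  have h3 : v = Fin.cons (v 0) (Fin.tail v) := (Fin.cons_self_tail v).symm
  rw [h3]
  have h4 : con (v 0) q α = 0 := by
    rw [← hv (v 0), con_add, con_smul, h1, h2, smul_zero, add_zero]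
  exact DFunLike.congr_fun h4 (Fin.tail v)

include hv hpe in
/-- **Lemma Z.** An alternating map is zero if it and its contraction by `e` vanish on `p W`. -/
theorem eq_zero (q : ℕ) (α : W [⋀^Fin (q + 1)]→ₗ[ℤ] G) (h1 : α.compLinearMap p = 0)
    (h2 : (con e q α).compLinearMap p = 0) : α = 0 := by
  induction q with
  | zero =>
    refine eq_zero_aux p e es hv 0 α (fun v => ?_) ?_
    · ext x
      have h3 := DFunLike.congr_fun h1 (Fin.cons v x)
      rw [con_apply]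
      refine Eq.trans ?_ h3
      change α _ = α _
      congr 1
      funext i
      refine Fin.cases ?_ (fun i => i.elim0) i
      simp
    · ext x
      have h3 := DFunLike.congr_fun h2 x
      refine Eq.trans ?_ h3
      change con e 0 α x = con e 0 α _
      congr 1
      exact Subsingleton.elim _ _
  | succ q ih =>
    refine eq_zero_aux p e es hv (q + 1) α (fun v => ?_) ?_
    · refine ih _ ?_ ?_
      · rw [con_compLinearMap_comm p _ _ _ (p_p p e es hv hpe v), h1, _root_.map_zero]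
      · rw [con_con]
        have h3 : (-con (p v) q (con e (q + 1) α)).compLinearMap p =
          -((con (p v) q (con e (q + 1) α)).compLinearMap p) := rfl
        rw [h3, con_compLinearMap_comm p _ _ _ (p_p p e es hv hpe v), h2, _root_.map_zero, neg_zero]
    · refine ih _ h2 ?_
      rw [con_self, AlternatingMap.zero_compLinearMap]

/-- wedge with `e*`, as the differential for `τ = e*` -/
def wd (q : ℕ) : (W [⋀^Fin q]→ₗ[ℤ] G) →ₗ[ℤ] (W [⋀^Fin (q + 1)]→ₗ[ℤ] G) :=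
  d (LinearMap.toSpanSingleton ℤ _ (LinearMap.id : G →ₗ[ℤ] G) ∘ₗ es) q

theorem wd_apply (q : ℕ) (α : W [⋀^Fin q]→ₗ[ℤ] G) (v : Fin (q + 1) → W) :
    wd es q α v = ∑ i : Fin (q + 1), (-1) ^ (i : ℕ) • es (v i) • α (i.removeNth v) :=
  d_apply _ _ _ _

theorem wd_comp (f : G →ₗ[ℤ] H) (q : ℕ) (α : W [⋀^Fin q]→ₗ[ℤ] G) :
    f.compAlternatingMap (wd es q α) = wd es q (f.compAlternatingMap α) :=
  d_comp f (fun v x => map_smul f (es v) x) q α

include hv in
theorem es_p (hes : es e = 1) (v : W) : es (p v) = 0 := by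
  have h1 := congrArg es (hv v)
  rw [map_add, map_smul, hes, smul_eq_mul, mul_one] at h1
  omega

include hv in
theorem wd_p (hes : es e = 1) (q : ℕ) (α : W [⋀^Fin q]→ₗ[ℤ] G) : (wd es q α).compLinearMap p = 0 := by
  ext v
  rw [AlternatingMap.compLinearMap_apply, wd_apply]
  refine Finset.sum_eq_zero fun i _ => ?_
  rw [es_p p e es hv hes, zero_smul, smul_zero]

theorem smul_id (v : W) (q : ℕ) (α : W [⋀^Fin q]→ₗ[ℤ] G) :
    ((LinearMap.toSpanSingleton ℤ _ (LinearMap.id : G →ₗ[ℤ] G) ∘ₗ es) v).compAlternatingMap α = es v • α := rfl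

include hv hpe in
theorem wd_eq_zero (hes : es e = 1) (q : ℕ) (β : W [⋀^Fin q]→ₗ[ℤ] G) (hβ : β.compLinearMap p = 0) :
    wd es q β = 0 := by
  refine eq_zero p e es hv hpe q _ (wd_p p e es hv hes q β) ?_
  cases q with
  | zero =>
    have h1 := cartan_zero (LinearMap.toSpanSingleton ℤ _ (LinearMap.id : G →ₗ[ℤ] G) ∘ₗ es) e β
    rw [smul_id, hes, one_smul] at h1
    change (con e 0 (d _ 0 β)).compLinearMap p = 0
    rw [h1, hβ]
  | succ q =>
    have h1 := cartan (LinearMap.toSpanSingleton ℤ _ (LinearMap.id : G →ₗ[ℤ] G) ∘ₗ es) e q β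
    rw [smul_id, hes, one_smul] at h1
    have h2 := wd_p p e es hv hes q (con e q β)
    have h3 : (con e (q + 1) (wd es (q + 1) β)).compLinearMap p =
        β.compLinearMap p - (wd es q (con e q β)).compLinearMap p := by
      have h4 : con e (q + 1) (wd es (q + 1) β) = β - wd es q (con e q β) := by
        rw [eq_sub_iff_add_eq]
        exact (_root_.add_comm _ _).trans h1
      rw [h4]
      rfl
    rw [h3, h2, hβ, sub_zero]

include hv hpe in
/-- `e* ∧ α = e* ∧ (α ∘ p)` -/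
theorem wd_eq (hes : es e = 1) (q : ℕ) (α : W [⋀^Fin q]→ₗ[ℤ] G) : wd es q α = wd es q (α.compLinearMap p) := by
  rw [← sub_eq_zero, ← map_sub]
  refine wd_eq_zero p e es hv hpe hes q _ ?_
  ext v
  change α _ - α _ = 0
  simp only [p_p p e es hv hpe, sub_self]

end split

/-- the differential of `τ = τ₀ + e* s` -/
theorem d_cons (es : W →ₗ[ℤ] ℤ) (τ τ₀ : W →ₗ[ℤ] (G →ₗ[ℤ] G)) (s : G →ₗ[ℤ] G) (h : ∀ v x, τ v x = τ₀ v x + es v • s x) (q : ℕ)
    (α : W [⋀^Fin q]→ₗ[ℤ] G) : d τ q α = d τ₀ q α + s.compAlternatingMap (wd es q α) := by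
  ext v
  rw [AlternatingMap.add_apply, d_apply, d_apply, LinearMap.compAlternatingMap_apply, wd_apply,
    map_sum, ← Finset.sum_add_distrib]
  refine Finset.sum_congr rfl fun i _ => ?_
  rw [map_zsmul, map_zsmul, ← smul_add, h]

theorem comp_comp_id (u : W →ₗ[ℤ] W') (v : W' →ₗ[ℤ] W) (h : ∀ x, v (u x) = x) (q : ℕ) (α : W [⋀^Fin q]→ₗ[ℤ] G) :
    (α.compLinearMap v).compLinearMap u = α := by
  ext x
  change α _ = α _
  simp only [h]

end K504.AltAb
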