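import Groth.Agent.AbVar.K504.AltPb
import Groth.Agent.LoccohA.OmBC

/-!
# Base change for `CE(ℤ^m, F, t)`
-/

set_option autoImplicit false

universe w w' u v

open CategoryTheory CategoryTheory.Limits Opposite TopologicalSpace

namespace K504.AltBC

open AltSh AltSES AltPb HTN HTBase AltHT Groth.Agent.LoccohA.OmEdge Groth.Agent.CohtopB.TopPull

/-! ### The splitting of `ℤ^{m+1}` -/

/-- `ℤ^{m+1} = ℤ^m ⊕ ℤ e` -/
def splFin (m : ℕ) : Spl (Fin m → ℤ) (Fin (m + 1) → ℤ) where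
  inc :=
    { toFun := fun v => Fin.cons 0 v
      map_add' := fun v w => by
        funext i
        refine Fin.cases ?_ (fun i => ?_) i <;> simp
      map_smul' := fun a v => by
        funext i
        refine Fin.cases ?_ (fun i => ?_) i <;> simp }
  pr :=
    { toFun := fun v => Fin.tail v
      map_add' := fun _ _ => rfl
      map_smul' := fun _ _ => rfl }
  e := Fin.cons 1 0
  es := LinearMap.proj 0
  pr_inc v := by
    funext i
    rfl
  pr_e := by
    funext i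
    rfl
  es_e := rfl
  dec v := by
    funext i
    refine Fin.cases ?_ (fun i => ?_) i
    · simp
    · simp
      rfl

section gen

variable {C : Type u} [SmallCategory C] {J : GrothendieckTopology C}
  {W' W : Type} [AddCommGroup W'] [AddCommGroup W]

theorem exists_cons (S : Spl W' W) {F : Sheaf J AddCommGrpCat.{u}} (t : W →+ (F ⟶ F)) :
    t = cons S (t.comp S.inc.toAddMonoidHom) (t S.e) := by
  refine AddMonoidHom.ext fun v => ?_
  rw [cons_apply]
  conv_lhs => rw [← S.dec v, map_add, map_zsmul]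
  rfl

theorem comm_of_cons {S : Spl W' W} {F : Sheaf J AddCommGrpCat.{u}} {t₀ : W' →+ (F ⟶ F)} {s : F ⟶ F}
    (h : Comm (cons S t₀ s)) : Comm t₀ := fun v w => by
  have := h (S.inc v) (S.inc w)
  rwa [cons_inc, cons_inc] at this

theorem comm_of_cons' {S : Spl W' W} {F : Sheaf J AddCommGrpCat.{u}} {t₀ : W' →+ (F ⟶ F)} {s : F ⟶ F}
    (h : Comm (cons S t₀ s)) (v : W') : t₀ v ≫ s = s ≫ t₀ v := by
  have := h (S.inc v) S.e
  rwa [cons_inc, cons_e] at this

/-- `F = Alt^0(W, F)` -/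
noncomputable def i0 (W : Type) [AddCommGroup W] (F : Sheaf J AddCommGrpCat.{u}) : F ≅ (altSh W 0).obj F where
  hom := ⟨{ app := fun U => AddCommGrpCat.ofHom (X := F.obj.obj U) (Y := W [⋀^Fin 0]→ₗ[ℤ] F.obj.obj U)
              { toFun := fun x => AlternatingMap.constOfIsEmpty ℤ W (Fin 0) x
                map_zero' := by ext v; rfl
                map_add' := fun x y => by ext v; rfl }
            naturality := fun U V i => by
              ext x
              rfl }⟩
  inv := ⟨{ app := fun U => AddCommGrpCat.ofHom (X := W [⋀^Fin 0]→ₗ[ℤ] F.obj.obj U) (Y := F.obj.obj U)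
              { toFun := fun α => α 0
                map_zero' := rfl
                map_add' := fun x y => rfl }
            naturality := fun U V i => by
              ext x
              rfl }⟩
  hom_inv_id := by
    refine hom_ext' fun U x => ?_
    rfl
  inv_hom_id := by
    refine hom_ext' fun U α => ?_
    refine AlternatingMap.ext (R := ℤ) (M := W) (N := F.obj.obj U) (ι := Fin 0)
      (f := AlternatingMap.constOfIsEmpty ℤ W (Fin 0) ((show W [⋀^Fin 0]→ₗ[ℤ] F.obj.obj U from α) 0)) (f' := α)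
      fun v => ?_
    change (show W [⋀^Fin 0]→ₗ[ℤ] F.obj.obj U from α) 0 = (show W [⋀^Fin 0]→ₗ[ℤ] F.obj.obj U from α) v
    rw [Subsingleton.elim v 0]

theorem i0_hom (W : Type) [AddCommGroup W] (F : Sheaf J AddCommGrpCat.{u}) (U : Cᵒᵖ) (x : F.obj.obj U) :
    ap (i0 W F).hom U x = AlternatingMap.constOfIsEmpty ℤ W (Fin 0) x := rfl

theorem isZero_alt (q : ℕ) (F : Sheaf J AddCommGrpCat.{u}) : IsZero ((altSh (Fin 0 → ℤ) (q + 1)).obj F) := by
  rw [IsZero.iff_id_eq_zero]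
  refine hom_ext' fun U α => ?_
  refine AlternatingMap.ext (R := ℤ) (M := Fin 0 → ℤ) (N := F.obj.obj U) (ι := Fin (q + 1)) (f := α) (f' := 0)
    fun v => ?_
  rw [Subsingleton.elim v 0]
  exact (show (Fin 0 → ℤ) [⋀^Fin (q + 1)]→ₗ[ℤ] F.obj.obj U from α).map_zero

end gen

section BCsec

variable {X Y : TopCat.{u}} (f : Y ⟶ X) [HasDerivedCategory.{w} (CohTop.Ab X)] [HasDerivedCategory.{w'} (CohTop.Ab Y)]
  {F : CohTop.Ab X} {G : CohTop.Ab Y} {ι : Type v} (θ : ι → (F ⟶ (CohTop.push f).obj G))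
  {T : CohTop.Ab X} {T' : CohTop.Ab Y} (c : T' ⟶ (CohTop.pull f).obj T)
  {W' W : Type} [AddCommGroup W'] [AddCommGroup W]

theorem BC_step (S : Spl W' W) {t₀ : W' →+ (F ⟶ F)} (h₀ : Comm t₀) {s : F ⟶ F}
    (hs : ∀ v, t₀ v ≫ s = s ≫ t₀ v) {t₀' : W' →+ (G ⟶ G)} (h₀' : Comm t₀') {s' : G ⟶ G}
    (hs' : ∀ v, t₀' v ≫ s' = s' ≫ t₀' v) (hθ : ∀ i, Tw f (θ i) t₀ t₀')
    (hθs : ∀ i, θ i ≫ (CohTop.push f).map s' = s ≫ θ i)
    (H : BC (CohTop.pull f) c (fun i => CEpb f (θ i) h₀ h₀' (hθ i))) :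
    BC (CohTop.pull f) c (fun i => CEpb f (θ i) (comm_cons S h₀ hs) (comm_cons S h₀' hs')
      (Tw_cons f (θ i) S (hθ i) (hθs i))) := by
  have HN : BC (CohTop.pull f) c (fun i => Npb f (θ i) S h₀ h₀' (hθ i)) :=
    BC.left (CohTop.pull f) c (S := sc S h₀ (s := 𝟙 F) id_comm) (shortExact_sc S h₀ id_comm)
      (S' := sc S h₀' (s := 𝟙 G) id_comm) (shortExact_sc S h₀' id_comm)
      (fun i => Npb f (θ i) S h₀ h₀' (hθ i))
      (fun i => CEpb f (θ i) (comm_cons S h₀ id_comm) (comm_cons S h₀' id_comm)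
        (Tw_cons f (θ i) S (hθ i) (one_comm f (θ i))))
      (fun i => CEpb f (θ i) h₀ h₀' (hθ i))
      (fun i => Npb_j f (θ i) S h₀ id_comm h₀' id_comm (hθ i) (one_comm f (θ i)))
      (fun i => CEpb_res f (θ i) S h₀ id_comm h₀' id_comm (hθ i) (one_comm f (θ i)))
      (BC.of_homotopy (CohTop.pull f) c _ (contr S h₀) (contr S h₀')) H
  exact BC.mid (CohTop.pull f) c (S := sc S h₀ hs) (shortExact_sc S h₀ hs)
      (S' := sc S h₀' hs') (shortExact_sc S h₀' hs')
      (fun i => Npb f (θ i) S h₀ h₀' (hθ i))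
      (fun i => CEpb f (θ i) (comm_cons S h₀ hs) (comm_cons S h₀' hs')
        (Tw_cons f (θ i) S (hθ i) (hθs i)))
      (fun i => CEpb f (θ i) h₀ h₀' (hθ i))
      (fun i => Npb_j f (θ i) S h₀ hs h₀' hs' (hθ i) (hθs i))
      (fun i => CEpb_res f (θ i) S h₀ hs h₀' hs' (hθ i) (hθs i)) HN H

omit [HasDerivedCategory.{w} (CohTop.Ab X)] [HasDerivedCategory.{w'} (CohTop.Ab Y)] in
theorem pbf_i0 (θ : F ⟶ (CohTop.push f).obj G) :
    (CohTop.pull f).map (i0 W F).hom ≫ pbf f θ W 0 = ((adj f).homEquiv F G).symm θ ≫ (i0 W G).hom :=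
  (symm_comm f θ (alθ f θ W 0) (i0 W F).hom (i0 W G).hom (by
    refine hom_ext' fun U x => ?_
    refine AlternatingMap.ext (R := ℤ) (M := W) (N := G.obj.obj (op ((Opens.map f).obj U.unop))) (ι := Fin 0)
      (f := AlternatingMap.constOfIsEmpty ℤ W (Fin 0) (ap θ U x))
      (f' := (ap θ U).toIntLinearMap.compAlternatingMap (AlternatingMap.constOfIsEmpty ℤ W (Fin 0) x))
      fun v => rfl)).symm

/-- **Base change for `CE`.** -/
theorem BC_CE (V : Opens X) (m : ℕ) (hbase : ∀ n, Function.Bijective (Groth.Agent.LoccohA.OmBC.Phi f θ n V))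
    {t : (Fin m → ℤ) →+ (F ⟶ F)} (ht : Comm t) {t' : (Fin m → ℤ) →+ (G ⟶ G)} (ht' : Comm t')
    (hθ : ∀ i, Tw f (θ i) t t') :
    BC (CohTop.pull f) (alp f V) (fun i => CEpb f (θ i) ht ht' (hθ i)) := by
  induction m with
  | zero =>
    refine BC_of_ext (CohTop.pull f) (alp f V) (CE t ht) (i0 _ F) (fun q => isZero_alt q F) (CE t' ht')
      (i0 _ G) (fun q => isZero_alt q G) (fun i => ((adj f).homEquiv F G).symm (θ i)) _ (fun j => ?_) hbase
    exact pbf_i0 f (θ j)
  | succ m ih =>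
    obtain ⟨t₀, s, rfl⟩ : ∃ t₀ s, t = cons (splFin m) t₀ s := ⟨_, _, exists_cons (splFin m) t⟩
    obtain ⟨t₀', s', rfl⟩ : ∃ t₀ s, t' = cons (splFin m) t₀ s := ⟨_, _, exists_cons (splFin m) t'⟩
    have h1 : ∀ i, Tw f (θ i) t₀ t₀' := fun i v => by
      have := hθ i ((splFin m).inc v)
      rwa [cons_inc, cons_inc] at this
    have h2 : ∀ i, θ i ≫ (CohTop.push f).map s' = s ≫ θ i := fun i => by
      have := hθ i (splFin m).e
      rwa [cons_e, cons_e] at this
    exact BC_step f θ (alp f V) (splFin m) (comm_of_cons ht) (comm_of_cons' ht) (comm_of_cons ht')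
      (comm_of_cons' ht') h1 h2 (ih (comm_of_cons ht) (comm_of_cons ht') h1)

end BCsec

end K504.AltBC
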