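import Groth.Agent.AbVar.K504.HTN

/-!
# Complexes concentrated in degree `0`: comparison of `HTN` with `Ext`
-/

set_option autoImplicit false

universe w w' w₁ w₂ v₁ v₂ u₁ u₂

open CategoryTheory CategoryTheory.Limits Abelian

namespace K504.HTBase

open K905.HTExact E1Deg K504.HTPb K504.HTN K504.HTPbExt Groth.Agent.Cohder.MapExtend
  Groth.Agent.LoccohA.OmMVCmp

section al

variable {A : Type u₁} [Category.{v₁} A] [Abelian A] (K : CochainComplex A ℕ) {F : A} (i : F ≅ K.X 0)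
  (hK : ∀ q, IsZero (K.X (q + 1)))

/-- degree `0` of the extension -/
noncomputable def x0 : (ex K).X (0 : ℤ) ≅ K.X 0 :=
  K.extendXIso ComplexShape.embeddingUpNat (ComplexShape.embeddingUpNat_f 0)

include hK in
theorem isZero_ex (q : ℤ) (hq : q ≠ 0) : IsZero ((ex K).X q) := by
  by_cases h : 0 ≤ q
  · obtain ⟨n, rfl⟩ := Int.eq_ofNat_of_zero_le h
    obtain ⟨m, rfl⟩ : ∃ m, n = m + 1 := Nat.exists_eq_succ_of_ne_zero (by
      intro h0
      apply hq
      rw [h0]
      rfl)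
    exact (hK m).of_iso (K.extendXIso ComplexShape.embeddingUpNat (ComplexShape.embeddingUpNat_f (m + 1)))
  · exact K.isZero_extend_X ComplexShape.embeddingUpNat q (fun i hi => h (by
      have : (i : ℤ) = q := hi
      omega))

/-- the comparison `F[0] ⟶ K` -/
noncomputable def al : (HomologicalComplex.single A (ComplexShape.up ℤ) 0).obj F ⟶ ex K :=
  HomologicalComplex.mkHomFromSingle (i.hom ≫ (x0 K).inv) (fun k hk => (isZero_ex K hK k (by
    have : (0 : ℤ) + 1 = k := hk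
    omega)).eq_of_tgt _ _)

theorem al_f : (al K i hK).f 0 = (HomologicalComplex.singleObjXSelf (ComplexShape.up ℤ) 0 F).hom ≫
    i.hom ≫ (x0 K).inv :=
  HomologicalComplex.mkHomFromSingle_f _ _

theorem isIso_al : IsIso (al K i hK) := by
  have h1 : ∀ q : ℤ, IsIso ((al K i hK).f q) := fun q => by
    by_cases hq : q = 0
    · subst hq
      rw [al_f]
      infer_instance
    · have z1 := HomologicalComplex.isZero_single_obj_X (ComplexShape.up ℤ) (0 : ℤ) F q hq
      have z2 := isZero_ex K hK q hq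
      rw [z1.eq_of_src ((al K i hK).f q) (z1.iso z2).hom]
      infer_instance
  exact HomologicalComplex.Hom.isIso_of_components _

end al

section pb

variable {A : Type u₁} [Category.{v₁} A] [Abelian A] [HasDerivedCategory.{w₁} A]
  {B : Type u₂} [Category.{v₂} B] [Abelian B] [HasDerivedCategory.{w₂} B]
  (L : A ⥤ B) [L.Additive] [PreservesFiniteLimits L] [PreservesFiniteColimits L]
  {T : A} {T' : B} (c : T' ⟶ L.obj T)

omit [HasDerivedCategory.{w₁} A] [HasDerivedCategory.{w₂} B] [PreservesFiniteLimits L] [PreservesFiniteColimits L] in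
theorem XIso'_XIso (K : CochainComplex A ℕ) (o : Option ℕ) (h : o = some 0) :
    (XIso' L K o).hom ≫ (HomologicalComplex.extend.XIso (mc L K) h).hom =
      L.map (HomologicalComplex.extend.XIso K h).hom := by
  subst h
  change 𝟙 _ ≫ 𝟙 _ = L.map (𝟙 _)
  rw [CategoryTheory.Functor.map_id]
  exact Category.id_comp _

omit [HasDerivedCategory.{w₁} A] [HasDerivedCategory.{w₂} B] [PreservesFiniteLimits L] [PreservesFiniteColimits L] in
theorem mapExtendIso_x0 (K : CochainComplex A ℕ) :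
    (mapExtendIso L K ComplexShape.embeddingUpNat).hom.f (0 : ℤ) ≫ (x0 (mc L K)).hom = L.map (x0 K).hom :=
  XIso'_XIso L K _ (ComplexShape.embeddingUpNat.r_eq_some (ComplexShape.embeddingUpNat_f 0))

omit [HasDerivedCategory.{w₁} A] [HasDerivedCategory.{w₂} B] [PreservesFiniteLimits L] [PreservesFiniteColimits L] in
theorem exm_x0 {K K' : CochainComplex A ℕ} (f : K ⟶ K') : (exm f).f (0 : ℤ) = (x0 K).hom ≫ f.f 0 ≫ (x0 K').inv :=
  HomologicalComplex.extendMap_f f ComplexShape.embeddingUpNat (ComplexShape.embeddingUpNat_f 0)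

variable (K : CochainComplex A ℕ) {F : A} (i : F ≅ K.X 0) (hK : ∀ q, IsZero (K.X (q + 1)))
  (K' : CochainComplex B ℕ) {G : B} (i' : G ≅ K'.X 0) (hK' : ∀ q, IsZero (K'.X (q + 1)))

omit [HasDerivedCategory.{w₁} A] [HasDerivedCategory.{w₂} B] [PreservesFiniteLimits L] [PreservesFiniteColimits L] in
theorem exL_x0 (ψ : mc L K ⟶ K') :
    (exL L ψ).f (0 : ℤ) = L.map (x0 K).hom ≫ ψ.f 0 ≫ (x0 K').inv := by
  have h1 := mapExtendIso_x0 L K
  rw [← h1]
  refine Eq.trans ?_ (Category.assoc _ _ _).symm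
  exact congrArg (fun t => (mapExtendIso L K ComplexShape.embeddingUpNat).hom.f (0 : ℤ) ≫ t) (exm_x0 ψ)

theorem abs₁ {D D' : Type*} [Category D] [Category D'] (L : D ⥤ D') {P P₀ Q R : D} {G K₀ E₀ Y Z : D'} {s : P ≅ P₀} {i : P₀ ≅ Q}
    {x : R ≅ Q} {s' : Y ≅ L.obj P₀} {θ : L.obj P₀ ⟶ G} {i' : G ≅ K₀} {x' : E₀ ≅ K₀} {ψ : L.obj Q ⟶ K₀}
    {sg : Z ≅ G} {t : Y ⟶ Z} (ht : t = s'.hom ≫ θ ≫ sg.inv)
    (h : L.map i.hom ≫ ψ = θ ≫ i'.hom) {a : Y ⟶ L.obj P} (ha : a = s'.hom ≫ L.map s.inv) {b : L.obj P ⟶ L.obj R}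
    (hb : b = L.map s.hom ≫ L.map i.hom ≫ L.map x.inv) {c : L.obj R ⟶ E₀} (hc : c = L.map x.hom ≫ ψ ≫ x'.inv)
    {d : Z ⟶ E₀} (hd : d = sg.hom ≫ i'.hom ≫ x'.inv) :
    t ≫ d = a ≫ b ≫ c := by
  subst ha hb hc hd ht
  simp only [Category.assoc, Iso.inv_hom_id_assoc]
  rw [← L.map_comp_assoc s.inv, Iso.inv_hom_id, CategoryTheory.Functor.map_id, Category.id_comp,
    ← L.map_comp_assoc x.inv, Iso.inv_hom_id,
    CategoryTheory.Functor.map_id, Category.id_comp, reassoc_of% h]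

omit [HasDerivedCategory.{w₁} A] [HasDerivedCategory.{w₂} B] [PreservesFiniteLimits L] [PreservesFiniteColimits L] in
theorem sgl_al (θ : L.obj F ⟶ G) (ψ : mc L K ⟶ K') (h : L.map i.hom ≫ ψ.f 0 = θ ≫ i'.hom) :
    sgl L θ ≫ al K' i' hK' = (L.mapHomologicalComplex (ComplexShape.up ℤ)).map (al K i hK) ≫ exL L ψ := by
  rw [← cancel_epi (sglL L F).inv]
  have e2 : ((sglL L F).inv ≫ sgl L θ) = (HomologicalComplex.single B (ComplexShape.up ℤ) 0).map θ := by
    rw [sgl, Iso.inv_hom_id_assoc]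
  rw [← Category.assoc, e2]
  refine HomologicalComplex.from_single_hom_ext ?_
  exact abs₁ L (HomologicalComplex.single_map_f_self (ComplexShape.up ℤ) 0 θ) h
    (HomologicalComplex.singleMapHomologicalComplex_inv_app_self L (ComplexShape.up ℤ) 0 F)
    ((congrArg L.map (al_f K i hK)).trans (by rw [L.map_comp, L.map_comp])) (exL_x0 L K K' ψ) (al_f K' i' hK')

variable [HasExt.{w} A] [HasExt.{w'} B]

include hK in
/-- `HTN` of a complex in degree `0` is `Ext` -/
noncomputable def eN (T : A) (m : ℕ) : HTN T K (m : ℤ) ≃+ Ext.{w} T F m :=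
  haveI := isIso_al K i hK
  (AddEquiv.mk' (Equiv.mk (HTmap T (inv (al K i hK)) (m : ℤ)) (HTmap T (al K i hK) (m : ℤ))
    (fun x => by rw [← HTmap_comp, IsIso.inv_hom_id, HTmap_id])
    (fun x => by rw [← HTmap_comp, IsIso.hom_inv_id, HTmap_id])) (fun x y => _root_.map_add (HTmap T (inv (al K i hK)) (m : ℤ)) x y)).trans
    (e0 T F m)

theorem eN_apply (T : A) (m : ℕ) (x : HTN T K (m : ℤ)) :
    haveI := isIso_al K i hK
    eN K i hK T m x = e0 T F m (HTmap T (inv (al K i hK)) (m : ℤ) x) := rfl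

theorem eN_pbN (θ : L.obj F ⟶ G) (ψ : mc L K ⟶ K') (h : L.map i.hom ≫ ψ.f 0 = θ ≫ i'.hom) (m : ℕ)
    (x : HTN T K (m : ℤ)) :
    eN K' i' hK' T' m (pbN L c ψ m x) = Groth.Agent.LoccohA.OmBase.pbA L c θ m (eN K i hK T m x) := by
  have i1 := isIso_al K i hK
  have i2 := isIso_al K' i' hK'
  rw [eN_apply, eN_apply, ← e0_pb]
  congr 1
  refine HTmap_pb L c (exL L ψ) (sgl L θ) (inv (al K i hK)) (inv (al K' i' hK')) ?_ m x
  rw [Functor.map_inv, IsIso.eq_inv_comp, ← Category.assoc, ← sgl_al L K i hK K' i' hK' θ ψ h, Category.assoc,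
    IsIso.hom_inv_id, Category.comp_id]

omit [HasExt.{w} A] in
theorem subsingleton_neg (T : A) (n : ℤ) (hn : n < 0) (hK : ∀ q, IsZero (K.X (q + 1))) :
    Subsingleton (HTN T K n) := by
  have i1 := isIso_al K (Iso.refl _) hK
  have h1 := K905.HTSingle.subsingleton_HT_single T (K.X 0) 0 n hn
  refine ⟨fun x y => ?_⟩
  have h2 : ∀ x : HTN T K n, HTmap T (al K (Iso.refl _) hK) n (HTmap T (inv (al K (Iso.refl _) hK)) n x) = x := fun x => by
    rw [← HTmap_comp, IsIso.inv_hom_id, HTmap_id]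
  rw [← h2 x, ← h2 y, h1.elim (HTmap T (inv (al K (Iso.refl _) hK)) n x) (HTmap T (inv (al K (Iso.refl _) hK)) n y)]

variable {ι : Type*}

include i i' hK hK' in
/-- base change for complexes in degree `0` is base change for `Ext` -/
theorem BC_of_ext (θ : ι → (L.obj F ⟶ G)) (ψ : ι → (mc L K ⟶ K')) (h : ∀ j, L.map i.hom ≫ (ψ j).f 0 = θ j ≫ i'.hom)
    (hθ : ∀ m : ℕ, Function.Bijective fun x : ι →₀ Ext.{w} T F m =>
      x.sum fun j y => Groth.Agent.LoccohA.OmBase.pbA L c (θ j) m y) : BC L c ψ := by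
  intro n
  by_cases hn : 0 ≤ n
  · obtain ⟨m, rfl⟩ := Int.eq_ofNat_of_zero_le hn
    have h1 : (eN K' i' hK' T' m) ∘ (Phi L c ψ (m : ℤ)) = (fun x : ι →₀ Ext.{w} T F m =>
        x.sum fun j y => Groth.Agent.LoccohA.OmBase.pbA L c (θ j) m y) ∘
          (Finsupp.mapRange.addEquiv (eN K i hK T m)) := by
      funext x
      simp only [Function.comp_apply]
      rw [Phi_apply, Finsupp.sum, map_sum, Finsupp.mapRange.addEquiv_apply,
        Finsupp.sum_mapRange_index (fun j => _root_.map_zero _), Finsupp.sum]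
      exact Finset.sum_congr rfl fun j _ => eN_pbN L c K i hK K' i' hK' (θ j) (ψ j) (h j) m (x j)
    have h2 : Function.Bijective ((eN K' i' hK' T' m) ∘ (Phi L c ψ (m : ℤ))) := by
      rw [h1]
      exact (hθ m).comp (AddEquiv.bijective _)
    exact (Function.Bijective.of_comp_iff' (AddEquiv.bijective _) _).1 h2
  · have i1 := subsingleton_neg (A := A) K T n (by omega) hK
    have i2 := subsingleton_neg (A := B) K' T' n (by omega) hK'
    exact ⟨fun a b _ => Subsingleton.elim _ _, fun b => ⟨0, Subsingleton.elim _ _⟩⟩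

end pb

end K504.HTBase
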