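import Groth.Agent.AbVar.K504.AltSES
import Groth.Agent.AbVar.K504.HTBase

/-!
# Hypercohomology of `CE(W, F, t)`
-/

set_option autoImplicit false

universe w u v

open CategoryTheory CategoryTheory.Limits Opposite

namespace K504.AltHT

open AltSh AltSES HTN K905.HTExact E1Deg

section gen

variable {A : Type u} [Category.{v} A] [Abelian A] [HasDerivedCategory.{w} A] {S : ShortComplex (CochainComplex A ℕ)}
  (hS : S.ShortExact) (T : A)

include hS in
theorem bijective_deltaN (h : Homotopy (𝟙 S.X₂) 0) (n m : ℤ) (hnm : n + 1 = m) :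
    Function.Bijective (deltaN hS T n m hnm) := by
  constructor
  · rw [injective_iff_map_eq_zero]
    intro x hx
    obtain ⟨y, rfl⟩ := (exact₃N hS T n m hnm x).1 hx
    rw [(subsingleton_HTN T h n).elim y 0, _root_.map_zero]
  · intro x
    exact (exact₁N hS T n m hnm x).1 ((subsingleton_HTN T h m).elim _ _)

end gen

variable {C : Type u} [SmallCategory C] {J : GrothendieckTopology C} [HasDerivedCategory.{w} (Sheaf J AddCommGrpCat.{u})]
  {W' W : Type} [AddCommGroup W'] [AddCommGroup W]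
  (S : Spl W' W) {F : Sheaf J AddCommGrpCat.{u}} {t₀ : W' →+ (F ⟶ F)} (h₀ : Comm t₀) {s : F ⟶ F}
  (hs : ∀ v, t₀ v ≫ s = s ≫ t₀ v) (T : Sheaf J AddCommGrpCat.{u})

/-- the connecting map of the contractible extension -/
noncomputable def δ1 (n m : ℤ) (h : n + 1 = m) : HTN T (CE t₀ h₀) n →+ HTN T (N S h₀) m :=
  deltaN (S := sc S h₀ (s := 𝟙 F) id_comm) (shortExact_sc S h₀ id_comm) T n m h

theorem bijective_δ1 (n m : ℤ) (h : n + 1 = m) : Function.Bijective (δ1 S h₀ T n m h) :=
  bijective_deltaN (S := sc S h₀ (s := 𝟙 F) id_comm) (shortExact_sc S h₀ id_comm) T (contr S h₀) n m h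

/-- the connecting map for `s` is `δ1 ∘ s` -/
theorem delta_eq (n m : ℤ) (h : n + 1 = m) (x : HTN T (CE t₀ h₀) n) :
    deltaN (S := sc S h₀ hs) (shortExact_sc S h₀ hs) T n m h x =
      δ1 S h₀ T n m h (HTNmap T (CEmap h₀ h₀ s hs) n x) := by
  have h1 := deltaN_naturality (shortExact_sc S h₀ hs) T (shortExact_sc S h₀ (s := 𝟙 F) id_comm) (twS S h₀ hs) n m h x
  exact (HTNmap_id T (N S h₀) m _).symm.trans h1.symm

end K504.AltHT
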