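import Groth.Agent.AbVar.K504.AltHT
import Groth.Agent.LoccohA.OmEdge

/-!
# Pull-back morphisms for `CE(W, F, t)` and base change
-/

set_option autoImplicit false

universe w u v

open CategoryTheory CategoryTheory.Limits Opposite TopologicalSpace

namespace K504.AltPb

open AltSh AltSES HTN HTBase Groth.Agent.LoccohA.OmEdge Groth.Agent.CohtopB.TopPull

variable {X Y : TopCat.{u}} (f : Y ⟶ X) {W : Type} [AddCommGroup W]

section one

variable {F : CohTop.Ab X} {G : CohTop.Ab Y} (θ : F ⟶ (CohTop.push f).obj G)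

/-- alternating maps on `θ` -/
noncomputable def alθ (W : Type) [AddCommGroup W] (q : ℕ) :
    (altSh W q).obj F ⟶ (CohTop.push f).obj ((altSh W q).obj G) := (altSh W q).map θ

/-- its adjoint -/
noncomputable def pbf (W : Type) [AddCommGroup W] (q : ℕ) :
    (CohTop.pull f).obj ((altSh W q).obj F) ⟶ (altSh W q).obj G :=
  ((adj f).homEquiv _ _).symm (alθ f θ W q)

/-- `θ` intertwines operators -/
def Tw (t : W →+ (F ⟶ F)) (t' : W →+ (G ⟶ G)) : Prop := ∀ v, θ ≫ (CohTop.push f).map (t' v) = t v ≫ θ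

variable {θ} in
theorem Tw.ap {t : W →+ (F ⟶ F)} {t' : W →+ (G ⟶ G)} (h : Tw f θ t t') (U : Opens X) (v : W)
    (x : F.obj.obj (op U)) :
    ap (t' v) (op ((Opens.map f).obj U)) (AltSh.ap θ (op U) x) = AltSh.ap θ (op U) (AltSh.ap (t v) (op U) x) :=
  congrArg (fun g => AltSh.ap g (op U) x) (h v)

theorem alθ_dSh {t : W →+ (F ⟶ F)} {t' : W →+ (G ⟶ G)} (h : Tw f θ t t') (q : ℕ) :
    alθ f θ W q ≫ (CohTop.push f).map (dSh t' q) = dSh t q ≫ alθ f θ W (q + 1) := by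
  refine hom_ext' fun U α => ?_
  induction U using Opposite.rec with | _ U =>
  exact (AltAb.d_comp (τ := opL t (op U)) (σ := opL t' (op ((Opens.map f).obj U)))
    (AltSh.ap θ (op U)).toIntLinearMap (fun v x => (h.ap f U v x).symm) q α).symm

theorem pbf_dSh {t : W →+ (F ⟶ F)} {t' : W →+ (G ⟶ G)} (h : Tw f θ t t') (q : ℕ) :
    pbf f θ W q ≫ dSh t' q = (CohTop.pull f).map (dSh t q) ≫ pbf f θ W (q + 1) :=
  symm_comm f (alθ f θ W q) (alθ f θ W (q + 1)) (dSh t q) (dSh t' q) (alθ_dSh f θ h q)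

/-- the pull-back morphism -/
noncomputable def CEpb {t : W →+ (F ⟶ F)} (ht : Comm t) {t' : W →+ (G ⟶ G)} (ht' : Comm t') (h : Tw f θ t t') :
    mc (CohTop.pull f) (CE t ht) ⟶ CE t' ht' :=
  CochainComplex.ofHom (X := mc (CohTop.pull f) (CE t ht)) (Y := CE t' ht') (fun q => pbf f θ W q) fun q => by
    rw [CE_d]
    exact (pbf_dSh f θ h q).trans (congrArg (fun z => (CohTop.pull f).map z ≫ pbf f θ W (q + 1)) (CE_d t ht q).symm)

theorem CEpb_f {t : W →+ (F ⟶ F)} (ht : Comm t) {t' : W →+ (G ⟶ G)} (ht' : Comm t') (h : Tw f θ t t') (q : ℕ) :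
    (CEpb f θ ht ht' h).f q = pbf f θ W q := rfl

/-- naturality in the sheaves, in one degree -/
theorem pbf_map {F₁ : CohTop.Ab X} {G₁ : CohTop.Ab Y} (θ₁ : F₁ ⟶ (CohTop.push f).obj G₁) (a : F ⟶ F₁) (b : G ⟶ G₁)
    (hab : θ ≫ (CohTop.push f).map b = a ≫ θ₁) (q : ℕ) :
    pbf f θ W q ≫ (altSh W q).map b = (CohTop.pull f).map ((altSh W q).map a) ≫ pbf f θ₁ W q :=
  symm_comm f (alθ f θ W q) (alθ f θ₁ W q) ((altSh W q).map a) ((altSh W q).map b) (by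
    have h1 := congrArg (altSh W q).map hab
    rw [Functor.map_comp, Functor.map_comp] at h1
    exact h1)

/-- naturality in the sheaves -/
theorem CEpb_map {t : W →+ (F ⟶ F)} (ht : Comm t) {t' : W →+ (G ⟶ G)} (ht' : Comm t') (h : Tw f θ t t')
    {F₁ : CohTop.Ab X} {G₁ : CohTop.Ab Y} (θ₁ : F₁ ⟶ (CohTop.push f).obj G₁) {t₁ : W →+ (F₁ ⟶ F₁)} (ht₁ : Comm t₁)
    {t₁' : W →+ (G₁ ⟶ G₁)} (ht₁' : Comm t₁') (h₁ : Tw f θ₁ t₁ t₁') (a : F ⟶ F₁) (ha : ∀ v, t v ≫ a = a ≫ t₁ v)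
    (b : G ⟶ G₁) (hb : ∀ v, t' v ≫ b = b ≫ t₁' v) (hab : θ ≫ (CohTop.push f).map b = a ≫ θ₁) :
    CEpb f θ ht ht' h ≫ CEmap ht' ht₁' b hb = mcm (CohTop.pull f) (CEmap ht ht₁ a ha) ≫ CEpb f θ₁ ht₁ ht₁' h₁ := by
  ext q : 1
  exact pbf_map f θ θ₁ a b hab q

variable {W' : Type} [AddCommGroup W']

theorem pbf_res (u : W' →ₗ[ℤ] W) (q : ℕ) :
    pbf f θ W q ≫ resSh G u q = (CohTop.pull f).map (resSh F u q) ≫ pbf f θ W' q :=
  symm_comm f (alθ f θ W q) (alθ f θ W' q) (resSh F u q) (resSh G u q) rfl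

variable (S : Spl W' W) {t₀ : W' →+ (F ⟶ F)} (h₀ : Comm t₀) {s : F ⟶ F}
  (hs : ∀ v, t₀ v ≫ s = s ≫ t₀ v) {t₀' : W' →+ (G ⟶ G)} (h₀' : Comm t₀') {s' : G ⟶ G}
  (hs' : ∀ v, t₀' v ≫ s' = s' ≫ t₀' v) (hθ : Tw f θ t₀ t₀') (hθs : θ ≫ (CohTop.push f).map s' = s ≫ θ)

include hθ hθs in
theorem Tw_cons : Tw f θ (cons S t₀ s) (cons S t₀' s') := fun v => by
  rw [cons_apply, cons_apply, Functor.map_add, Functor.map_zsmul, Preadditive.comp_add, Preadditive.add_comp,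
    Preadditive.comp_zsmul, Preadditive.zsmul_comp, hθ, hθs]

theorem one_comm : θ ≫ (CohTop.push f).map (𝟙 G) = 𝟙 F ≫ θ := by
  rw [CategoryTheory.Functor.map_id, Category.comp_id, Category.id_comp]

/-- compatibility with restriction -/
theorem CEpb_res : CEpb f θ (comm_cons S h₀ hs) (comm_cons S h₀' hs') (Tw_cons f θ S hθ hθs) ≫ res S h₀' hs' =
    mcm (CohTop.pull f) (res S h₀ hs) ≫ CEpb f θ h₀ h₀' hθ := by
  ext q : 1
  exact pbf_res f θ S.inc q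

/-- the pull-back morphism on the kernels -/
noncomputable def Npb : mc (CohTop.pull f) (N S h₀) ⟶ N S h₀' :=
  kernel.lift (res S h₀' (s := 𝟙 G) id_comm)
    (mcm (CohTop.pull f) (Nι S h₀) ≫ CEpb f θ (comm_cons S h₀ id_comm) (comm_cons S h₀' id_comm)
      (Tw_cons f θ S hθ (one_comm f θ))) (by
      rw [Category.assoc, CEpb_res f θ S h₀ id_comm h₀' id_comm hθ (one_comm f θ), ← Category.assoc,
        ← Functor.map_comp, Nι_res, Functor.map_zero, zero_comp])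

theorem Npb_ι : Npb f θ S h₀ h₀' hθ ≫ Nι S h₀' = mcm (CohTop.pull f) (Nι S h₀) ≫
    CEpb f θ (comm_cons S h₀ id_comm) (comm_cons S h₀' id_comm) (Tw_cons f θ S hθ (one_comm f θ)) :=
  kernel.lift_ι _ _ _

theorem Npb_f (q : ℕ) : (Npb f θ S h₀ h₀' hθ).f q ≫ Nf S h₀' q =
    (CohTop.pull f).map (Nf S h₀ q) ≫ pbf f θ W q :=
  congrArg (fun t => HomologicalComplex.Hom.f t q) (Npb_ι f θ S h₀ h₀' hθ)

theorem Npb_j : Npb f θ S h₀ h₀' hθ ≫ Nj S h₀' hs' = mcm (CohTop.pull f) (Nj S h₀ hs) ≫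
    CEpb f θ (comm_cons S h₀ hs) (comm_cons S h₀' hs') (Tw_cons f θ S hθ hθs) := by
  ext q : 1
  exact Npb_f f θ S h₀ h₀' hθ q

end one

end K504.AltPb
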