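import Groth.Agent.AbVar.K504.AltBC
import Groth.Agent.DelIll.K905.HTFin
import Mathlib.LinearAlgebra.FiniteDimensional.Lemmas

/-!
# Scalars on `CE(W, F, t)` and dimensions
-/

set_option autoImplicit false

universe w u v

open CategoryTheory CategoryTheory.Limits Opposite

namespace K504.AltRho

open AltSh AltSES HTN AltHT K905.HTExact E1Deg KLinDR K905.HTFin

variable {C : Type u} [SmallCategory C] {J : GrothendieckTopology C} {R : Type v} [Ring R]
  {W' W : Type} [AddCommGroup W'] [AddCommGroup W] {F : Sheaf J AddCommGrpCat.{u}} (r : R →+* End F)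

/-- the operators are `R`-linear -/
def RC (t : W →+ (F ⟶ F)) : Prop := ∀ (v : W) (a : R), t v ≫ (show F ⟶ F from r a) = (show F ⟶ F from r a) ≫ t v

section CE

variable {r} {t : W →+ (F ⟶ F)} (ht : Comm t) (hr : RC r t)

/-- scalar multiplication on `CE` -/
noncomputable def sm (a : R) : CE t ht ⟶ CE t ht := CEmap ht ht (r a) (fun v => hr v a)

theorem sm_f (a : R) (q : ℕ) : (sm ht hr a).f q = (altSh W q).map (show F ⟶ F from r a) := rfl

/-- the action of `R` on `CE` -/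
noncomputable def CEρ : R →+* End (CE t ht) where
  toFun a := sm ht hr a
  map_one' := by
    refine HomologicalComplex.hom_ext _ _ fun q => ?_
    rw [sm_f, map_one]
    exact (altSh W q).map_id F
  map_mul' a b := by
    refine HomologicalComplex.hom_ext _ _ fun q => ?_
    rw [sm_f, map_mul]
    exact (altSh W q).map_comp (show F ⟶ F from r b) (show F ⟶ F from r a)
  map_zero' := by
    refine HomologicalComplex.hom_ext _ _ fun q => ?_
    rw [sm_f, map_zero]
    exact (altSh W q).map_zero _ _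
  map_add' a b := by
    refine HomologicalComplex.hom_ext _ _ fun q => ?_
    rw [sm_f, map_add]
    exact (altSh W q).map_add

theorem CEρ_apply (a : R) : CEρ ht hr a = sm ht hr a := rfl

/-- the action on the extended complex -/
noncomputable def ρx : R →+* End (ex (CE t ht)) := (extendEnd (CE t ht) ComplexShape.embeddingUpNat).comp (CEρ ht hr)

theorem ρx_apply (a : R) : ρx ht hr a = exm (sm ht hr a) := rfl

end CE

section N

variable (S : Spl W' W) {r} {t₀ : W' →+ (F ⟶ F)} (h₀ : Comm t₀) (hr : RC r t₀) {s : F ⟶ F}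
  (hs : ∀ v, t₀ v ≫ s = s ≫ t₀ v) (hrs : ∀ a, s ≫ (show F ⟶ F from r a) = (show F ⟶ F from r a) ≫ s)

include hr hrs in
theorem RC_cons : RC r (cons S t₀ s) := fun v a => cons_comm S (show F ⟶ F from r a) (fun v => hr v a) (hrs a) v

include hr in
theorem RC_cons1 : RC r (cons S t₀ (𝟙 F)) := RC_cons S hr (fun a => by rw [Category.comp_id, Category.id_comp])

theorem sm_res (a : R) : sm (comm_cons S h₀ hs) (RC_cons S hr hrs) a ≫ res S h₀ hs =
    res S h₀ hs ≫ sm h₀ hr a := by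
  ext q : 1
  rfl

/-- scalar multiplication on the kernel -/
noncomputable def smN (a : R) : N S h₀ ⟶ N S h₀ :=
  kerMap _ _ (sm (comm_cons S h₀ id_comm) (RC_cons1 S hr) a) (sm h₀ hr a)
    (sm_res S h₀ hr id_comm (fun a => by rw [Category.comp_id, Category.id_comp]) a).symm

theorem smN_ι (a : R) : smN S h₀ hr a ≫ Nι S h₀ = Nι S h₀ ≫ sm (comm_cons S h₀ id_comm) (RC_cons1 S hr) a :=
  kerMap_ι _ _ _ _ _

theorem smN_f (a : R) (q : ℕ) : (smN S h₀ hr a).f q ≫ Nf S h₀ q = Nf S h₀ q ≫ (altSh W q).map (show F ⟶ F from r a) :=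
  congrArg (fun t => HomologicalComplex.Hom.f t q) (smN_ι S h₀ hr a)

instance : Mono (Nι S h₀) := inferInstanceAs (Mono (kerι _))

/-- the action of `R` on the kernel -/
noncomputable def Nρ : R →+* End (N S h₀) where
  toFun a := smN S h₀ hr a
  map_one' := by
    refine (cancel_mono (Nι S h₀)).1 ?_
    rw [smN_ι]
    have h1 := map_one (CEρ (comm_cons S h₀ id_comm) (RC_cons1 S hr))
    exact (congrArg (fun t => Nι S h₀ ≫ t) h1).trans ((Category.comp_id _).trans (Category.id_comp _).symm)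
  map_mul' a b := by
    refine (cancel_mono (Nι S h₀)).1 ?_
    rw [smN_ι]
    have h1 := map_mul (CEρ (comm_cons S h₀ id_comm) (RC_cons1 S hr)) a b
    refine (congrArg (fun t => Nι S h₀ ≫ t) h1).trans ?_
    change Nι S h₀ ≫ (sm (comm_cons S h₀ id_comm) (RC_cons1 S hr) b ≫ sm (comm_cons S h₀ id_comm) (RC_cons1 S hr) a) =
      (smN S h₀ hr b ≫ smN S h₀ hr a) ≫ Nι S h₀
    rw [Category.assoc, smN_ι, ← Category.assoc, ← Category.assoc, smN_ι]
  map_zero' := by
    refine (cancel_mono (Nι S h₀)).1 ?_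
    rw [smN_ι]
    have h1 := map_zero (CEρ (comm_cons S h₀ id_comm) (RC_cons1 S hr))
    exact (congrArg (fun t => Nι S h₀ ≫ t) h1).trans (comp_zero.trans zero_comp.symm)
  map_add' a b := by
    refine (cancel_mono (Nι S h₀)).1 ?_
    rw [smN_ι]
    have h1 := map_add (CEρ (comm_cons S h₀ id_comm) (RC_cons1 S hr)) a b
    refine (congrArg (fun t => Nι S h₀ ≫ t) h1).trans ?_
    refine (Preadditive.comp_add _ _ _ _ _ _).trans ((congrArg₂ (· + ·) (smN_ι S h₀ hr a).symm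
      (smN_ι S h₀ hr b).symm).trans (Preadditive.add_comp _ _ _ _ _ _).symm)

/-- the action on the extended kernel -/
noncomputable def Nρx : R →+* End (ex (N S h₀)) := (extendEnd (N S h₀) ComplexShape.embeddingUpNat).comp (Nρ S h₀ hr)

theorem smN_j (a : R) : smN S h₀ hr a ≫ Nj S h₀ hs = Nj S h₀ hs ≫ sm (comm_cons S h₀ hs) (RC_cons S hr hrs) a := by
  ext q : 1
  exact smN_f S h₀ hr a q

theorem commutes_j : Commutes (Nρx S h₀ hr) (ρx (comm_cons S h₀ hs) (RC_cons S hr hrs)) (exm (Nj S h₀ hs)) := fun a => by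
  change exm (smN S h₀ hr a) ≫ exm (Nj S h₀ hs) = exm (Nj S h₀ hs) ≫ exm (sm (comm_cons S h₀ hs) (RC_cons S hr hrs) a)
  rw [← exm_comp, ← exm_comp, smN_j S h₀ hr hs hrs]

theorem commutes_res : Commutes (ρx (comm_cons S h₀ hs) (RC_cons S hr hrs)) (ρx h₀ hr) (exm (res S h₀ hs)) := fun a => by
  change exm (sm (comm_cons S h₀ hs) (RC_cons S hr hrs) a) ≫ exm (res S h₀ hs) = exm (res S h₀ hs) ≫ exm (sm h₀ hr a)
  rw [← exm_comp, ← exm_comp, sm_res S h₀ hr hs hrs]

end N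

section dim

variable {k : Type v} [Field k] {rk : k →+* End F} [HasDerivedCategory.{w} (Sheaf J AddCommGrpCat.{u})]
  (T : Sheaf J AddCommGrpCat.{u}) (S : Spl W' W) {t₀ : W' →+ (F ⟶ F)} (h₀ : Comm t₀) (hr : RC rk t₀) {s : F ⟶ F}
  (hs : ∀ v, t₀ v ≫ s = s ≫ t₀ v) (hrs : ∀ a, s ≫ (show F ⟶ F from rk a) = (show F ⟶ F from rk a) ≫ s)

/-- the endomorphism of the short complex for `s = 1` given by a scalar -/
noncomputable def smS (a : k) : sc S h₀ (s := 𝟙 F) id_comm ⟶ sc S h₀ (s := 𝟙 F) id_comm where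
  τ₁ := smN S h₀ hr a
  τ₂ := sm (comm_cons S h₀ id_comm) (RC_cons1 S hr) a
  τ₃ := sm h₀ hr a
  comm₁₂ := smN_j S h₀ hr id_comm (fun a => by rw [Category.comp_id, Category.id_comp]) a
  comm₂₃ := sm_res S h₀ hr id_comm (fun a => by rw [Category.comp_id, Category.id_comp]) a

/-- the linear map `H^n(CE_m) → H^{n+1}(N)` -/
noncomputable def δ1map (n m : ℤ) (h : n + 1 = m) :
    HTρ T (ex (CE t₀ h₀)) (ρx h₀ hr) n →ₗ[k] HTρ T (ex (N S h₀)) (Nρx S h₀ hr) m where
  toFun x := HTρ.toHT.symm (δ1 S h₀ T n m h (HTρ.toHT x))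
  map_add' x y := _root_.map_add (δ1 S h₀ T n m h) (HTρ.toHT x) (HTρ.toHT y)
  map_smul' a x :=
    deltaN_naturality (shortExact_sc S h₀ (s := 𝟙 F) id_comm) T (shortExact_sc S h₀ (s := 𝟙 F) id_comm)
      (smS S h₀ hr a) n m h (HTρ.toHT x)

/-- the linear isomorphism `H^n(CE_m) ≅ H^{n+1}(N)` -/
noncomputable def δ1lin (n m : ℤ) (h : n + 1 = m) :
    HTρ T (ex (CE t₀ h₀)) (ρx h₀ hr) n ≃ₗ[k] HTρ T (ex (N S h₀)) (Nρx S h₀ hr) m :=
  LinearEquiv.ofBijective (δ1map T S h₀ hr n m h) (bijective_δ1 S h₀ T n m h)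

theorem finrank_add {V₁ V₂ V₃ : Type*} [AddCommGroup V₁] [AddCommGroup V₂] [AddCommGroup V₃] [Module k V₁] [Module k V₂]
    [Module k V₃] (f : V₁ →ₗ[k] V₂) (g : V₂ →ₗ[k] V₃) (hf : Function.Injective f) (hg : Function.Surjective g)
    (h1 : ∀ x, g (f x) = 0) (h2 : ∀ x, g x = 0 → ∃ y, f y = x) [Module.Finite k V₁] [Module.Finite k V₃] :
    Module.Finite k V₂ ∧ Module.finrank k V₂ = Module.finrank k V₁ + Module.finrank k V₃ := by
  have h3 : LinearMap.ker g = LinearMap.range f := by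
    ext x
    rw [LinearMap.mem_ker, LinearMap.mem_range]
    exact ⟨h2 x, by rintro ⟨y, rfl⟩; exact h1 y⟩
  have e1 : V₁ ≃ₗ[k] LinearMap.ker g := (LinearEquiv.ofInjective f hf).trans (LinearEquiv.ofEq _ _ h3.symm)
  have e2 : (V₂ ⧸ LinearMap.ker g) ≃ₗ[k] V₃ := g.quotKerEquivOfSurjective hg
  have f1 : Module.Finite k (LinearMap.ker g) := Module.Finite.equiv e1
  have f2 : Module.Finite k (V₂ ⧸ LinearMap.ker g) := Module.Finite.equiv e2.symm
  have f3 : Module.Finite k V₂ := Module.Finite.of_submodule_quotient (LinearMap.ker g)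
  refine ⟨f3, ?_⟩
  rw [← Submodule.finrank_quotient_add_finrank (LinearMap.ker g), e2.finrank_eq, ← e1.finrank_eq, add_comm]

/-- **Dimensions.** If `s` acts as zero on the hypercohomology of `CE(W', t₀)` then
`h^n(CE(W)) = h^{n-1}(CE(W')) + h^n(CE(W'))`. -/
theorem finrank_step (hzero : ∀ n x, HTNmap T (CEmap h₀ h₀ s hs) n x = 0)
    (hfin : ∀ n, Module.Finite k (HTρ T (ex (CE t₀ h₀)) (ρx h₀ hr) n)) (n : ℤ) :
    Module.Finite k (HTρ T (ex (CE (cons S t₀ s) (comm_cons S h₀ hs)))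
      (ρx (comm_cons S h₀ hs) (RC_cons S hr hrs)) n) ∧
    Module.finrank k (HTρ T (ex (CE (cons S t₀ s) (comm_cons S h₀ hs)))
      (ρx (comm_cons S h₀ hs) (RC_cons S hr hrs)) n) =
      Module.finrank k (HTρ T (ex (CE t₀ h₀)) (ρx h₀ hr) (n - 1)) +
        Module.finrank k (HTρ T (ex (CE t₀ h₀)) (ρx h₀ hr) n) := by
  have hδ : ∀ (n m : ℤ) (h : n + 1 = m) x,
      deltaN (S := sc S h₀ hs) (shortExact_sc S h₀ hs) T n m h x = 0 := fun n m h x =>
    (delta_eq S h₀ hs T n m h x).trans ((congrArg (δ1 S h₀ T n m h) (hzero n x)).trans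
      (_root_.map_zero (δ1 S h₀ T n m h)))
  let f := HTρmap T (exm (Nj S h₀ hs)) (commutes_j S h₀ hr hs hrs) n
  let g := HTρmap T (exm (res S h₀ hs)) (commutes_res S h₀ hr hs hrs) n
  have i1 : Module.Finite k (HTρ T (ex (N S h₀)) (Nρx S h₀ hr) n) :=
    haveI := hfin (n - 1)
    Module.Finite.equiv (δ1lin T S h₀ hr (n - 1) n (by omega))
  have i2 := hfin n
  have h3 := finrank_add f g (by
    rw [injective_iff_map_eq_zero]
    intro x hx
    obtain ⟨y, hy⟩ := (exact₁N (S := sc S h₀ hs) (shortExact_sc S h₀ hs) T (n - 1) n (by omega) (HTρ.toHT x)).1 hx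
    exact hy.symm.trans (hδ _ _ _ _)) (by
    intro y
    exact (exact₃N (S := sc S h₀ hs) (shortExact_sc S h₀ hs) T n (n + 1) rfl (HTρ.toHT y)).1 (hδ _ _ _ _))
    (fun x => (exact₂N (S := sc S h₀ hs) (shortExact_sc S h₀ hs) T n _).2 ⟨HTρ.toHT x, rfl⟩)
    (fun x hx => (exact₂N (S := sc S h₀ hs) (shortExact_sc S h₀ hs) T n (HTρ.toHT x)).1 hx)
  refine ⟨h3.1, h3.2.trans ?_⟩
  rw [(δ1lin T S h₀ hr (n - 1) n (by omega)).finrank_eq]

end dim

end K504.AltRho
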