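import Groth.Agent.AbVar.K504.HTPbExt
import Groth.Agent.Cohder.MapExtend
import Groth.Agent.LoccohA.OmMVCmp
import Mathlib.Algebra.FiveLemma
import Mathlib.Algebra.Homology.Embedding.ExtendHomotopy

/-!
# Hypercohomology `HTN` of `ℕ`-indexed complexes, pull-back maps and the base change property

* `HTN T K n = HT T (ex K) n`, `ex K` the extension by zero;
* `pbN`, `map_pbN`, `delta_pbN`;
* `Phi L c ψ n : (ι →₀ HTN T K n) →+ HTN T' K' n` for a family `ψ : ι → (L K ⟶ K')`, `BC` (bijective in all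
  degrees) and the two-out-of-three properties `BC.mid`, `BC.left`.
-/

set_option autoImplicit false

universe w₁ w₂ v₁ v₂ u₁ u₂

open CategoryTheory CategoryTheory.Limits

namespace K504.HTN

open K905.HTExact E1Deg K504.HTPb Groth.Agent.Cohder.MapExtend Groth.Agent.LoccohA.OmMVCmp

section ex

variable {A : Type u₁} [Category.{v₁} A] [Abelian A]

/-- extension by zero -/
noncomputable abbrev ex (K : CochainComplex A ℕ) : CochainComplex A ℤ := K.extend ComplexShape.embeddingUpNat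

/-- extension by zero of a morphism -/
noncomputable abbrev exm {K L : CochainComplex A ℕ} (f : K ⟶ L) : ex K ⟶ ex L :=
  HomologicalComplex.extendMap f ComplexShape.embeddingUpNat

theorem exm_comp {K L M : CochainComplex A ℕ} (f : K ⟶ L) (g : L ⟶ M) : exm (f ≫ g) = exm f ≫ exm g :=
  HomologicalComplex.extendMap_comp _ _ _

theorem exm_id (K : CochainComplex A ℕ) : exm (𝟙 K) = 𝟙 _ := HomologicalComplex.extendMap_id _ _

theorem exm_zero (K L : CochainComplex A ℕ) : exm (0 : K ⟶ L) = 0 := HomologicalComplex.extendMap_zero _ _ _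

theorem exm_add {K L : CochainComplex A ℕ} (f g : K ⟶ L) : exm (f + g) = exm f + exm g :=
  HomologicalComplex.extendMap_add _ _ _

/-- extension by zero of a short complex -/
noncomputable def exS (S : ShortComplex (CochainComplex A ℕ)) : ShortComplex (CochainComplex A ℤ) :=
  ShortComplex.mk (exm S.f) (exm S.g) (by rw [← exm_comp, S.zero, exm_zero])

/-- the degreewise comparison -/
noncomputable def exSIso (S : ShortComplex (CochainComplex A ℕ)) (i : ℕ) :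
    (exS S).map (HomologicalComplex.eval A (ComplexShape.up ℤ) (i : ℤ)) ≅
      S.map (HomologicalComplex.eval A (ComplexShape.up ℕ) i) :=
  ShortComplex.isoMk
    (S.X₁.extendXIso ComplexShape.embeddingUpNat (ComplexShape.embeddingUpNat_f i))
    (S.X₂.extendXIso ComplexShape.embeddingUpNat (ComplexShape.embeddingUpNat_f i))
    (S.X₃.extendXIso ComplexShape.embeddingUpNat (ComplexShape.embeddingUpNat_f i))
    (by
      change _ ≫ S.f.f i = (exm S.f).f (i : ℤ) ≫ _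
      rw [HomologicalComplex.extendMap_f S.f ComplexShape.embeddingUpNat (ComplexShape.embeddingUpNat_f i)]
      simp)
    (by
      change _ ≫ S.g.f i = (exm S.g).f (i : ℤ) ≫ _
      rw [HomologicalComplex.extendMap_f S.g ComplexShape.embeddingUpNat (ComplexShape.embeddingUpNat_f i)]
      simp)

theorem shortExact_exS {S : ShortComplex (CochainComplex A ℕ)} (hS : S.ShortExact) : (exS S).ShortExact := by
  refine HomologicalComplex.shortExact_of_degreewise_shortExact _ fun q => ?_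
  by_cases hq : 0 ≤ q
  · obtain ⟨i, rfl⟩ := Int.eq_ofNat_of_zero_le hq
    exact ShortComplex.shortExact_of_iso (exSIso S i).symm (hS.map_of_exact _)
  · have h0 : ∀ K : CochainComplex A ℕ, IsZero ((ex K).X q) := fun K =>
      K.isZero_extend_X ComplexShape.embeddingUpNat q (fun i hi => hq (by
        have : (i : ℤ) = q := hi
        omega))
    have h1 := h0 S.X₁
    have h2 := h0 S.X₂
    have h3 := h0 S.X₃
    refine ShortComplex.ShortExact.mk' (ShortComplex.exact_of_isZero_X₂ _ h2) ⟨fun a b _ => h1.eq_of_tgt a b⟩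
      ⟨fun a b _ => h3.eq_of_src a b⟩

end ex

section HTN

variable {A : Type u₁} [Category.{v₁} A] [Abelian A] [HasDerivedCategory.{w₁} A]

/-- hypercohomology of an `ℕ`-indexed complex -/
abbrev HTN (T : A) (K : CochainComplex A ℕ) (n : ℤ) : Type w₁ := HT T (ex K) n

/-- functoriality -/
noncomputable abbrev HTNmap (T : A) {K L : CochainComplex A ℕ} (f : K ⟶ L) (n : ℤ) : HTN T K n →+ HTN T L n :=
  HTmap T (exm f) n

theorem HTNmap_id (T : A) (K : CochainComplex A ℕ) (n : ℤ) (x : HTN T K n) : HTNmap T (𝟙 K) n x = x := by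
  rw [HTNmap, exm_id, HTmap_id]

theorem HTNmap_comp (T : A) {K L M : CochainComplex A ℕ} (f : K ⟶ L) (g : L ⟶ M) (n : ℤ) (x : HTN T K n) :
    HTNmap T (f ≫ g) n x = HTNmap T g n (HTNmap T f n x) := by
  rw [HTNmap, exm_comp, HTmap_comp]

theorem HTmap_zero (T : A) (K L : CochainComplex A ℤ) (n : ℤ) (x : HT T K n) : HTmap T (0 : K ⟶ L) n x = 0 := by
  rw [HTmap_apply, Functor.map_zero, Functor.map_zero, Limits.comp_zero]

theorem HTmap_add (T : A) {K L : CochainComplex A ℤ} (f g : K ⟶ L) (n : ℤ) (x : HT T K n) :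
    HTmap T (f + g) n x = HTmap T f n x + HTmap T g n x := by
  rw [HTmap_apply, Functor.map_add, Functor.map_add, Preadditive.comp_add]
  rfl

theorem HTNmap_zero (T : A) (K L : CochainComplex A ℕ) (n : ℤ) (x : HTN T K n) :
    HTNmap T (0 : K ⟶ L) n x = 0 := by
  rw [HTNmap, exm_zero, HTmap_zero]

theorem HTNmap_add (T : A) {K L : CochainComplex A ℕ} (f g : K ⟶ L) (n : ℤ) (x : HTN T K n) :
    HTNmap T (f + g) n x = HTNmap T f n x + HTNmap T g n x := by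
  rw [HTNmap, exm_add, HTmap_add]

theorem HTmap_homotopy (T : A) {K L : CochainComplex A ℤ} {f g : K ⟶ L} (h : Homotopy f g) (n : ℤ) (x : HT T K n) :
    HTmap T f n x = HTmap T g n x := by
  rw [HTmap_apply, HTmap_apply, DerivedCategory.Q_map_eq_of_homotopy _ h]

theorem HTNmap_homotopy (T : A) {K L : CochainComplex A ℕ} {f g : K ⟶ L} (h : Homotopy f g) (n : ℤ)
    (x : HTN T K n) : HTNmap T f n x = HTNmap T g n x :=
  HTmap_homotopy T (h.extend ComplexShape.embeddingUpNat) n x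

/-- a contractible complex has no hypercohomology -/
theorem subsingleton_HTN (T : A) {K : CochainComplex A ℕ} (h : Homotopy (𝟙 K) 0) (n : ℤ) :
    Subsingleton (HTN T K n) := by
  refine ⟨fun x y => ?_⟩
  rw [← HTNmap_id T K n x, ← HTNmap_id T K n y, HTNmap_homotopy T h, HTNmap_homotopy T h, HTNmap_zero,
    HTNmap_zero]

/-- the connecting map -/
noncomputable def deltaN {S : ShortComplex (CochainComplex A ℕ)} (hS : S.ShortExact) (T : A) (n m : ℤ)
    (h : n + 1 = m) : HTN T S.X₃ n →+ HTN T S.X₁ m :=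
  delta (shortExact_exS hS) T n m h

variable {S : ShortComplex (CochainComplex A ℕ)} (hS : S.ShortExact) (T : A)

include hS in
theorem exact₂N (n : ℤ) : Function.Exact (HTNmap T S.f n) (HTNmap T S.g n) := fun x =>
  ⟨fun hx => exact₂ (shortExact_exS hS) T n x hx, by
    rintro ⟨y, rfl⟩
    exact map_map (S := exS S) T n y⟩

theorem exact₃N (n m : ℤ) (h : n + 1 = m) : Function.Exact (HTNmap T S.g n) (deltaN hS T n m h) := fun x =>
  ⟨fun hx => exact₃ (shortExact_exS hS) T n m h x hx, by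
    rintro ⟨y, rfl⟩
    exact delta_map (shortExact_exS hS) T n m h y⟩

theorem exact₁N (n m : ℤ) (h : n + 1 = m) : Function.Exact (deltaN hS T n m h) (HTNmap T S.f m) := fun x =>
  ⟨fun hx => exact₁ (shortExact_exS hS) T n m h x hx, by
    rintro ⟨y, rfl⟩
    exact map_delta (shortExact_exS hS) T n m h y⟩

/-- naturality of the connecting map -/
theorem deltaN_naturality {S' : ShortComplex (CochainComplex A ℕ)} (hS' : S'.ShortExact)
    (φ : S ⟶ S') (n m : ℤ) (h : n + 1 = m) (x : HTN T S.X₃ n) :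
    deltaN hS' T n m h (HTNmap T φ.τ₃ n x) = HTNmap T φ.τ₁ m (deltaN hS T n m h x) := by
  let ψ : exS S ⟶ exS S' :=
    { τ₁ := exm φ.τ₁
      τ₂ := exm φ.τ₂
      τ₃ := exm φ.τ₃
      comm₁₂ := by
        change exm φ.τ₁ ≫ exm S'.f = exm S.f ≫ exm φ.τ₂
        rw [← exm_comp, ← exm_comp, φ.comm₁₂]
      comm₂₃ := by
        change exm φ.τ₂ ≫ exm S'.g = exm S.g ≫ exm φ.τ₃
        rw [← exm_comp, ← exm_comp, φ.comm₂₃] }
  exact delta_naturality (shortExact_exS hS) (shortExact_exS hS') ψ T n m h x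

end HTN

section pb

variable {A : Type u₁} [Category.{v₁} A] [Abelian A] [HasDerivedCategory.{w₁} A]
  {B : Type u₂} [Category.{v₂} B] [Abelian B] [HasDerivedCategory.{w₂} B]
  (L : A ⥤ B) [L.Additive] [PreservesFiniteLimits L] [PreservesFiniteColimits L]
  {T : A} {T' : B} (c : T' ⟶ L.obj T)

/-- `L` applied to a complex -/
abbrev mc (K : CochainComplex A ℕ) : CochainComplex B ℕ := (L.mapHomologicalComplex (ComplexShape.up ℕ)).obj K

/-- `L` applied to a morphism of complexes -/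
abbrev mcm {K M : CochainComplex A ℕ} (f : K ⟶ M) : mc L K ⟶ mc L M :=
  (L.mapHomologicalComplex (ComplexShape.up ℕ)).map f

/-- `L (ex K) ⟶ ex K'` -/
noncomputable def exL {K : CochainComplex A ℕ} {K' : CochainComplex B ℕ} (ψ : mc L K ⟶ K') :
    (L.mapHomologicalComplex (ComplexShape.up ℤ)).obj (ex K) ⟶ ex K' :=
  (mapExtendIso L K ComplexShape.embeddingUpNat).hom ≫ exm ψ

omit [HasDerivedCategory.{w₁} A] [HasDerivedCategory.{w₂} B] [PreservesFiniteLimits L] [PreservesFiniteColimits L] in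
theorem exL_naturality {K₁ K₂ : CochainComplex A ℕ} {K₁' K₂' : CochainComplex B ℕ} (ψ₁ : mc L K₁ ⟶ K₁')
    (ψ₂ : mc L K₂ ⟶ K₂') (f : K₁ ⟶ K₂) (g : K₁' ⟶ K₂') (h : ψ₁ ≫ g = mcm L f ≫ ψ₂) :
    exL L ψ₁ ≫ exm g = (L.mapHomologicalComplex (ComplexShape.up ℤ)).map (exm f) ≫ exL L ψ₂ := by
  rw [exL, exL, Category.assoc, ← exm_comp, h, exm_comp]
  rw [mapExtendIso_hom_naturality_assoc]

/-- the pull-back map -/
noncomputable def pbN {K : CochainComplex A ℕ} {K' : CochainComplex B ℕ} (ψ : mc L K ⟶ K') (n : ℤ) :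
    HTN T K n →+ HTN T' K' n := pb L c (exL L ψ) n

theorem map_pbN {K₁ K₂ : CochainComplex A ℕ} {K₁' K₂' : CochainComplex B ℕ} (ψ₁ : mc L K₁ ⟶ K₁')
    (ψ₂ : mc L K₂ ⟶ K₂') (f : K₁ ⟶ K₂) (g : K₁' ⟶ K₂') (h : ψ₁ ≫ g = mcm L f ≫ ψ₂) (n : ℤ) (x : HTN T K₁ n) :
    HTNmap T' g n (pbN L c ψ₁ n x) = pbN L c ψ₂ n (HTNmap T f n x) :=
  HTmap_pb L c (exL L ψ₁) (exL L ψ₂) (exm f) (exm g) (exL_naturality L ψ₁ ψ₂ f g h) n x

theorem delta_pbN {S : ShortComplex (CochainComplex A ℕ)} (hS : S.ShortExact)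
    {S' : ShortComplex (CochainComplex B ℕ)} (hS' : S'.ShortExact)
    (τ₁ : mc L S.X₁ ⟶ S'.X₁) (τ₂ : mc L S.X₂ ⟶ S'.X₂) (τ₃ : mc L S.X₃ ⟶ S'.X₃)
    (h₁ : τ₁ ≫ S'.f = mcm L S.f ≫ τ₂) (h₂ : τ₂ ≫ S'.g = mcm L S.g ≫ τ₃) (n m : ℤ) (h : n + 1 = m)
    (x : HTN T S.X₃ n) :
    deltaN hS' T' n m h (pbN L c τ₃ n x) = pbN L c τ₁ m (deltaN hS T n m h x) :=
  delta_pb L c (shortExact_exS hS) (shortExact_exS hS') (exL L τ₁) (exL L τ₂) (exL L τ₃)
    (exL_naturality L τ₁ τ₂ S.f S'.f h₁) (exL_naturality L τ₂ τ₃ S.g S'.g h₂) n m h x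

/-! ### Base change -/

variable {ι : Type*}

/-- the sum of the pull-back maps along the `ψ i` -/
noncomputable def Phi {K : CochainComplex A ℕ} {K' : CochainComplex B ℕ} (ψ : ι → (mc L K ⟶ K')) (n : ℤ) :
    (ι →₀ HTN T K n) →+ HTN T' K' n :=
  Finsupp.liftAddHom fun i => pbN L c (ψ i) n

theorem Phi_apply {K : CochainComplex A ℕ} {K' : CochainComplex B ℕ} (ψ : ι → (mc L K ⟶ K')) (n : ℤ)
    (x : ι →₀ HTN T K n) : Phi L c ψ n x = x.sum fun i m => pbN L c (ψ i) n m := rfl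

theorem Phi_single {K : CochainComplex A ℕ} {K' : CochainComplex B ℕ} (ψ : ι → (mc L K ⟶ K')) (n : ℤ)
    (i : ι) (m : HTN T K n) : Phi L c ψ n (Finsupp.single i m) = pbN L c (ψ i) n m :=
  Finsupp.liftAddHom_apply_single _ _ _

theorem Phi_map {K₁ K₂ : CochainComplex A ℕ} {K₁' K₂' : CochainComplex B ℕ} (ψ₁ : ι → (mc L K₁ ⟶ K₁'))
    (ψ₂ : ι → (mc L K₂ ⟶ K₂')) (f : K₁ ⟶ K₂) (g : K₁' ⟶ K₂') (h : ∀ i, ψ₁ i ≫ g = mcm L f ≫ ψ₂ i) (n : ℤ) :
    (HTNmap T' g n).comp (Phi L c ψ₁ n) = (Phi L c ψ₂ n).comp (mr ι (HTNmap T f n)) := by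
  ext i m
  simp only [AddMonoidHom.comp_apply, Finsupp.singleAddHom_apply]
  rw [Phi_single, mr, Finsupp.mapRange.addMonoidHom_apply, Finsupp.mapRange_single, Phi_single]
  exact map_pbN L c (ψ₁ i) (ψ₂ i) f g (h i) n m

theorem Phi_delta {S : ShortComplex (CochainComplex A ℕ)} (hS : S.ShortExact)
    {S' : ShortComplex (CochainComplex B ℕ)} (hS' : S'.ShortExact)
    (τ₁ : ι → (mc L S.X₁ ⟶ S'.X₁)) (τ₂ : ι → (mc L S.X₂ ⟶ S'.X₂)) (τ₃ : ι → (mc L S.X₃ ⟶ S'.X₃))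
    (h₁ : ∀ i, τ₁ i ≫ S'.f = mcm L S.f ≫ τ₂ i) (h₂ : ∀ i, τ₂ i ≫ S'.g = mcm L S.g ≫ τ₃ i) (n m : ℤ)
    (h : n + 1 = m) :
    (deltaN hS' T' n m h).comp (Phi L c τ₃ n) = (Phi L c τ₁ m).comp (mr ι (deltaN hS T n m h)) := by
  ext i y
  simp only [AddMonoidHom.comp_apply, Finsupp.singleAddHom_apply]
  rw [Phi_single, mr, Finsupp.mapRange.addMonoidHom_apply, Finsupp.mapRange_single, Phi_single]
  exact delta_pbN L c hS hS' (τ₁ i) (τ₂ i) (τ₃ i) (h₁ i) (h₂ i) n m h y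

/-- the base change property -/
def BC {K : CochainComplex A ℕ} {K' : CochainComplex B ℕ} (ψ : ι → (mc L K ⟶ K')) : Prop :=
  ∀ n : ℤ, Function.Bijective (Phi L c ψ n)

theorem exact_mr {M₁ M₂ M₃ : Type*} [AddCommGroup M₁] [AddCommGroup M₂] [AddCommGroup M₃] (f : M₁ →+ M₂)
    (g : M₂ →+ M₃) (h : Function.Exact f g) : Function.Exact (mr ι f) (mr ι g) := by
  intro x
  constructor
  · intro hx
    have h1 : ∀ i, ∃ a, f a = x i := fun i => (h (x i)).1 (by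
      have := DFunLike.congr_fun hx i
      exact this)
    obtain ⟨y, hy⟩ := exists_finsupp x (fun b a => f a = b) (map_zero f) h1
    exact ⟨y, Finsupp.ext fun i => hy i⟩
  · rintro ⟨y, rfl⟩
    refine Finsupp.ext fun i => ?_
    exact (h (f (y i))).2 ⟨y i, rfl⟩

section two

variable {S : ShortComplex (CochainComplex A ℕ)} (hS : S.ShortExact)
    {S' : ShortComplex (CochainComplex B ℕ)} (hS' : S'.ShortExact)
    (τ₁ : ι → (mc L S.X₁ ⟶ S'.X₁)) (τ₂ : ι → (mc L S.X₂ ⟶ S'.X₂)) (τ₃ : ι → (mc L S.X₃ ⟶ S'.X₃))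
    (h₁ : ∀ i, τ₁ i ≫ S'.f = mcm L S.f ≫ τ₂ i) (h₂ : ∀ i, τ₂ i ≫ S'.g = mcm L S.g ≫ τ₃ i)

include hS hS' h₁ h₂ in
theorem BC.mid (H₁ : BC L c τ₁) (H₃ : BC L c τ₃) : BC L c τ₂ := fun n =>
  AddMonoidHom.bijective_of_surjective_of_bijective_of_bijective_of_injective
    (mr ι (deltaN hS T (n - 1) n (by omega))) (mr ι (HTNmap T S.f n)) (mr ι (HTNmap T S.g n))
    (mr ι (deltaN hS T n (n + 1) rfl))
    (deltaN hS' T' (n - 1) n (by omega)) (HTNmap T' S'.f n) (HTNmap T' S'.g n) (deltaN hS' T' n (n + 1) rfl)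
    (Phi L c τ₃ (n - 1)) (Phi L c τ₁ n) (Phi L c τ₂ n) (Phi L c τ₃ n) (Phi L c τ₁ (n + 1))
    (Phi_delta L c hS hS' τ₁ τ₂ τ₃ h₁ h₂ _ _ _) (Phi_map L c τ₁ τ₂ S.f S'.f h₁ n)
    (Phi_map L c τ₂ τ₃ S.g S'.g h₂ n) (Phi_delta L c hS hS' τ₁ τ₂ τ₃ h₁ h₂ _ _ _)
    (exact_mr _ _ (exact₁N hS T _ _ _)) (exact_mr _ _ (exact₂N hS T _)) (exact_mr _ _ (exact₃N hS T _ _ _))
    (exact₁N hS' T' _ _ _) (exact₂N hS' T' _) (exact₃N hS' T' _ _ _)
    (H₃ _).2 (H₁ _) (H₃ _) (H₁ _).1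

include hS hS' h₁ h₂ in
theorem BC.left (H₂ : BC L c τ₂) (H₃ : BC L c τ₃) : BC L c τ₁ := fun n =>
  AddMonoidHom.bijective_of_surjective_of_bijective_of_bijective_of_injective
    (mr ι (HTNmap T S.g (n - 1))) (mr ι (deltaN hS T (n - 1) n (by omega))) (mr ι (HTNmap T S.f n))
    (mr ι (HTNmap T S.g n))
    (HTNmap T' S'.g (n - 1)) (deltaN hS' T' (n - 1) n (by omega)) (HTNmap T' S'.f n) (HTNmap T' S'.g n)
    (Phi L c τ₂ (n - 1)) (Phi L c τ₃ (n - 1)) (Phi L c τ₁ n) (Phi L c τ₂ n) (Phi L c τ₃ n)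
    (Phi_map L c τ₂ τ₃ S.g S'.g h₂ _) (Phi_delta L c hS hS' τ₁ τ₂ τ₃ h₁ h₂ _ _ _)
    (Phi_map L c τ₁ τ₂ S.f S'.f h₁ n) (Phi_map L c τ₂ τ₃ S.g S'.g h₂ n)
    (exact_mr _ _ (exact₃N hS T _ _ _)) (exact_mr _ _ (exact₁N hS T _ _ _)) (exact_mr _ _ (exact₂N hS T _))
    (exact₃N hS' T' _ _ _) (exact₁N hS' T' _ _ _) (exact₂N hS' T' _)
    (H₂ _).2 (H₃ _) (H₂ _) (H₃ _).1

end two

/-- contractible complexes satisfy base change -/
theorem BC.of_homotopy {K : CochainComplex A ℕ} {K' : CochainComplex B ℕ} (ψ : ι → (mc L K ⟶ K'))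
    (h : Homotopy (𝟙 K) 0) (h' : Homotopy (𝟙 K') 0) : BC L c ψ := fun n => by
  have i1 := subsingleton_HTN T h n
  have i2 := subsingleton_HTN T' h' n
  exact ⟨fun a b _ => Subsingleton.elim _ _, fun b => ⟨0, Subsingleton.elim _ _⟩⟩

end pb

end K504.HTN
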