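import Groth.Agent.AbVar.K504.AltSh
import Groth.Agent.AbVar.K504.HTN
import Mathlib.Algebra.Homology.HomologicalComplexAbelian

/-!
# The short exact sequences `0 → N → CE(W) → CE(W') → 0` for `W = W' ⊕ ℤ e`
-/

set_option autoImplicit false

universe u v

open CategoryTheory CategoryTheory.Limits Opposite

namespace K504.AltSES

open AltSh

section abstract

universe v₁ u₁

variable {A : Type u₁} [Category.{v₁} A] [Abelian A] {K L : CochainComplex A ℕ} (f : K ⟶ L)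

/-- the kernel complex -/
noncomputable def kerC : CochainComplex A ℕ := kernel f

/-- its inclusion -/
noncomputable def kerι : kerC f ⟶ K := kernel.ι f

theorem kerι_comp : kerι f ≫ f = 0 := kernel.condition f

instance : Mono (kerι f) := inferInstanceAs (Mono (kernel.ι f))

theorem shortExact_ker [Epi f] : (ShortComplex.mk (kerι f) f (kerι_comp f)).ShortExact :=
  ShortComplex.ShortExact.mk' (ShortComplex.exact_of_f_is_kernel _ (kernelIsKernel f)) inferInstance inferInstance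

/-- functoriality of kernels -/
noncomputable def kerMap {K' L' : CochainComplex A ℕ} (f' : K' ⟶ L') (a : K ⟶ K') (b : L ⟶ L')
    (h : f ≫ b = a ≫ f') : kerC f ⟶ kerC f' :=
  kernel.lift f' (kerι f ≫ a) (by
    have h1 : kerι f ≫ (f ≫ b) = 0 := by rw [← Category.assoc, kerι_comp, zero_comp]
    rw [Category.assoc, ← h, h1])

theorem kerMap_ι {K' L' : CochainComplex A ℕ} (f' : K' ⟶ L') (a : K ⟶ K') (b : L ⟶ L')
    (h : f ≫ b = a ≫ f') : kerMap f f' a b h ≫ kerι f' = kerι f ≫ a := kernel.lift_ι _ _ _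

/-- degreewise equal short complexes -/
theorem shortExact_of_f {S S' : ShortComplex (CochainComplex A ℕ)} (hS : S.ShortExact)
    (e₁ : ∀ q, S.X₁.X q ≅ S'.X₁.X q) (e₂ : ∀ q, S.X₂.X q ≅ S'.X₂.X q) (e₃ : ∀ q, S.X₃.X q ≅ S'.X₃.X q)
    (h₁ : ∀ q, (e₁ q).hom ≫ S'.f.f q = S.f.f q ≫ (e₂ q).hom)
    (h₂ : ∀ q, (e₂ q).hom ≫ S'.g.f q = S.g.f q ≫ (e₃ q).hom) : S'.ShortExact := by
  refine HomologicalComplex.shortExact_of_degreewise_shortExact _ fun q => ?_
  refine ShortComplex.shortExact_of_iso (ShortComplex.isoMk (S₁ := S.map (HomologicalComplex.eval _ _ q))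
    (S₂ := S'.map (HomologicalComplex.eval _ _ q)) (e₁ q) (e₂ q) (e₃ q) (h₁ q) (h₂ q)) ?_
  exact hS.map_of_exact (HomologicalComplex.eval _ _ q)

end abstract

/-- A splitting `W = W' ⊕ ℤ e`. -/
structure Spl (W' W : Type) [AddCommGroup W'] [AddCommGroup W] where
  inc : W' →ₗ[ℤ] W
  pr : W →ₗ[ℤ] W'
  e : W
  es : W →ₗ[ℤ] ℤ
  pr_inc : ∀ v, pr (inc v) = v
  pr_e : pr e = 0
  es_e : es e = 1
  dec : ∀ v, inc (pr v) + es v • e = v

namespace Spl

variable {W' W : Type} [AddCommGroup W'] [AddCommGroup W] (S : Spl W' W)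

/-- the projector -/
def p : W →ₗ[ℤ] W := S.inc ∘ₗ S.pr

theorem p_dec (v : W) : S.p v + S.es v • S.e = v := S.dec v

theorem p_e : S.p S.e = 0 := by
  change S.inc (S.pr S.e) = 0
  rw [S.pr_e, map_zero]

theorem es_p (v : W) : S.es (S.p v) = 0 := AltAb.es_p S.p S.e S.es S.p_dec S.es_e v

theorem es_inc (v : W') : S.es (S.inc v) = 0 := by
  have h := S.es_p (S.inc v)
  change S.es (S.inc (S.pr (S.inc v))) = 0 at h
  rwa [S.pr_inc] at h

end Spl

variable {C : Type u} [SmallCategory C] {J : GrothendieckTopology C} {W' W : Type} [AddCommGroup W'] [AddCommGroup W]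
  (S : Spl W' W) {F G : Sheaf J AddCommGrpCat.{u}}

/-- operators on `W` from operators on `W'` and one more operator -/
def cons (t₀ : W' →+ (F ⟶ F)) (s : F ⟶ F) : W →+ (F ⟶ F) where
  toFun v := t₀ (S.pr v) + S.es v • s
  map_zero' := by simp
  map_add' v w := by
    simp only [map_add, add_smul]
    abel

theorem cons_apply (t₀ : W' →+ (F ⟶ F)) (s : F ⟶ F) (v : W) : cons S t₀ s v = t₀ (S.pr v) + S.es v • s := rfl

theorem cons_inc (t₀ : W' →+ (F ⟶ F)) (s : F ⟶ F) (v : W') : cons S t₀ s (S.inc v) = t₀ v := by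
  rw [cons_apply, S.pr_inc, S.es_inc, zero_smul, add_zero]

theorem cons_e (t₀ : W' →+ (F ⟶ F)) (s : F ⟶ F) : cons S t₀ s S.e = s := by
  rw [cons_apply, S.pr_e, map_zero, S.es_e, one_smul, zero_add]

theorem comm_cons {t₀ : W' →+ (F ⟶ F)} (h₀ : Comm t₀) {s : F ⟶ F} (hs : ∀ v, t₀ v ≫ s = s ≫ t₀ v) :
    Comm (cons S t₀ s) := fun v w => by
  simp only [cons_apply, Preadditive.add_comp, Preadditive.comp_add, Preadditive.zsmul_comp, Preadditive.comp_zsmul,
    h₀ (S.pr v) (S.pr w), hs, smul_add, smul_smul, mul_comm (S.es v) (S.es w)]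
  abel

/-- a morphism commuting with the pieces commutes with `cons` -/
theorem cons_comm {t₀ : W' →+ (F ⟶ F)} {s : F ⟶ F} {t₀' : W' →+ (G ⟶ G)} {s' : G ⟶ G} (f : F ⟶ G)
    (h₀ : ∀ v, t₀ v ≫ f = f ≫ t₀' v) (hs : s ≫ f = f ≫ s') (v : W) : cons S t₀ s v ≫ f = f ≫ cons S t₀' s' v := by
  simp only [cons_apply, Preadditive.add_comp, Preadditive.comp_add, Preadditive.zsmul_comp, Preadditive.comp_zsmul,
    h₀, hs]

theorem ap_zsmul (a : ℤ) (f : F ⟶ G) (U : Cᵒᵖ) (x : F.obj.obj U) : ap (a • f) U x = a • ap f U x := by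
  let φ : (F ⟶ G) →+ G.obj.obj U := AddMonoidHom.mk' (fun f => ap f U x) (fun f g => ap_add f g U x)
  exact map_zsmul φ a f

theorem opL_cons (t₀ : W' →+ (F ⟶ F)) (s : F ⟶ F) (U : Cᵒᵖ) (v : W) (x : F.obj.obj U) :
    opL (cons S t₀ s) U v x = opL (cons S t₀ 0) U v x + S.es v • (ap s U).toIntLinearMap x := by
  rw [opL_apply, opL_apply, cons_apply, cons_apply, smul_zero, add_zero, ap_add, ap_zsmul]
  rfl

/-- wedge with `e*` -/
def wdSh (F : Sheaf J AddCommGrpCat.{u}) (q : ℕ) : (altSh W q).obj F ⟶ (altSh W (q + 1)).obj F :=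
  ⟨{ app := fun U => AddCommGrpCat.ofHom (X := W [⋀^Fin q]→ₗ[ℤ] F.obj.obj U)
      (Y := W [⋀^Fin (q + 1)]→ₗ[ℤ] F.obj.obj U) (AltAb.wd S.es q).toAddMonoidHom
     naturality := fun U V i => by
      ext α
      exact (AltAb.wd_comp S.es (F.obj.map i).hom.toIntLinearMap q α).symm }⟩

theorem ap_wdSh (q : ℕ) (U : Cᵒᵖ) (α : W [⋀^Fin q]→ₗ[ℤ] F.obj.obj U) :
    ap (wdSh S F q) U α = AltAb.wd S.es q α := rfl

/-- the projector on alternating maps -/
def P (F : Sheaf J AddCommGrpCat.{u}) (q : ℕ) : (altSh W q).obj F ⟶ (altSh W q).obj F := resSh F S.p q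

theorem P_eq (q : ℕ) : P S F q = resSh F S.inc q ≫ resSh F S.pr q := rfl

theorem wdSh_map (q : ℕ) (f : F ⟶ G) : wdSh S F q ≫ (altSh W (q + 1)).map f = (altSh W q).map f ≫ wdSh S G q := by
  refine hom_ext' fun U α => ?_
  exact AltAb.wd_comp S.es (ap f U).toIntLinearMap q α

theorem P_wdSh (q : ℕ) : P S F q ≫ wdSh S F q = wdSh S F q := by
  refine hom_ext' fun U α => ?_
  exact (AltAb.wd_eq S.p S.e S.es S.p_dec S.p_e S.es_e q α).symm

theorem wdSh_P (q : ℕ) : wdSh S F q ≫ P S F (q + 1) = 0 := by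
  refine hom_ext' fun U α => ?_
  exact AltAb.wd_p S.p S.e S.es S.p_dec S.es_e q α

theorem dSh_cons (t₀ : W' →+ (F ⟶ F)) (s : F ⟶ F) (q : ℕ) :
    dSh (cons S t₀ s) q = dSh (cons S t₀ 0) q + wdSh S F q ≫ (altSh W (q + 1)).map s := by
  refine hom_ext' fun U α => ?_
  exact AltAb.d_cons S.es (opL (cons S t₀ s) U) (opL (cons S t₀ 0) U) (ap s U).toIntLinearMap
    (opL_cons S t₀ s U) q α

theorem dSh_cons_zero_P (t₀ : W' →+ (F ⟶ F)) (q : ℕ) :
    dSh (cons S t₀ 0) q ≫ P S F (q + 1) = P S F q ≫ dSh (cons S t₀ 0) q :=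
  dSh_resSh (cons S t₀ 0) (cons S t₀ 0) S.p (fun v => by
    rw [cons_apply, cons_apply, smul_zero, smul_zero, add_zero, add_zero]
    congr 1
    exact S.pr_inc _) q

variable {t₀ : W' →+ (F ⟶ F)} (h₀ : Comm t₀) {s : F ⟶ F} (hs : ∀ v, t₀ v ≫ s = s ≫ t₀ v)

/-- the restriction `CE(W) → CE(W')` -/
noncomputable def res : CE (cons S t₀ s) (comm_cons S h₀ hs) ⟶ CE t₀ h₀ :=
  CEres _ _ S.inc (cons_inc S t₀ s)

theorem res_f (q : ℕ) : (res S h₀ hs).f q = resSh F S.inc q := rfl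

theorem pr_inc_resSh (q : ℕ) : resSh F S.pr q ≫ resSh F S.inc q = 𝟙 _ := by
  refine hom_ext' fun U α => ?_
  exact AltAb.comp_comp_id S.inc S.pr S.pr_inc q α

instance (q : ℕ) : Epi ((res S h₀ hs).f q) := by
  rw [res_f]
  exact (SplitEpi.mk (resSh F S.pr q) (pr_inc_resSh S q) : SplitEpi (resSh F S.inc q)).epi

instance : Epi (res S h₀ hs) := HomologicalComplex.epi_of_epi_f _ inferInstance

theorem id_comm (v : W') : t₀ v ≫ 𝟙 F = 𝟙 F ≫ t₀ v := by rw [Category.comp_id, Category.id_comp]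

/-- the kernel complex -/
noncomputable def N : CochainComplex (Sheaf J AddCommGrpCat.{u}) ℕ := kerC (res S h₀ (s := 𝟙 F) id_comm)

/-- its inclusion -/
noncomputable def Nι : N S h₀ ⟶ CE (cons S t₀ (𝟙 F)) (comm_cons S h₀ id_comm) :=
  kerι (res S h₀ (s := 𝟙 F) id_comm)

theorem Nι_res : Nι S h₀ ≫ res S h₀ id_comm = 0 := kerι_comp _

theorem Nι_f_res (q : ℕ) : (Nι S h₀).f q ≫ resSh F S.inc q = 0 :=
  congrArg (fun f => HomologicalComplex.Hom.f f q) (Nι_res S h₀)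

/-- the inclusion in degree `q` -/
noncomputable def Nf (q : ℕ) : (N S h₀).X q ⟶ (altSh W q).obj F := (Nι S h₀).f q

theorem Nf_res (q : ℕ) : Nf S h₀ q ≫ resSh F S.inc q = 0 := Nι_f_res S h₀ q

theorem Nf_twf_aux (q : ℕ) (a : (altSh W q).obj F ⟶ (altSh W q).obj F) : Nf S h₀ q ≫ (P S F q ≫ a) = 0 := by
  rw [P_eq, Category.assoc, reassoc_of% (Nf_res S h₀ q), zero_comp]

theorem Nι_f_wdSh (q : ℕ) : (Nι S h₀).f q ≫ wdSh S F q = 0 := by
  have h := P_wdSh S (F := F) q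
  rw [← h, P_eq, Category.assoc]
  exact (Category.assoc _ _ _).symm.trans ((congrArg (fun t => t ≫ _) (Nι_f_res S h₀ q)).trans zero_comp)

theorem dSh_N (q : ℕ) : (Nι S h₀).f q ≫ dSh (cons S t₀ s) q = (N S h₀).d q (q + 1) ≫ (Nι S h₀).f (q + 1) := by
  have h1 := (Nι S h₀).comm q (q + 1)
  rw [CE_d] at h1
  refine Eq.trans ?_ h1
  rw [dSh_cons S t₀ s, dSh_cons S t₀ (𝟙 F)]
  have h2 : ∀ s : F ⟶ F, (Nι S h₀).f q ≫ (wdSh S F q ≫ (altSh W (q + 1)).map s) = 0 := fun s =>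
    (Category.assoc _ _ _).symm.trans ((congrArg (fun t => t ≫ _) (Nι_f_wdSh S h₀ q)).trans zero_comp)
  exact (Preadditive.comp_add _ _ _ _ _ _).trans ((congrArg₂ (· + ·) rfl ((h2 _).trans (h2 _).symm)).trans
    (Preadditive.comp_add _ _ _ _ _ _).symm)

/-- the inclusion of the kernel complex in `CE (cons t₀ s)` -/
noncomputable def Nj : N S h₀ ⟶ CE (cons S t₀ s) (comm_cons S h₀ hs) :=
  CochainComplex.ofHom (X := N S h₀) (Y := CE (cons S t₀ s) (comm_cons S h₀ hs)) (fun q => (Nι S h₀).f q) fun q => by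
    rw [CE_d]
    exact dSh_N S h₀ q

theorem Nj_f (q : ℕ) : (Nj S h₀ hs).f q = (Nι S h₀).f q := rfl

/-- the short complex `N → CE(W) → CE(W')` -/
noncomputable def sc : ShortComplex (CochainComplex (Sheaf J AddCommGrpCat.{u}) ℕ) :=
  ShortComplex.mk (Nj S h₀ hs) (res S h₀ hs) (by
    ext q : 1
    exact Nι_f_res S h₀ q)

/-- the case `s = 1` -/
noncomputable def sc1 : ShortComplex (CochainComplex (Sheaf J AddCommGrpCat.{u}) ℕ) :=
  ShortComplex.mk (Nι S h₀) (res S h₀ (s := 𝟙 F) id_comm) (Nι_res S h₀)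

theorem shortExact_sc1 : (sc1 S h₀).ShortExact := shortExact_ker (res S h₀ (s := 𝟙 F) id_comm)

theorem shortExact_sc : (sc S h₀ hs).ShortExact :=
  shortExact_of_f (S := sc1 S h₀) (S' := sc S h₀ hs) (shortExact_sc1 S h₀) (fun _ => Iso.refl _) (fun _ => Iso.refl _)
    (fun _ => Iso.refl _) (fun _ => (Category.id_comp _).trans (Category.comp_id _).symm)
    (fun _ => (Category.id_comp _).trans (Category.comp_id _).symm)

/-! ### The twist -/

theorem CEmap_id (ht : Comm t₀) : CEmap ht ht (𝟙 F) id_comm = 𝟙 _ := by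
  ext q : 1
  exact (altSh W' q).map_id F

/-- `CE (cons t₀ 1)` is contractible -/
noncomputable def contr : Homotopy (𝟙 (CE (cons S t₀ (𝟙 F)) (comm_cons S h₀ id_comm))) 0 := by
  have h1 : CEmap (comm_cons S h₀ id_comm) (comm_cons S h₀ id_comm) (cons S t₀ (𝟙 F) S.e)
      (fun v => comm_cons S h₀ id_comm v S.e) = 𝟙 (CE (cons S t₀ (𝟙 F)) (comm_cons S h₀ id_comm)) := by
    ext q : 1
    refine (congrArg (altSh W q).map (cons_e S t₀ (𝟙 F))).trans ?_
    exact (altSh W q).map_id F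
  exact h1 ▸ cartanHomotopy (comm_cons S h₀ id_comm) S.e

/-- the twist on components -/
noncomputable def twf (s : F ⟶ F) (q : ℕ) : (altSh W q).obj F ⟶ (altSh W q).obj F :=
  𝟙 _ + P S F q ≫ (altSh W q).map (s - 𝟙 F)

theorem twf_dSh (s : F ⟶ F) (hs : ∀ v, t₀ v ≫ s = s ≫ t₀ v) (q : ℕ) :
    twf S s q ≫ dSh (cons S t₀ (𝟙 F)) q = dSh (cons S t₀ s) q ≫ twf S s (q + 1) := by
  have e1 : (altSh W q).map (s - 𝟙 F) ≫ dSh (cons S t₀ 0) q =
      dSh (cons S t₀ 0) q ≫ (altSh W (q + 1)).map (s - 𝟙 F) :=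
    dSh_map (s - 𝟙 F) (fun v => by
      rw [cons_apply, smul_zero, add_zero, Preadditive.comp_sub, Preadditive.sub_comp, hs, Category.comp_id,
        Category.id_comp]) q
  have e2 : (altSh W q).map (s - 𝟙 F) ≫ wdSh S F q = wdSh S F q ≫ (altSh W (q + 1)).map (s - 𝟙 F) :=
    (wdSh_map S q (s - 𝟙 F)).symm
  have e3 : (altSh W (q + 1)).map (𝟙 F) = 𝟙 _ := (altSh W (q + 1)).map_id F
  have e4 : (altSh W (q + 1)).map (s - 𝟙 F) = (altSh W (q + 1)).map s - 𝟙 _ := by rw [Functor.map_sub, e3]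
  rw [dSh_cons S t₀ s, dSh_cons S t₀ (𝟙 F), e3, Category.comp_id]
  simp only [twf, Preadditive.add_comp, Preadditive.comp_add, Category.id_comp, Category.comp_id, Category.assoc]
  rw [e1, e2, reassoc_of% (P_wdSh S (F := F) q)]
  have e5 : wdSh S F q ≫ (altSh W (q + 1)).map s ≫ P S F (q + 1) ≫ (altSh W (q + 1)).map (s - 𝟙 F) = 0 := by
    have h1 : (altSh W (q + 1)).map s ≫ P S F (q + 1) = P S F (q + 1) ≫ (altSh W (q + 1)).map s :=
      (resSh_map S.p (q + 1) s).symm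
    rw [reassoc_of% h1, reassoc_of% (wdSh_P S (F := F) q), zero_comp]
  rw [e5, ← reassoc_of% (dSh_cons_zero_P S t₀ q)]
  have e6 : wdSh S F q ≫ (altSh W (q + 1)).map (s - 𝟙 F) = wdSh S F q ≫ (altSh W (q + 1)).map s - wdSh S F q := by
    rw [e4, Preadditive.comp_sub, Category.comp_id]
  rw [e6]
  abel

/-- the twist -/
noncomputable def twist : CE (cons S t₀ s) (comm_cons S h₀ hs) ⟶ CE (cons S t₀ (𝟙 F)) (comm_cons S h₀ id_comm) :=
  CochainComplex.ofHom (X := CE (cons S t₀ s) (comm_cons S h₀ hs))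
    (Y := CE (cons S t₀ (𝟙 F)) (comm_cons S h₀ id_comm)) (fun q => twf S s q) fun q => by
    rw [CE_d, CE_d]
    exact twf_dSh S s hs q

theorem twist_res : twist S h₀ hs ≫ res S h₀ id_comm = res S h₀ hs ≫ CEmap h₀ h₀ s hs := by
  ext q : 1
  change twf S s q ≫ resSh F S.inc q = resSh F S.inc q ≫ (altSh W' q).map s
  rw [twf, Preadditive.add_comp, Category.id_comp, Category.assoc, P_eq, Category.assoc]
  have h1 : (altSh W q).map (s - 𝟙 F) ≫ resSh F S.inc q = resSh F S.inc q ≫ (altSh W' q).map (s - 𝟙 F) :=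
    (resSh_map S.inc q _).symm
  rw [h1, reassoc_of% (pr_inc_resSh S (F := F) q), Functor.map_sub, Preadditive.comp_sub]
  have h2 : (altSh W' q).map (𝟙 F) = 𝟙 _ := (altSh W' q).map_id F
  rw [h2, Category.comp_id, add_sub_cancel]

theorem Nf_twf (q : ℕ) : Nf S h₀ q ≫ twf S s q = Nf S h₀ q := by
  rw [twf, Preadditive.comp_add, Nf_twf_aux, Category.comp_id, add_zero]

theorem Nj_twist : Nj S h₀ hs ≫ twist S h₀ hs = Nj S h₀ id_comm := by
  ext q : 1
  exact Nf_twf S h₀ q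

/-- the morphism of short complexes given by the twist -/
noncomputable def twS : sc S h₀ hs ⟶ sc S h₀ (s := 𝟙 F) id_comm where
  τ₁ := 𝟙 _
  τ₂ := twist S h₀ hs
  τ₃ := CEmap h₀ h₀ s hs
  comm₁₂ := (Category.id_comp _).trans (Nj_twist S h₀ hs).symm
  comm₂₃ := twist_res S h₀ hs

end K504.AltSES
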