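import Groth.Agent.AbVar.K504.AltAb
import Mathlib.CategoryTheory.Sites.Whiskering
import Mathlib.CategoryTheory.Sites.Limits
import Mathlib.CategoryTheory.Sites.Abelian
import Mathlib.CategoryTheory.Preadditive.Yoneda.Limits
import Mathlib.LinearAlgebra.ExteriorPower.Basic
import Mathlib.Algebra.Category.Grp.Limits
import Mathlib.Algebra.Homology.Additive
import Mathlib.Algebra.Homology.Homotopy
import Mathlib.Algebra.Category.Grp.Preadditive

/-!
# Sheaves of alternating maps
-/

set_option autoImplicit false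

universe u v

open CategoryTheory CategoryTheory.Limits Opposite

namespace K504.AltSh

section functor

variable (W : Type) [AddCommGroup W] (q : ℕ)

/-- `G ↦ Alt^q(W, G)` -/
def altF : AddCommGrpCat.{u} ⥤ AddCommGrpCat.{u} where
  obj G := AddCommGrpCat.of (W [⋀^Fin q]→ₗ[ℤ] G)
  map f := AddCommGrpCat.ofHom
    { toFun := fun α => f.hom.toIntLinearMap.compAlternatingMap α
      map_zero' := by ext x; simp
      map_add' := fun α β => by ext x; simp }
  map_id G := by
    ext α
    rfl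
  map_comp f g := by
    ext α
    rfl

theorem altF_map_apply {G H : AddCommGrpCat.{u}} (f : G ⟶ H) (α : W [⋀^Fin q]→ₗ[ℤ] G) :
    (altF W q).map f α = f.hom.toIntLinearMap.compAlternatingMap α := rfl

instance : (altF.{u} W q).Additive where
  map_add {G H f g} := by
    ext α
    rfl

/-- the exterior power as an object -/
noncomputable def extO : AddCommGrpCat.{u} := AddCommGrpCat.of (ULift.{u} (⋀[ℤ]^q W))

/-- `Alt^q(W, G) = Hom(Λ^q W, G)` -/
noncomputable def altEquiv (G : AddCommGrpCat.{u}) : (W [⋀^Fin q]→ₗ[ℤ] G) ≃+ (extO.{u} W q ⟶ G) where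
  toFun α := AddCommGrpCat.ofHom ((exteriorPower.alternatingMapLinearEquiv α).toAddMonoidHom.comp
    AddEquiv.ulift.toAddMonoidHom)
  invFun f := exteriorPower.alternatingMapLinearEquiv.symm (f.hom.comp AddEquiv.ulift.symm.toAddMonoidHom).toIntLinearMap
  left_inv α := by
    refine (congrArg exteriorPower.alternatingMapLinearEquiv.symm ?_).trans (LinearEquiv.symm_apply_apply _ α)
    ext x
    rfl
  right_inv f := by
    ext x
    change exteriorPower.alternatingMapLinearEquiv (exteriorPower.alternatingMapLinearEquiv.symm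
      (f.hom.comp AddEquiv.ulift.symm.toAddMonoidHom).toIntLinearMap) x.down = f.hom x
    rw [LinearEquiv.apply_symm_apply]
    rfl
  map_add' α β := by
    ext x
    change exteriorPower.alternatingMapLinearEquiv (α + β) x.down = _
    rw [map_add]
    rfl

/-- `altF` is representable -/
noncomputable def altIso : altF.{u} W q ≅ preadditiveCoyoneda.obj (op (extO.{u} W q)) :=
  NatIso.ofComponents (fun G => (altEquiv W q G).toAddCommGrpIso) (by
    intro G H f
    ext α
    change altEquiv W q H (f.hom.toIntLinearMap.compAlternatingMap α) = altEquiv W q G α ≫ f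
    ext x
    change exteriorPower.alternatingMapLinearEquiv (f.hom.toIntLinearMap.compAlternatingMap α) x.down =
      f.hom (exteriorPower.alternatingMapLinearEquiv α x.down)
    exact DFunLike.congr_fun (exteriorPower.alternatingMapLinearEquiv_comp f.hom.toIntLinearMap
      (show W [⋀^Fin q]→ₗ[ℤ] G from α)) x.down)

instance : PreservesLimitsOfSize.{u, u} (altF.{u} W q) :=
  preservesLimits_of_natIso (altIso W q).symm

end functor

variable {C : Type u} [SmallCategory C] {J : GrothendieckTopology C} (W : Type) [AddCommGroup W]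

/-- the sheaf `Alt^q(W, F)` -/
noncomputable def altSh (q : ℕ) : Sheaf J AddCommGrpCat.{u} ⥤ Sheaf J AddCommGrpCat.{u} := sheafCompose J (altF W q)

instance (q : ℕ) : (altSh (J := J) W q).Additive where
  map_add {F G f g} := by
    ext U α
    rfl

variable {W} {F G : Sheaf J AddCommGrpCat.{u}}

/-- the additive map on sections -/
def ap (f : F ⟶ G) (U : Cᵒᵖ) : F.obj.obj U →+ G.obj.obj U := (f.hom.app U).hom

theorem ap_comp {H : Sheaf J AddCommGrpCat.{u}} (f : F ⟶ G) (g : G ⟶ H) (U : Cᵒᵖ) (x : F.obj.obj U) :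
    ap (f ≫ g) U x = ap g U (ap f U x) := rfl

theorem ap_add (f g : F ⟶ G) (U : Cᵒᵖ) (x : F.obj.obj U) :
    ap (f + g) U x = ap f U x + ap g U x := rfl

theorem ap_zero (U : Cᵒᵖ) (x : F.obj.obj U) : ap (0 : F ⟶ G) U x = 0 := rfl

theorem ap_id (U : Cᵒᵖ) (x : F.obj.obj U) : ap (𝟙 F) U x = x := rfl

/-- the section groups of `altSh` -/
theorem ap_map (f : F ⟶ G) (q : ℕ) (U : Cᵒᵖ) (α : W [⋀^Fin q]→ₗ[ℤ] F.obj.obj U) :
    ap ((altSh W q).map f) U α = (ap f U).toIntLinearMap.compAlternatingMap α := rfl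

/-- restriction on sections of `altSh` -/
theorem map_obj_apply (q : ℕ) {U V : Cᵒᵖ} (i : U ⟶ V) (α : W [⋀^Fin q]→ₗ[ℤ] F.obj.obj U) :
    ((altSh W q).obj F).obj.map i α = (F.obj.map i).hom.toIntLinearMap.compAlternatingMap α := rfl

/-- extensionality -/
theorem hom_ext' {f g : F ⟶ G} (h : ∀ U x, ap f U x = ap g U x) : f = g := by
  ext U x
  exact h U x

/-- operators on sections -/
def opL (t : W →+ (F ⟶ F)) (U : Cᵒᵖ) : W →ₗ[ℤ] (F.obj.obj U →ₗ[ℤ] F.obj.obj U) :=
  AddMonoidHom.toIntLinearMap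
    { toFun := fun v => (ap (t v) U).toIntLinearMap
      map_zero' := by
        ext x
        rw [map_zero]
        rfl
      map_add' := fun v w => by
        ext x
        rw [map_add]
        rfl }

theorem opL_apply (t : W →+ (F ⟶ F)) (U : Cᵒᵖ) (v : W) (x : F.obj.obj U) : opL t U v x = ap (t v) U x := rfl

/-- the differential -/
def dSh (t : W →+ (F ⟶ F)) (q : ℕ) : (altSh W q).obj F ⟶ (altSh W (q + 1)).obj F :=
  ⟨{ app := fun U => AddCommGrpCat.ofHom (AltAb.d (opL t U) q).toAddMonoidHom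
     naturality := fun U V i => by
      ext α
      change AltAb.d (opL t V) q ((F.obj.map i).hom.toIntLinearMap.compAlternatingMap α) =
        (F.obj.map i).hom.toIntLinearMap.compAlternatingMap (AltAb.d (opL t U) q α)
      refine (AltAb.d_comp (τ := opL t U) (σ := opL t V) (F.obj.map i).hom.toIntLinearMap (fun v x => ?_) q α).symm
      exact ConcreteCategory.congr_hom ((t v).hom.naturality i).symm x }⟩

theorem ap_dSh (t : W →+ (F ⟶ F)) (q : ℕ) (U : Cᵒᵖ) (α : W [⋀^Fin q]→ₗ[ℤ] F.obj.obj U) :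
    ap (dSh t q) U α = AltAb.d (opL t U) q α := rfl

/-- commuting operators -/
def Comm (t : W →+ (F ⟶ F)) : Prop := ∀ v w, t v ≫ t w = t w ≫ t v

theorem dSh_dSh {t : W →+ (F ⟶ F)} (ht : Comm t) (q : ℕ) : dSh t q ≫ dSh t (q + 1) = 0 := by
  refine hom_ext' fun U α => ?_
  exact AltAb.d_d (opL t U) (fun v w x => congrArg (fun f => ap f U x) (ht w v)) q α

/-- The complex `CE(W, F, t)`. -/
noncomputable def CE (t : W →+ (F ⟶ F)) (ht : Comm t) : CochainComplex (Sheaf J AddCommGrpCat.{u}) ℕ :=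
  CochainComplex.of (fun q => (altSh W q).obj F) (dSh t) (dSh_dSh ht)

/-- functoriality in `F` -/
theorem dSh_map {t : W →+ (F ⟶ F)} {s : W →+ (G ⟶ G)} (f : F ⟶ G) (hf : ∀ v, t v ≫ f = f ≫ s v) (q : ℕ) :
    (altSh W q).map f ≫ dSh s q = dSh t q ≫ (altSh W (q + 1)).map f := by
  refine hom_ext' fun U α => ?_
  exact (AltAb.d_comp (τ := opL t U) (σ := opL s U) (ap f U).toIntLinearMap
    (fun v x => congrArg (fun g => ap g U x) (hf v)) q α).symm

theorem CE_d (t : W →+ (F ⟶ F)) (ht : Comm t) (q : ℕ) : (CE t ht).d q (q + 1) = dSh t q :=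
  CochainComplex.of_d (fun q => (altSh W q).obj F) (dSh t) q

/-- functoriality in `F` -/
noncomputable def CEmap {t : W →+ (F ⟶ F)} (ht : Comm t) {s : W →+ (G ⟶ G)} (hs : Comm s) (f : F ⟶ G)
    (hf : ∀ v, t v ≫ f = f ≫ s v) : CE t ht ⟶ CE s hs :=
  CochainComplex.ofHom (X := CE t ht) (Y := CE s hs) (fun q => (altSh W q).map f) fun q => by
    rw [CE_d, CE_d]
    exact dSh_map f hf q

theorem CEmap_f {t : W →+ (F ⟶ F)} (ht : Comm t) {s : W →+ (G ⟶ G)} (hs : Comm s) (f : F ⟶ G)
    (hf : ∀ v, t v ≫ f = f ≫ s v) (q : ℕ) : (CEmap ht hs f hf).f q = (altSh W q).map f := rfl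

section W'

variable {W' : Type} [AddCommGroup W']

/-- composition with `u : W' → W` -/
def resSh (F : Sheaf J AddCommGrpCat.{u}) (u : W' →ₗ[ℤ] W) (q : ℕ) : (altSh W q).obj F ⟶ (altSh W' q).obj F :=
  ⟨{ app := fun U => AddCommGrpCat.ofHom (X := W [⋀^Fin q]→ₗ[ℤ] F.obj.obj U) (Y := W' [⋀^Fin q]→ₗ[ℤ] F.obj.obj U)
      { toFun := fun α => α.compLinearMap u
        map_zero' := rfl
        map_add' := fun _ _ => rfl }
     naturality := fun U V i => by
      ext α
      rfl }⟩

theorem ap_resSh (u : W' →ₗ[ℤ] W) (q : ℕ) (U : Cᵒᵖ) (α : W [⋀^Fin q]→ₗ[ℤ] F.obj.obj U) :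
    ap (resSh F u q) U α = α.compLinearMap u := rfl

theorem resSh_map (u : W' →ₗ[ℤ] W) (q : ℕ) (f : F ⟶ G) :
    resSh F u q ≫ (altSh W' q).map f = (altSh W q).map f ≫ resSh G u q := rfl

theorem dSh_resSh (t : W →+ (F ⟶ F)) (t' : W' →+ (F ⟶ F)) (u : W' →ₗ[ℤ] W) (h : ∀ v, t (u v) = t' v) (q : ℕ) :
    dSh t q ≫ resSh F u (q + 1) = resSh F u q ≫ dSh t' q := by
  refine hom_ext' fun U α => ?_
  refine (AltAb.d_compLinearMap (opL t U) u q α).trans ?_
  have h1 : opL t U ∘ₗ u = opL t' U := by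
    ext v x
    change ap (t (u v)) U x = ap (t' v) U x
    rw [h]
  rw [h1]
  rfl

/-- restriction as a morphism of complexes -/
noncomputable def CEres {t : W →+ (F ⟶ F)} (ht : Comm t) {t' : W' →+ (F ⟶ F)} (ht' : Comm t') (u : W' →ₗ[ℤ] W)
    (h : ∀ v, t (u v) = t' v) : CE t ht ⟶ CE t' ht' :=
  CochainComplex.ofHom (X := CE t ht) (Y := CE t' ht') (fun q => resSh F u q) fun q => by
    rw [CE_d, CE_d]
    exact (dSh_resSh t t' u h q).symm

end W'

/-- contraction -/
def conSh (F : Sheaf J AddCommGrpCat.{u}) (e : W) (q : ℕ) : (altSh W (q + 1)).obj F ⟶ (altSh W q).obj F :=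
  ⟨{ app := fun U => AddCommGrpCat.ofHom (X := W [⋀^Fin (q + 1)]→ₗ[ℤ] F.obj.obj U)
      (Y := W [⋀^Fin q]→ₗ[ℤ] F.obj.obj U) (AltAb.con e q).toAddMonoidHom
     naturality := fun U V i => by
      ext α
      rfl }⟩

theorem ap_conSh (e : W) (q : ℕ) (U : Cᵒᵖ) (α : W [⋀^Fin (q + 1)]→ₗ[ℤ] F.obj.obj U) :
    ap (conSh F e q) U α = AltAb.con e q α := rfl

theorem cartanSh (t : W →+ (F ⟶ F)) (e : W) (q : ℕ) :
    conSh F e q ≫ dSh t q + dSh t (q + 1) ≫ conSh F e (q + 1) = (altSh W (q + 1)).map (t e) := by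
  refine hom_ext' fun U α => ?_
  exact AltAb.cartan (opL t U) e q α

theorem cartanSh_zero (t : W →+ (F ⟶ F)) (e : W) :
    dSh t 0 ≫ conSh F e 0 = (altSh W 0).map (t e) := by
  refine hom_ext' fun U α => ?_
  exact AltAb.cartan_zero (opL t U) e α

/-- contraction as a homotopy -/
noncomputable def homot {t : W →+ (F ⟶ F)} (ht : Comm t) (e : W) (i j : ℕ) : (CE t ht).X i ⟶ (CE t ht).X j :=
  if h : j + 1 = i then eqToHom (by rw [← h]; rfl) ≫ conSh F e j else 0

theorem homot_succ {t : W →+ (F ⟶ F)} (ht : Comm t) (e : W) (q : ℕ) : homot ht e (q + 1) q = conSh F e q := by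
  rw [homot, dif_pos rfl]
  exact Category.id_comp _

/-- **Cartan's homotopy formula.** -/
noncomputable def cartanHomotopy {t : W →+ (F ⟶ F)} (ht : Comm t) (e : W) :
    Homotopy (CEmap ht ht (t e) (fun v => ht v e)) 0 where
  hom := homot ht e
  zero i j h := dif_neg h
  comm q := by
    rw [HomologicalComplex.zero_f, add_zero, CEmap_f]
    cases q with
    | zero =>
      rw [Homotopy.prevD_zero_cochainComplex, Homotopy.dNext_cochainComplex, CE_d, homot_succ, add_zero]
      exact (cartanSh_zero t e).symm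
    | succ q =>
      rw [Homotopy.prevD_succ_cochainComplex, Homotopy.dNext_cochainComplex, CE_d, CE_d, homot_succ, homot_succ]
      exact (cartanSh t e q).symm.trans (add_comm _ _)

end K504.AltSh
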