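import Groth.Agent.AbVar.K504.Star
import Groth.Prelude.Def_DeRham2
import Groth.Prelude.Def_KLinDR

/-!
# Global frames of vector fields, and the interface of the proof of Hodge - de Rham for abelian varieties

* `Frame f g`: `g` maps `Ω_{X/S} ⟶ O_X` which identify `Ω` with `O_X^g`; `F.del j : O_X ⟶ O_X` the derivations
  (endomorphisms of the abelian sheaf `Oab X`).
* `lin τ : ℤ^m →+ End F` for a family `τ` of operators.
* `Kos F hc : CochainComplex _ ℕ`, the Koszul (Chevalley-Eilenberg) complex `CE(ℤ^g, O_X, del)`.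
-/

set_option autoImplicit false

universe u v

open CategoryTheory CategoryTheory.Limits Opposite TopologicalSpace AlgebraicGeometry

namespace K504.Inv

open GDMap AltSh AltSES AltBC K504.Star

section lin

variable {C : Type u} [SmallCategory C] {J : GrothendieckTopology C} {F : Sheaf J AddCommGrpCat.{u}}

/-- the operators `Σ v_j τ_j` -/
def lin {m : ℕ} (τ : Fin m → (F ⟶ F)) : (Fin m → ℤ) →+ (F ⟶ F) where
  toFun v := ∑ j, v j • τ j
  map_zero' := by simp
  map_add' v w := by simp [add_smul, Finset.sum_add_distrib]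

theorem lin_apply {m : ℕ} (τ : Fin m → (F ⟶ F)) (v : Fin m → ℤ) : lin τ v = ∑ j, v j • τ j := rfl

theorem lin_single {m : ℕ} (τ : Fin m → (F ⟶ F)) (j : Fin m) : lin τ (Pi.single j 1) = τ j := by
  rw [lin_apply, Finset.sum_eq_single j]
  · rw [Pi.single_eq_same, one_smul]
  · intro i _ hi
    rw [Pi.single_eq_of_ne hi, zero_smul]
  · intro h
    exact absurd (Finset.mem_univ _) h

theorem comm_lin {m : ℕ} {τ : Fin m → (F ⟶ F)} (h : ∀ i j, τ i ≫ τ j = τ j ≫ τ i) : Comm (lin τ) := fun v w => by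
  simp only [lin_apply, Preadditive.sum_comp, Preadditive.comp_sum, Preadditive.zsmul_comp, Preadditive.comp_zsmul,
    Finset.smul_sum]
  rw [Finset.sum_comm]
  refine Finset.sum_congr rfl fun i _ => Finset.sum_congr rfl fun j _ => ?_
  rw [h, smul_comm]

theorem lin_comm {m : ℕ} {τ : Fin m → (F ⟶ F)} {s : F ⟶ F} (h : ∀ i, τ i ≫ s = s ≫ τ i) (v : Fin m → ℤ) :
    lin τ v ≫ s = s ≫ lin τ v := by
  simp only [lin_apply, Preadditive.sum_comp, Preadditive.comp_sum, Preadditive.zsmul_comp, Preadditive.comp_zsmul, h]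

theorem lin_succ {m : ℕ} (τ : Fin (m + 1) → (F ⟶ F)) : lin τ = cons (splFin m) (lin (Fin.tail τ)) (τ 0) := by
  refine AddMonoidHom.ext fun v => ?_
  rw [cons_apply, lin_apply, lin_apply, Fin.sum_univ_succ, add_comm]
  rfl

end lin

variable {k : Type u} [Field k] {X Y : Scheme.{u}}

section S

variable {S : Scheme.{u}} {f : X ⟶ S}

/-- a derivation `O_X → O_X` as an endomorphism of the abelian sheaf `O_X` -/
noncomputable def dv (D : OmegaSh.Der f (Coh.structureModule X)) : Oab X ⟶ Oab X :=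
  ⟨{ app := fun V => AddCommGrpCat.ofHom (X := Γ(X, V.unop)) (Y := Γ(X, V.unop))
      ((OmegaSh.fnSect X V.unop).comp (D.app V.unop))
     naturality := fun V W i => by
      ext x
      exact (D.d_map i x) }⟩

theorem ap_dv (D : OmegaSh.Der f (Coh.structureModule X)) (V : X.Opens) (x : Γ(X, V)) :
    ap (dv D) (op V) x = OmegaSh.fnSect X V (D.app V x) := rfl

variable [QuasiSeparated f]

/-- `g` linear forms on `Ω` which give an isomorphism `Ω ≅ O^g` -/
structure Frame (f : X ⟶ S) [QuasiSeparated f] (g : ℕ) where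
  D : Fin g → (Omega.sheaf f ⟶ Coh.structureModule X)
  bij : ∀ U : X.Opens, Function.Bijective (fun (m : Γ(Omega.sheaf f, U)) (j : Fin g) =>
    OmegaSh.fnSect X U ((D j).app U m))

variable {g : ℕ} (F : Frame f g)

/-- the derivations -/
noncomputable def Frame.der (j : Fin g) : OmegaSh.Der f (Coh.structureModule X) :=
  (OmegaSh.dOmega f).postcomp (F.D j).val

/-- the derivations, as endomorphisms of the abelian sheaf `O_X` -/
noncomputable def Frame.del (j : Fin g) : Oab X ⟶ Oab X := dv (F.der j)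

theorem Frame.ap_del (j : Fin g) (V : X.Opens) (x : Γ(X, V)) :
    ap (F.del j) (op V) x = OmegaSh.fnSect X V ((F.D j).app V ((OmegaSh.dOmega f).app V x)) := rfl

/-- the Koszul complex -/
noncomputable def Kos (hc : ∀ i j, F.del i ≫ F.del j = F.del j ≫ F.del i) :
    CochainComplex (Sheaf (Opens.grothendieckTopology X) AddCommGrpCat.{u}) ℕ :=
  CE (lin F.del) (comm_lin hc)

theorem Kos_X (hc : ∀ i j, F.del i ≫ F.del j = F.del j ≫ F.del i) (q : ℕ) :
    (Kos F hc).X q = (altSh (Fin g → ℤ) q).obj (Oab X) := rfl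

/-- **(T5)** The statement: the de Rham complex is the Koszul complex of the frame. -/
def T5 : Prop := ∀ (hc : ∀ i j, F.del i ≫ F.del j = F.del j ≫ F.del i) (D : DeRhamSh.OmegaCx f),
  ∃ φ : D.K ≅ Kos F hc, ∀ (q : ℕ) (a : Coh.Γtop X),
    (D.iso q).hom ≫ Coh.smulAb (D.term q) a ≫ (D.iso q).inv ≫ φ.hom.f q =
      φ.hom.f q ≫ (show (Kos F hc).X q ⟶ (Kos F hc).X q from
        (altSh (Fin g → ℤ) q).map (Coh.smulAb (Coh.structureModule X) a))

end S

/-- **(G)** The statement: invariant derivations on a `k`-scheme `X` with "addition" `μ : X × X ⟶ X`. Here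
`p1 p2 μ : Y ⟶ X` with `Y = X × X`. -/
structure InvData (f : X ⟶ Spec (CommRingCat.of k)) [QuasiSeparated f] (p1 p2 μ : Y ⟶ X) (g : ℕ) where
  F : Frame f g
  comm : ∀ i j, F.del i ≫ F.del j = F.del j ≫ F.del i
  /-- derivations along the first factor -/
  u1 : Fin g → (Oab Y ⟶ Oab Y)
  /-- derivations along the second factor -/
  u2 : Fin g → (Oab Y ⟶ Oab Y)
  u1_p1 : ∀ j, co p1 ≫ (CohTop.push (X := Y.toTopCat) (Y := X.toTopCat) p1.base).map (u1 j) = F.del j ≫ co p1
  u1_μ : ∀ j, co μ ≫ (CohTop.push (X := Y.toTopCat) (Y := X.toTopCat) μ.base).map (u1 j) = F.del j ≫ co μ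
  u1_lin : ∀ j, PLin p2 (u1 j)
  u2_p1 : ∀ j, co p1 ≫ (CohTop.push (X := Y.toTopCat) (Y := X.toTopCat) p1.base).map (u2 j) = 0
  u2_μ : ∀ j, co μ ≫ (CohTop.push (X := Y.toTopCat) (Y := X.toTopCat) μ.base).map (u2 j) = F.del j ≫ co μ
  comm11 : ∀ i j, u1 i ≫ u1 j = u1 j ≫ u1 i
  comm12 : ∀ i j, u1 i ≫ u2 j = u2 j ≫ u1 i

end K504.Inv
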