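import Groth.Agent.AbVar.K504.Star4
import Groth.Agent.AbVar.K504.Inv
import Groth.Agent.DelIll.K905.HTSch

/-!
# Dimension of the hypercohomology of the Koszul complex
-/

set_option autoImplicit false
set_option linter.unusedSectionVars false

universe w w' u v

open CategoryTheory CategoryTheory.Limits Opposite TopologicalSpace AlgebraicGeometry

namespace K504.Dim

open K504.Star GD GDMap AltSh AltSES AltPb HTN HTBase AltBC StarBC AltRho E1Deg KLinDR K905.HTFin K905.HTAbs K504.Inv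
  Groth.Agent.CohtopA.FreeAb

/-- transport of the instance -/
noncomputable instance instAb (X : Scheme.{u})
    [i : HasDerivedCategory.{w} (Sheaf (Opens.grothendieckTopology X) AddCommGrpCat.{u})] :
    HasDerivedCategory.{w} (CohTop.Ab X.toTopCat) := i

section base

variable {k : Type u} [Field k] {X : Scheme.{u}} [X.Over (Spec (CommRingCat.of k))]
  [i : HasDerivedCategory.{w} (Sheaf (Opens.grothendieckTopology X) AddCommGrpCat.{u})]
  {t : (Fin 0 → ℤ) →+ (Oab X ⟶ Oab X)} (ht : Comm t) (hr : RC (rX (X ↘ Spec (CommRingCat.of k))) t)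

/-- the free sheaf on `X` -/
noncomputable abbrev TX (X : Scheme.{u}) : CohTop.Ab X.toTopCat :=
  freeAb (Opens.grothendieckTopology X.toTopCat) (⊤ : Opens X.toTopCat)

theorem hK (q : ℕ) : IsZero ((CE t ht).X (q + 1)) := isZero_alt q (Oab X)

/-- the isomorphism with the complex in degree `0` -/
theorem exists_equiv₁ {A : Type*} [Category* A] [Abelian A] [HasDerivedCategory.{w} A] (K : CochainComplex A ℕ)
    (hK : ∀ q, IsZero (K.X (q + 1))) (ρ : k →+* End (ex K)) (T : A) (n : ℤ) :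
    Nonempty (HTρ T ((HomologicalComplex.single A (ComplexShape.up ℤ) 0).obj ((ex K).X 0))
      ((grEnd (ex K) 0).comp ρ) n ≃ₗ[k] HTρ T (ex K) ρ n) := by
  have h1 := isIso_al K (x0 K) hK
  have h2 : Commutes ((grEnd (ex K) 0).comp ρ) ρ (al K (x0 K) hK) := fun a => by
    refine HomologicalComplex.from_single_hom_ext ?_
    change ((HomologicalComplex.single A (ComplexShape.up ℤ) 0).map
      (HomologicalComplex.Hom.f (A := ex K) (B := ex K) (ρ a) 0)).f 0 ≫ (al K (x0 K) hK).f 0 =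
      (al K (x0 K) hK).f 0 ≫ HomologicalComplex.Hom.f (A := ex K) (B := ex K) (ρ a) 0
    rw [al_f, HomologicalComplex.single_map_f_self, Iso.hom_inv_id, Category.comp_id, Category.assoc, Category.assoc,
      Iso.inv_hom_id, Category.comp_id]
  exact ⟨HTρequiv T (al K (x0 K) hK) h2 n⟩

theorem i0_inv_nat {C : Type u} [SmallCategory C] {J : GrothendieckTopology C} (W : Type) [AddCommGroup W]
    {F G : Sheaf J AddCommGrpCat.{u}} (φ : F ⟶ G) :
    (altSh W 0).map φ ≫ (i0 W G).inv = (i0 W F).inv ≫ φ := rfl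

theorem abs_e {D : Type*} [Category* D] {P Q R : D} {x : P ≅ Q} {y : Q ≅ R} (e : P ≅ R) (he : e = x ≪≫ y) {s : Q ⟶ Q}
    {r : R ⟶ R} (h : s ≫ y.hom = y.hom ≫ r) {ρ : P ⟶ P} (hρ : ρ = x.hom ≫ s ≫ x.inv) : ρ ≫ e.hom = e.hom ≫ r := by
  subst he hρ
  simp only [Iso.trans_hom, Category.assoc, Iso.inv_hom_id_assoc]
  rw [h]

theorem exists_equiv (m : ℕ) : Nonempty (HTρ (TX X) (ex (CE t ht)) (ρx ht hr) (m : ℤ) ≃ₗ[k]
    Coh.HH X (Coh.structureModule X) m) := by
  obtain ⟨e1⟩ := exists_equiv₁ (k := k) (CE t ht) (hK ht) (ρx ht hr) (TX X) (m : ℤ)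
  refine ⟨e1.symm.trans (grLin (A := Sheaf (Opens.grothendieckTopology X) AddCommGrpCat.{u}) (K905.HTSch.zIso X) (ex (CE t ht)) (ρx ht hr) (G := Oab X) 0 (m : ℤ) m (by omega)
    (x0 (CE t ht) ≪≫ (i0 (Fin 0 → ℤ) (Oab X)).symm)
    (fun a => Coh.smulAb (Coh.structureModule X) (Coh.toGlobal (X ↘ Spec (CommRingCat.of k)) a)) (fun a => ?_)
    (AddEquiv.refl _) (fun a x => rfl))⟩
  exact abs_e (D := Sheaf (Opens.grothendieckTopology X) AddCommGrpCat.{u}) (x := x0 (CE t ht))
    (y := (i0 (Fin 0 → ℤ) (Oab X)).symm) _ rfl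
    (i0_inv_nat (Fin 0 → ℤ) (Coh.smulAb (Coh.structureModule X) (Coh.toGlobal (X ↘ Spec (CommRingCat.of k)) a)))
    (exm_x0 (sm ht hr a))

end base

/-- extended binomial coefficients -/
def cz (N : ℕ) (n : ℤ) : ℕ := if n < 0 then 0 else N.choose n.toNat

theorem cz_nat (N n : ℕ) : cz N (n : ℤ) = N.choose n := by
  rw [cz, if_neg (by omega)]
  rfl

theorem cz_succ (N : ℕ) (n : ℤ) : cz (N + 1) n = cz N (n - 1) + cz N n := by
  by_cases hn : n < 0
  · rw [cz, cz, cz, if_pos hn, if_pos (by omega), if_pos hn]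
  · obtain ⟨a, rfl⟩ := Int.eq_ofNat_of_zero_le (show 0 ≤ n by omega)
    cases a with
    | zero => 
      rw [cz_nat, cz_nat, cz, if_pos (by norm_num)]
      simp
    | succ a =>
      have h1 : ((a + 1 : ℕ) : ℤ) - 1 = (a : ℤ) := by push_cast; ring
      rw [h1, cz_nat, cz_nat, cz_nat, Nat.choose_succ_succ]

end K504.Dim
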