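import Groth.Agent.AbVar.K504.DimK
import Groth.Agent.AbVar.K504.AnyField
import Groth.Agent.DeRhamSh.K853.CxAff
import Groth.Agent.CurvesC.CurveNum
import Groth.Agent.PerfA.CohSerre
import Groth.Agent.PerfA.PerfLocal

/-!
# De Rham cohomology of an abelian variety, from (T5) and (G)
-/

set_option autoImplicit false
set_option linter.unusedSectionVars false

universe w w' u v

open CategoryTheory CategoryTheory.Limits Opposite TopologicalSpace AlgebraicGeometry

namespace K504.DimAV

open K504.Star StarBC E1Deg KLinDR K504.Inv K504.Dim K504.DimK Groth.Agent.CurvesC.CurveNum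

theorem surjective_of_finrank_one {K A : Type*} [Field K] [Ring A] [Module K A] (φ : K →+* A)
    (hs : ∀ (c : K) (x : A), c • x = φ c * x) (h : Module.finrank K A = 1) : Function.Surjective φ := by
  have hnt : Nontrivial A := by
    by_contra hcon
    rw [not_nontrivial_iff_subsingleton] at hcon
    rw [Module.finrank_zero_of_subsingleton] at h
    exact zero_ne_one h
  intro a
  obtain ⟨c, hc⟩ := (finrank_eq_one_iff_of_nonzero' (1 : A) one_ne_zero).1 h a
  exact ⟨c, by rw [← hc, hs, mul_one]⟩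

variable (k : Type u) [Field k] (X : Scheme.{u}) [X.Over (Spec (CommRingCat.of k))]

theorem surjective_aX (h : Module.finrank k (Coh.HH X (Coh.structureModule X) 0) = 1) :
    Function.Surjective (aX (X ↘ Spec (CommRingCat.of k)) (⊤ : X.Opens)) := by
  let _ : Module k (Coh.Γtop X) := topMod k X
  have h1 : Module.finrank k (Coh.Γtop X) = 1 := by
    rw [← (hZeroTop k X).finrank_eq]
    exact h
  have h2 : Function.Surjective (Coh.toGlobal (X ↘ Spec (CommRingCat.of k))) :=
    surjective_of_finrank_one (Coh.toGlobal (X ↘ Spec (CommRingCat.of k))) (fun c x => rfl) h1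
  have h3 : ∀ a, aX (X ↘ Spec (CommRingCat.of k)) (⊤ : X.Opens) a = Coh.toGlobal (X ↘ Spec (CommRingCat.of k)) a :=
    fun a => by
      change X.presheaf.map (homOfLE le_top : (⊤ : X.Opens) ⟶ ⊤).op _ = _
      rw [Subsingleton.elim (homOfLE le_top : (⊤ : X.Opens) ⟶ ⊤).op (𝟙 _), X.presheaf.map_id]
      rfl
  intro b
  obtain ⟨a, ha⟩ := h2 b
  exact ⟨a, (h3 a).trans ha⟩

variable [GrpObj (Over.mk (X ↘ Spec (CommRingCat.of k)))]
    [IsProper (X ↘ Spec (CommRingCat.of k))] [GeometricallyIntegral (X ↘ Spec (CommRingCat.of k))]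

/-- (G) -/
def HG (g : ℕ) : Prop := ∃ (Y : Scheme.{u}) (p1 p2 μ : Y ⟶ X),
      IsPullback p1 p2 (X ↘ Spec (CommRingCat.of k)) (X ↘ Spec (CommRingCat.of k)) ∧
      IsPullback μ p2 (X ↘ Spec (CommRingCat.of k)) (X ↘ Spec (CommRingCat.of k)) ∧
      Nonempty (K504.Inv.InvData (X ↘ Spec (CommRingCat.of k)) p1 p2 μ g)

/-- (T5) -/
def HT5 (g : ℕ) : Prop := ∀ F : Frame (X ↘ Spec (CommRingCat.of k)) g, T5 F

variable (g : ℕ) (hg : topologicalKrullDim ↥X = g) (hG : HG k X g) (hT : HT5 k X g)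
  (D : DeRhamSh.OmegaCx (X ↘ Spec (CommRingCat.of k)))
  (h : TermwiseLinear (Coh.toGlobal (X ↘ Spec (CommRingCat.of k))) D.K D.term D.iso)
  [HasDerivedCategory.{w} (Sheaf (Opens.grothendieckTopology X) AddCommGrpCat.{u})]

include hg hG hT in
theorem finrank_HdR (n : ℤ) :
    Module.Finite k (HdR (Coh.toGlobal (X ↘ Spec (CommRingCat.of k))) D h n) ∧
      Module.finrank k (HdR (Coh.toGlobal (X ↘ Spec (CommRingCat.of k))) D h n) = cz (g + g) n := by
  obtain ⟨Y, p1, p2, μ, H1, Hμ, ⟨I⟩⟩ := hG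
  have i1 : IsIntegral X := AnyField.isIntegral k X
  refine K504.DimK.finrank_HdR I D h H1 Hμ (surjective_aX k X ?_) (fun n => ?_) (fun n => AnyField.finrank_O k X g hg n)
    (hT I.F) n
  · rw [AnyField.finrank_O k X g hg 0, Nat.choose_zero_right]
  · exact Groth.Agent.S0002.result k X _ (Groth.Agent.CurvesC.UnitCoh.isCoh_unit X) n

include hg hG hT in
theorem result48 (n : ℕ) :
    Module.Finite k (HdR (Coh.toGlobal (X ↘ Spec (CommRingCat.of k))) D h n) ∧
      Module.finrank k (HdR (Coh.toGlobal (X ↘ Spec (CommRingCat.of k))) D h n) = Nat.choose (2 * g) n := by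
  have h1 := finrank_HdR k X g hg hG hT D h n
  refine ⟨h1.1, h1.2.trans ?_⟩
  rw [cz_nat, two_mul]

theorem isZero_term (i : ℕ) (hi : g + 1 ≤ i) (hg : topologicalKrullDim ↥X = g) : IsZero (D.term i) := by
  obtain ⟨e⟩ := AnyField.exists_iso_freeMod k X hg (D.isExtPow i)
  rw [Nat.choose_eq_zero_of_lt (by omega)] at e
  exact IsZero.of_iso (Groth.Agent.PerfA.PerfLocal.isZero_freeMod_zero X) e

theorem finite_term (hg : topologicalKrullDim ↥X = g) (i m : ℕ) : Module.Finite k (Coh.HH X (D.term i) m) := by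
  obtain ⟨e⟩ := AnyField.exists_iso_freeMod k X hg (D.isExtPow i)
  have h1 := Groth.Agent.S0002.result k X _ (Groth.Agent.PerfA.CohSerre.isCoh_freeMod (X := X) (g.choose i)) m
  exact Module.Finite.equiv (Groth.Agent.VarietyA.EulerLES.equivA k (X := X) e m).symm

include hg hG hT in
theorem degeneratesAt (a i : ℤ) :
    DegeneratesAt (CohCx.freeSheaf (Opens.grothendieckTopology X) (⊤ : X.Opens)) D.KZ a i := by
  by_cases ha : a < 0
  · exact K905.HTAbs.degeneratesAt_of_neg _ _ (K905.HTSch.isZero_extend_neg D.K) a i ha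
  · obtain ⟨n, rfl⟩ := Int.eq_ofNat_of_zero_le (show 0 ≤ a by omega)
    have h := K853.CxAff.termwiseLinear (X ↘ Spec (CommRingCat.of k)) D
    have h1 := K905.HTSch.count h (finite_term k X g D hg) (g + 1) (fun i hi => isZero_term k X g D i hi hg) n
    refine h1.2.2.1 ?_ i
    refine (finrank_HdR k X g hg hG hT D h n).2.trans ?_
    rw [cz_nat, Nat.add_choose_eq, Finset.Nat.sum_antidiagonal_eq_sum_range_succ_mk]
    exact Finset.sum_congr rfl fun i _ => (AnyField.finrank_omega k X g hg (D.isExtPow i) (n - i)).symm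

end K504.DimAV
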