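import Groth.Agent.AbVar.K504.DimM

/-!
# Dimension of the de Rham cohomology, from (T5) and (G)
-/

set_option autoImplicit false
set_option linter.unusedSectionVars false

universe w w' u v

open CategoryTheory CategoryTheory.Limits Opposite TopologicalSpace AlgebraicGeometry

namespace K504.DimK

open K504.Star K504.Star2 GD GDMap AltSh AltSES AltPb HTN HTBase AltBC StarBC AltRho E1Deg KLinDR K905.HTFin K905.HTAbs
  K504.Inv K504.Dim K504.DimM Groth.Agent.CohtopA.FreeAb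

theorem abs_equiv {k : Type*} [Ring k] {A : Type*} [Category* A] [Abelian A] [HasDerivedCategory.{w} A]
    {K L : CochainComplex A ℕ} (φ : K ≅ L) (ρ : k →+* End K) (ρ' : k →+* End L)
    (h : ∀ (a : k) (q : ℕ), (show K ⟶ K from ρ a).f q ≫ φ.hom.f q = φ.hom.f q ≫ (show L ⟶ L from ρ' a).f q)
    (T : A) (n : ℤ) :
    Nonempty (HTρ T (K.extend ComplexShape.embeddingUpNat) ((extendEnd K ComplexShape.embeddingUpNat).comp ρ) n ≃ₗ[k]
      HTρ T (L.extend ComplexShape.embeddingUpNat) ((extendEnd L ComplexShape.embeddingUpNat).comp ρ') n) := by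
  have h3 : IsIso (exm φ.hom) := ⟨exm φ.inv, by rw [← exm_comp, φ.hom_inv_id, exm_id],
    by rw [← exm_comp, φ.inv_hom_id, exm_id]⟩
  have h4 : Commutes ((extendEnd K ComplexShape.embeddingUpNat).comp ρ)
      ((extendEnd L ComplexShape.embeddingUpNat).comp ρ') (exm φ.hom) := fun a => by
    change exm (show K ⟶ K from ρ a) ≫ exm φ.hom = exm φ.hom ≫ exm (show L ⟶ L from ρ' a)
    rw [← exm_comp, ← exm_comp]
    congr 1
    exact HomologicalComplex.hom_ext _ _ (h a)
  exact ⟨HTρequiv T (exm φ.hom) h4 n⟩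

variable {k : Type u} [Field k] {X Y : Scheme.{u}} [X.Over (Spec (CommRingCat.of k))]
  [QuasiSeparated (X ↘ Spec (CommRingCat.of k))] {p1 p2 μ : Y ⟶ X} {g : ℕ}
  (I : InvData (X ↘ Spec (CommRingCat.of k)) p1 p2 μ g)
  (D : DeRhamSh.OmegaCx (X ↘ Spec (CommRingCat.of k)))
  (h : TermwiseLinear (Coh.toGlobal (X ↘ Spec (CommRingCat.of k))) D.K D.term D.iso)
  [i : HasDerivedCategory.{w} (Sheaf (Opens.grothendieckTopology X) AddCommGrpCat.{u})]

theorem exists_equiv₂ (hT : T5 I.F) (n : ℤ) : Nonempty (HdR (Coh.toGlobal (X ↘ Spec (CommRingCat.of k))) D h n ≃ₗ[k]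
    HTρ (TX X) (ex (CE (lin I.F.del) (comm_lin I.comm))) (ρx (comm_lin I.comm) (RC_lin I id)) n) := by
  obtain ⟨φ, hφ⟩ := hT I.comm D
  refine abs_equiv (A := Sheaf (Opens.grothendieckTopology X) AddCommGrpCat.{u}) φ (scalarN h)
    (CEρ (comm_lin I.comm) (RC_lin I id)) (fun a q => ?_) (TX X) n
  have h2 := hφ q (Coh.toGlobal (X ↘ Spec (CommRingCat.of k)) a)
  refine Eq.trans ?_ h2
  change ((D.iso q).hom ≫ Coh.smulAb (D.term q) (Coh.toGlobal (X ↘ Spec (CommRingCat.of k)) a) ≫ (D.iso q).inv) ≫ φ.hom.f q = _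
  rw [Category.assoc, Category.assoc]

variable [QuasiCompact (X ↘ Spec (CommRingCat.of k))]  [IsSeparated (X ↘ Spec (CommRingCat.of k))] [IsIntegral X]
  (H1 : IsPullback p1 p2 (X ↘ Spec (CommRingCat.of k)) (X ↘ Spec (CommRingCat.of k)))
  (Hμ : IsPullback μ p2 (X ↘ Spec (CommRingCat.of k)) (X ↘ Spec (CommRingCat.of k)))
  (hΓ : Function.Surjective (aX (X ↘ Spec (CommRingCat.of k)) (⊤ : X.Opens)))

include H1 Hμ hΓ in
/-- **Dimension of de Rham cohomology.** -/
theorem finrank_HdR {N : ℕ} (hf : ∀ n : ℕ, Module.Finite k (Coh.HH X (Coh.structureModule X) n))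
    (hN : ∀ n : ℕ, Module.finrank k (Coh.HH X (Coh.structureModule X) n) = N.choose n) (hT : T5 I.F) (n : ℤ) :
    Module.Finite k (HdR (Coh.toGlobal (X ↘ Spec (CommRingCat.of k))) D h n) ∧
      Module.finrank k (HdR (Coh.toGlobal (X ↘ Spec (CommRingCat.of k))) D h n) = cz (N + g) n := by
  obtain ⟨e⟩ := exists_equiv₂ I D h hT n
  have h1 := finrank_lin I H1 Hμ hΓ hf hN g id (lin I.F.del) rfl (comm_lin I.comm) (RC_lin I id) n
  have h2 := h1.1
  exact ⟨Module.Finite.equiv e.symm, e.finrank_eq.trans h1.2⟩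

end K504.DimK
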