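import Groth.Agent.AbVar.K504.Dim
import Groth.Agent.S0002

/-!
# Dimension of the hypercohomology of the Koszul complex: induction
-/

set_option autoImplicit false
set_option linter.unusedSectionVars false

universe w w' u v

open CategoryTheory CategoryTheory.Limits Opposite TopologicalSpace AlgebraicGeometry

namespace K504.DimM

open K504.Star K504.Star2 GD GDMap AltSh AltSES AltPb HTN HTBase AltBC StarBC AltRho E1Deg KLinDR K905.HTFin K905.HTAbs
  K504.Inv K504.Dim Groth.Agent.CohtopA.FreeAb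

section der

variable {k : Type u} [Field k] {X Y : Scheme.{u}} {f : X ⟶ Spec (CommRingCat.of k)}

theorem der_aX (E : OmegaSh.Der f (Coh.structureModule X)) (V : X.Opens) (a : k) :
    OmegaSh.fnSect X V (E.app V (aX f V a)) = 0 := by
  have h1 : OmegaSh.fnSect X (⊤ : X.Opens) (E.app ⊤ (aX f ⊤ a)) = 0 := by
    have h2 : aX f ⊤ a = f.app ⊤ ((Scheme.ΓSpecIso (CommRingCat.of k)).inv a) := by
      change X.presheaf.map (homOfLE le_top : (⊤ : X.Opens) ⟶ ⊤).op _ = _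
      rw [Subsingleton.elim (homOfLE le_top : (⊤ : X.Opens) ⟶ ⊤).op (𝟙 _), X.presheaf.map_id]
      rfl
    rw [h2]
    exact E.d_app (X := op ⊤) _
  have h3 := E.d_map (homOfLE le_top : V ⟶ ⊤).op (aX f ⊤ a)
  have h4 : X.presheaf.map (homOfLE le_top : V ⟶ ⊤).op (aX f ⊤ a) = aX f V a := aX_res f le_top a
  rw [← h4]
  refine h3.trans ?_
  exact (congrArg (fun z => X.presheaf.map (homOfLE le_top : V ⟶ ⊤).op z) h1).trans (_root_.map_zero _)

theorem dv_rX (E : OmegaSh.Der f (Coh.structureModule X)) (a : k) :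
    dv E ≫ (show Oab X ⟶ Oab X from rX f a) = (show Oab X ⟶ Oab X from rX f a) ≫ dv E := by
  refine hom_ext' fun V x => ?_
  induction V using Opposite.rec with | _ V =>
  change aX f V a * OmegaSh.fnSect X V (E.app V x) =
    OmegaSh.fnSect X V (E.app V (aX f V a * (show Γ(X, V) from x)))
  have h1 := E.d_mul (X := op V) (aX f V a) x
  have h2 : OmegaSh.fnSect X V (E.app V (aX f V a * (show Γ(X, V) from x))) =
    aX f V a * OmegaSh.fnSect X V (E.app V x) +
      (show Γ(X, V) from x) * OmegaSh.fnSect X V (E.app V (aX f V a)) := h1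
  rw [h2, der_aX, mul_zero, add_zero]

end der

section plin

variable {X Y : Scheme.{u}} {p : Y ⟶ X}

theorem PLin_zero : PLin p (0 : Oab Y ⟶ Oab Y) := fun U V h b x => by
  change (0 : Γ(Y, V)) = p.appLE U V h b * (0 : Γ(Y, V))
  rw [mul_zero]

theorem PLin_add {φ ψ : Oab Y ⟶ Oab Y} (h1 : PLin p φ) (h2 : PLin p ψ) : PLin p (φ + ψ) := fun U V h b x => by
  have e1 := h1 U V h b x
  have e2 := h2 U V h b x
  change (ap φ (op V) (p.appLE U V h b * x : Γ(Y, V)) : Γ(Y, V)) + (ap ψ (op V) (p.appLE U V h b * x : Γ(Y, V)) : Γ(Y, V)) =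
    p.appLE U V h b * ((show Γ(Y, V) from ap φ (op V) x) + (show Γ(Y, V) from ap ψ (op V) x))
  rw [mul_add]
  exact congrArg₂ (· + ·) e1 e2

theorem PLin_neg {φ : Oab Y ⟶ Oab Y} (h1 : PLin p φ) : PLin p (-φ) := fun U V h b x => by
  have e1 := h1 U V h b x
  change -(ap φ (op V) (p.appLE U V h b * x : Γ(Y, V)) : Γ(Y, V)) =
    p.appLE U V h b * -(show Γ(Y, V) from ap φ (op V) x)
  rw [mul_neg]
  exact congrArg Neg.neg e1

/-- the linear operators -/
def PLs (p : Y ⟶ X) : AddSubgroup (Oab Y ⟶ Oab Y) where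
  carrier := { φ | PLin p φ }
  zero_mem' := PLin_zero
  add_mem' := PLin_add
  neg_mem' := PLin_neg

theorem PLin_lin {m : ℕ} {τ : Fin m → (Oab Y ⟶ Oab Y)} (h : ∀ j, PLin p (τ j)) (v : Fin m → ℤ) :
    PLin p (lin τ v) := by
  change lin τ v ∈ PLs p
  rw [lin_apply]
  exact sum_mem fun j _ => zsmul_mem (show τ j ∈ PLs p from h j) _

end plin

theorem Tw_lin {X Y : Scheme.{u}} {q : Y ⟶ X} {m : ℕ} {τ : Fin m → (Oab X ⟶ Oab X)} {τ' : Fin m → (Oab Y ⟶ Oab Y)}
    (h : ∀ j, co q ≫ (CohTop.push (X := Y.toTopCat) (Y := X.toTopCat) q.base).map (τ' j) = τ j ≫ co q) :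
    Tw (X := X.toTopCat) (Y := Y.toTopCat) q.base (co q) (lin τ) (lin τ') := fun v => by
  rw [lin_apply, lin_apply, Functor.map_sum, Preadditive.comp_sum, Preadditive.sum_comp]
  refine Finset.sum_congr rfl fun j _ => ?_
  rw [Functor.map_zsmul, Preadditive.comp_zsmul, Preadditive.zsmul_comp, h]

section main

variable {k : Type u} [Field k] {X Y : Scheme.{u}} [X.Over (Spec (CommRingCat.of k))]
  [QuasiSeparated (X ↘ Spec (CommRingCat.of k))] {p1 p2 μ : Y ⟶ X} {g : ℕ}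
  (I : InvData (X ↘ Spec (CommRingCat.of k)) p1 p2 μ g)

theorem RC_lin {m : ℕ} (σ : Fin m → Fin g) :
    RC (rX (X ↘ Spec (CommRingCat.of k))) (lin fun j => I.F.del (σ j)) := fun v a =>
  lin_comm (s := (show Oab X ⟶ Oab X from rX (X ↘ Spec (CommRingCat.of k)) a))
    (fun i => dv_rX (I.F.der (σ i)) a) v

theorem comm_del {m : ℕ} (σ : Fin m → Fin g) : Comm (lin fun j => I.F.del (σ j)) :=
  comm_lin fun i j => I.comm (σ i) (σ j)

/-- the data for `σ` -/
noncomputable def sd {m : ℕ} (σ : Fin m → Fin g) : SD (X ↘ Spec (CommRingCat.of k)) p2 m where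
  t := lin fun j => I.F.del (σ j)
  ht := comm_del I σ
  hrt := RC_lin I σ
  t1 := lin fun j => I.u1 (σ j)
  ht1 := comm_lin fun i j => I.comm11 (σ i) (σ j)
  hp := PLin_lin fun j => I.u1_lin (σ j)

variable [QuasiCompact (X ↘ Spec (CommRingCat.of k))]  [IsSeparated (X ↘ Spec (CommRingCat.of k))] [IsIntegral X]
  (H1 : IsPullback p1 p2 (X ↘ Spec (CommRingCat.of k)) (X ↘ Spec (CommRingCat.of k)))
  (Hμ : IsPullback μ p2 (X ↘ Spec (CommRingCat.of k)) (X ↘ Spec (CommRingCat.of k)))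
  (hΓ : Function.Surjective (aX (X ↘ Spec (CommRingCat.of k)) (⊤ : X.Opens)))
  [i : HasDerivedCategory.{w} (Sheaf (Opens.grothendieckTopology X) AddCommGrpCat.{u})]

include I H1 Hμ hΓ in
theorem hzero {m : ℕ} (σ : Fin (m + 1) → Fin g) (h₀ : Comm (lin (Fin.tail fun j => I.F.del (σ j))))
    (hs : ∀ v, lin (Fin.tail fun j => I.F.del (σ j)) v ≫ I.F.del (σ 0) = I.F.del (σ 0) ≫ lin (Fin.tail fun j => I.F.del (σ j)) v)
    (n : ℤ) (x) : HTNmap (TX X) (CEmap h₀ h₀ (I.F.del (σ 0)) hs) n x = 0 := by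
  let _ : HasDerivedCategory (CohTop.Ab Y.toTopCat) := HasDerivedCategory.standard _
  exact K504.Star4.star (sd I (Fin.tail σ)) n (Tw_lin fun j => I.u1_p1 _) (Tw_lin fun j => I.u1_μ _) H1 Hμ hΓ
    (I.F.del (σ 0)) hs (I.u2 (σ 0)) (fun v => lin_comm (fun i => I.comm12 _ _) v) (I.u2_p1 _) (I.u2_μ _)
    (HTρ.toHT.symm x)

include I H1 Hμ hΓ in
theorem finrank_lin {N : ℕ} (hf : ∀ n : ℕ, Module.Finite k (Coh.HH X (Coh.structureModule X) n))
    (hN : ∀ n : ℕ, Module.finrank k (Coh.HH X (Coh.structureModule X) n) = N.choose n) (m : ℕ) :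
    ∀ (σ : Fin m → Fin g) (t : (Fin m → ℤ) →+ (Oab X ⟶ Oab X)) (_ : t = lin fun j => I.F.del (σ j)) (ht : Comm t)
      (hr : RC (rX (X ↘ Spec (CommRingCat.of k))) t) (n : ℤ),
      Module.Finite k (HTρ (TX X) (ex (CE t ht)) (ρx ht hr) n) ∧
        Module.finrank k (HTρ (TX X) (ex (CE t ht)) (ρx ht hr) n) = cz (N + m) n := by
  induction m with
  | zero =>
    intro σ t _ ht hr n
    by_cases hn : n < 0
    · have h1 : Subsingleton (HTρ (TX X) (ex (CE t ht)) (ρx ht hr) n) :=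
        subsingleton_neg (CE t ht) (TX X) n hn (hK ht)
      refine ⟨inferInstance, ?_⟩
      rw [Module.finrank_zero_of_subsingleton, cz, if_pos hn]
    · obtain ⟨a, rfl⟩ := Int.eq_ofNat_of_zero_le (show 0 ≤ n by omega)
      obtain ⟨e⟩ := exists_equiv ht hr a
      have h1 := hf a
      exact ⟨Module.Finite.equiv e.symm, e.finrank_eq.trans ((hN a).trans (cz_nat N a).symm)⟩
  | succ m ih =>
    intro σ t hteq ht hr n
    rw [lin_succ] at hteq
    subst hteq
    have h₀ : Comm (lin (Fin.tail fun j => I.F.del (σ j))) := comm_del I (Fin.tail σ)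
    have hr₀ : RC (rX (X ↘ Spec (CommRingCat.of k))) (lin (Fin.tail fun j => I.F.del (σ j))) := RC_lin I (Fin.tail σ)
    have hs : ∀ v, lin (Fin.tail fun j => I.F.del (σ j)) v ≫ I.F.del (σ 0) =
      I.F.del (σ 0) ≫ lin (Fin.tail fun j => I.F.del (σ j)) v := fun v => lin_comm (fun i => I.comm _ _) v
    have h1 := finrank_step (TX X) (splFin m) h₀ hr₀ hs (fun a => dv_rX (I.F.der (σ 0)) a)
      (fun n x => hzero I H1 Hμ hΓ σ h₀ hs n x) (fun n => (ih (Fin.tail σ) _ rfl h₀ hr₀ n).1) n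
    refine ⟨h1.1, h1.2.trans ?_⟩
    exact (congrArg₂ (· + ·) (ih (Fin.tail σ) _ rfl h₀ hr₀ (n - 1)).2 (ih (Fin.tail σ) _ rfl h₀ hr₀ n).2).trans
      (cz_succ (N + m) n).symm

end main

end K504.DimM
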