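import Groth.Agent.Flat2F.DescLocal3
import Groth.Agent.Flat2F.RepH0Main
import Groth.Agent.Flat2F.RepH0Noeth
import Groth.Agent.Ega2.QCohLocal
import Mathlib.RingTheory.SimpleModule.Basic

/-!
# The module representing sections of a family of line bundles, trivial over the closed point

`R` local, `f : X ⟶ Spec R` proper flat of finite presentation with `f_* O = O` universally, `E` invertible
on `X` and trivial over the closed point. If `J` is contained in every ideal `I` such that `E` is trivial over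
`R/I` then `J` kills the sections of `E` over every base change.
-/

set_option autoImplicit false
universe u

open CategoryTheory CategoryTheory.Limits AlgebraicGeometry Opposite TopologicalSpace

namespace K504.H0Kill

open Groth.Agent.Flat2F.DescLocal Groth.Agent.Flat2F.BCSec Groth.Agent.Flat2F.BasAlg
  Groth.Agent.Flat2F.LocBas Groth.Agent.Flat2F.SecBasis Groth.Agent.Flat2F.ImmGlue

theorem hasRk_one {X : Scheme.{u}} {E : X.Modules} (hE : PicF.IsInvertible E) : HasRk E 1 := by
  intro x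
  obtain ⟨U, hx, ⟨e⟩⟩ := hE x
  obtain ⟨s, hs⟩ := (nonempty_restrict_iso_iff E U).mp
    ⟨e ≪≫ Groth.Agent.Ega2.QCohLocal.freeModOneIso _⟩
  exact ⟨U, s, hx, hs⟩

theorem triv_iff {X : Scheme.{u}} {E : X.Modules} :
    Nonempty (E ≅ Coh.structureModule X) ↔ ∃ s : Fin 1 → Γ(E, ⊤), BasOn E ⊤ s := by
  rw [← nonempty_iso_iff]
  constructor
  · rintro ⟨e⟩
    exact ⟨e ≪≫ Groth.Agent.Ega2.QCohLocal.freeModOneIso _⟩
  · rintro ⟨e⟩
    exact ⟨e ≪≫ (Groth.Agent.Ega2.QCohLocal.freeModOneIso _).symm⟩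

variable {R : CommRingCat.{u}} {X : Scheme.{u}} (f : X ⟶ Spec R) (E : X.Modules)

/-- `E` is trivial over `B`. -/
def TrivAt {B : CommRingCat.{u}} (φ : R ⟶ B) : Prop :=
  Nonempty ((Scheme.Modules.pullback (pullback.fst f (Spec.map φ))).obj E ≅ Coh.structureModule _)

variable {f E}

theorem TrivAt.cp {B : CommRingCat.{u}} {φ : R ⟶ B} (h : TrivAt f E φ) : CP f E (Spec.map φ) := by
  intro t
  obtain ⟨s, hs⟩ := triv_iff.mp h
  exact ⟨⊤, 1, s, trivial, hs⟩

theorem trivAt_of_cp (hO : UO f) (hE : PicF.IsInvertible E) {B : CommRingCat.{u}} [IsLocalRing B] {φ : R ⟶ B}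
    (h : CP f E (Spec.map φ)) : TrivAt f E φ := by
  obtain ⟨V, r, s, hV, hs⟩ := h (IsLocalRing.closedPoint B)
  have hV' : V = ⊤ := IsLocalRing.closed_point_mem_iff.mp hV
  subst hV'
  have h1 : IsIso ((pullback.snd f (Spec.map φ)).app ⊤) := hO _ _ _
  obtain ⟨x⟩ := nonempty_of_nontrivial (pullback.snd f (Spec.map φ))
  obtain ⟨W, w, hW, hw⟩ := hasRk_one hE ((pullback.fst f (Spec.map φ)) x)
  obtain rfl : r = 1 := rank_eq hw x hW (U := ⊤) trivial hs
  exact triv_iff.mpr ⟨s, hs⟩

/-- The representing module is cyclic when `E` is trivial over the closed point. -/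
theorem exists_gen [IsLocalRing R] (hO : UO f) (Rep : RepH0 f E)
    (hκ : TrivAt f E (CommRingCat.ofHom (IsLocalRing.residue R))) :
    ∃ m : Fin 1 → Rep.M, Submodule.span R (Set.range m) = ⊤ := by
  let κ : CommRingCat.{u} := CommRingCat.of (IsLocalRing.ResidueField R)
  let φ : R ⟶ κ := CommRingCat.ofHom (IsLocalRing.residue R)
  have H : IsPullback (pullback.fst f (Spec.map φ)) (pullback.snd f (Spec.map φ)) f (Spec.map φ) :=
    IsPullback.of_hasPullback _ _
  obtain ⟨e, he⟩ := triv_iff.mp hκ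
  choose α hα using fun i => (Rep.bij H).2 (e i)
  have hb := isBas_of_theta Rep hO H e he α hα
  have hne : α 0 ≠ 0 := by
    intro h0
    have h1 := hb.1 (a₁ := fun _ => (1 : κ)) (a₂ := fun _ => (0 : κ)) (by simp [h0])
    have h2 : (1 : κ) = 0 := congrFun h1 0
    exact one_ne_zero (α := IsLocalRing.ResidueField R) h2
  obtain ⟨m, hm⟩ : ∃ m, α 0 m ≠ 0 := by
    by_contra h
    push Not at h
    exact hne (LinearMap.ext h)
  refine ⟨fun _ => m, ?_⟩
  by_contra hne'
  have hfp : Module.FinitePresentation R Rep.M := Rep.fp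
  obtain ⟨N, hN, hle⟩ := (eq_top_or_exists_le_coatom (Submodule.span R (Set.range fun _ : Fin 1 => m))).resolve_left hne'
  have hs := isSimpleModule_iff_isCoatom.mpr hN
  obtain ⟨I, hI, ⟨e'⟩⟩ := isSimpleModule_iff_quot_maximal.mp hs
  have hI' : I = IsLocalRing.maximalIdeal R := IsLocalRing.eq_maximalIdeal hI
  subst hI'
  let β : Rep.M →ₛₗ[φ.hom] κ :=
    { toFun := fun x => (e' (Submodule.Quotient.mk x) : R ⧸ IsLocalRing.maximalIdeal R)
      map_add' := fun x y => by
        rw [Submodule.Quotient.mk_add, map_add]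
        rfl
      map_smul' := fun c x => by
        rw [Submodule.Quotient.mk_smul, map_smul]
        rfl }
  obtain ⟨c, hc⟩ := hb.2 β
  have h1 : β m = 0 := by
    have h2 : (Submodule.Quotient.mk m : Rep.M ⧸ N) = 0 := by
      rw [Submodule.Quotient.mk_eq_zero]
      exact hle (Submodule.subset_span ⟨0, rfl⟩)
    change e' (Submodule.Quotient.mk m) = 0
    rw [h2, map_zero]
  have h2 : c 0 * α 0 m = 0 := by
    rw [← h1, ← hc]
    simp
  have h3 : c 0 = 0 := (mul_eq_zero (M₀ := IsLocalRing.ResidueField R)).mp h2 |>.resolve_right hm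
  have h4 : β = 0 := by
    rw [← hc]
    simp [h3]
  obtain ⟨x, hx⟩ := e'.surjective 1
  obtain ⟨x, rfl⟩ := Submodule.Quotient.mk_surjective _ x
  have h5 : β x = (1 : IsLocalRing.ResidueField R) := hx
  rw [h4] at h5
  exact zero_ne_one (α := IsLocalRing.ResidueField R) h5

/-- The ideal `J` kills the representing module. -/
theorem smul_eq_zero [IsLocalRing R] [IsProper f] (hO : UO f) (hE : PicF.IsInvertible E) (Rep : RepH0 f E)
    (hκ : TrivAt f E (CommRingCat.ofHom (IsLocalRing.residue R))) (J : Ideal R)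
    (hJ : ∀ I : Ideal R, I ≠ ⊤ → TrivAt f E (CommRingCat.ofHom (Ideal.Quotient.mk I)) → J ≤ I)
    (r : R) (hr : r ∈ J) (x : Rep.M) : r • x = 0 := by
  obtain ⟨m, hm⟩ := exists_gen hO Rep hκ
  obtain ⟨g, hg, hT⟩ := exists_nbhd Rep hO (hasRk_one hE) m hm hκ.cp (IsLocalRing.closedPoint _)
  have hg' : IsUnit g := by
    by_contra h
    apply hg
    rw [show (Spec.map (CommRingCat.ofHom (IsLocalRing.residue R))) (IsLocalRing.closedPoint _) =
      IsLocalRing.closedPoint R from IsLocalRing.comap_closedPoint (IsLocalRing.residue R)]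
    exact h
  have hJI : J ≤ relIdeal (A := R) m := by
    by_cases hI : relIdeal (A := R) m = ⊤
    · rw [hI]
      exact le_top
    · apply hJ _ hI
      have : Nontrivial (R ⧸ relIdeal (A := R) m) := Ideal.Quotient.nontrivial_iff.mpr hI
      have : IsLocalRing (R ⧸ relIdeal (A := R) m) :=
        IsLocalRing.of_surjective' (Ideal.Quotient.mk _) Ideal.Quotient.mk_surjective
      have : IsLocalRing (CommRingCat.of (R ⧸ relIdeal (A := R) m)) := this
      refine trivAt_of_cp hO hE ?_
      have h1 := hT _ (𝟙 _) (fun x hx => x.2.ne_top ?_)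
      · rw [Category.id_comp] at h1
        exact h1
      · have h2 := ((𝟙 _ ≫ zι (relIdeal (A := R) m)) x).2.ne_top
        exact absurd (Ideal.eq_top_of_isUnit_mem _ hx hg') h2
  have hann : relIdeal (A := R) m ≤ Module.annihilator R Rep.M := by
    refine relIdeal_le fun c hc j => ?_
    obtain rfl : j = 0 := Subsingleton.elim _ _
    rw [Module.mem_annihilator]
    intro y
    have hy : y ∈ Submodule.span R (Set.range m) := hm ▸ Submodule.mem_top
    have hr1 : Set.range m = {m 0} := by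
      ext z
      simp [eq_comm]
    rw [hr1, Submodule.mem_span_singleton] at hy
    obtain ⟨a, rfl⟩ := hy
    rw [Fin.sum_univ_one] at hc
    rw [smul_comm, hc, smul_zero]
  exact (Module.mem_annihilator.mp (hann (hJI hr))) x

/-- The ideal `J` kills the sections over every base change. -/
theorem smul_sections_eq_zero [IsLocalRing R] [IsProper f] [Flat f] [LocallyOfFinitePresentation f] (hO : UO f)
    (hE : PicF.IsInvertible E)
    (hκ : TrivAt f E (CommRingCat.ofHom (IsLocalRing.residue R))) (J : Ideal R)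
    (hJ : ∀ I : Ideal R, I ≠ ⊤ → TrivAt f E (CommRingCat.ofHom (Ideal.Quotient.mk I)) → J ≤ I)
    {B : CommRingCat.{u}} {φ : R ⟶ B} {X' : Scheme.{u}} {a : X' ⟶ X} {p : X' ⟶ Spec B}
    (H : IsPullback a p f (Spec.map φ)) (s : Γ((Scheme.Modules.pullback a).obj E, ⊤)) (r : R) (hr : r ∈ J) :
    (p.appTop ((Scheme.ΓSpecIso B).inv (φ r))) • s = 0 := by
  obtain ⟨Rep⟩ := Groth.Agent.Flat2F.RepH0Main.exists_repH0_of_noeth
    (fun f _ E hE hfl => Groth.Agent.Flat2F.RepH0Noeth.exists_repH0_noeth f E hE hfl) f E (hasRk_one hE).isFinLocFree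
  obtain ⟨α, rfl⟩ := (Rep.bij H).2 s
  rw [← Rep.smul H]
  have h1 : φ r • α = 0 := by
    ext x
    have h2 : φ r • α x = α (r • x) := (LinearMap.map_smulₛₗ α r x).symm
    rw [LinearMap.smul_apply, h2, smul_eq_zero hO hE Rep hκ J hJ r hr x, map_zero]
    rfl
  rw [h1]
  exact theta_zero Rep H

end K504.H0Kill
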