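import Groth.Agent.AbVar.K504.TMain
import Groth.Agent.AbVar.K504.H0Kill
import Groth.Agent.Fdesc.InvCx
import Groth.Agent.CurvesB.GenFibre

/-!
# Lengths of the cohomology of a family of line bundles

`X` proper flat over a regular local ring `R` of dimension `g`, `E` invertible on `X` with no cohomology over
the non-closed points, trivial over the closed point, `J` the ideal of the locus of triviality, generated by a
regular sequence of length `g`: the lengths of `H^j(X_{R/J}, E)` are `choose g j` times that of `H^0`.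
-/

set_option autoImplicit false
universe u

open CategoryTheory CategoryTheory.Limits AlgebraicGeometry Opposite TopologicalSpace
open RingTheory.Sequence IsLocalRing

namespace K504.Fam

open K504.TAlg K504.H0Kill Groth.Agent.CurvesB Groth.Agent.Ega3B.MasterAsm

/-- `B` as an `R`-module. -/
noncomputable def resEquiv (R B : Type u) [CommRing R] [CommRing B] [Algebra R B] :
    ((ModuleCat.restrictScalars (algebraMap R B)).obj (ModuleCat.of B B) : Type u) ≃ₗ[R]
      (ModuleCat.of R B : Type u) where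
  toFun x := (show B from x)
  invFun x := (show B from x)
  left_inv _ := rfl
  right_inv _ := rfl
  map_add' _ _ := rfl
  map_smul' r x := (Algebra.smul_def r (show B from x)).symm

/-- isomorphisms from equivalences -/
noncomputable def isoOfEquiv {R : Type u} [CommRing R] (M N : ModuleCat.{u} R) (e : M ≃ₗ[R] N) : M ≅ N :=
  e.toModuleIso

/-- `B` as an `R`-module. -/
noncomputable def resIso (R B : Type u) [CommRing R] [CommRing B] [Algebra R B] :
    (ModuleCat.restrictScalars (algebraMap R B)).obj (ModuleCat.of B B) ≅ ModuleCat.of R B :=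
  isoOfEquiv _ _ (resEquiv R B)

theorem length_eq_of_addEquiv {R B M N : Type*} [CommRing R] [CommRing B] [Algebra R B]
    (hs : Function.Surjective (algebraMap R B)) [AddCommGroup M] [Module R M] [AddCommGroup N] [Module B N]
    (e : M ≃+ N) (he : ∀ (r : R) (x : M), e (r • x) = algebraMap R B r • e x) :
    Module.length R M = Module.length B N := by
  let _ : Module R N := Module.compHom N (algebraMap R B)
  have : IsScalarTower R B N := ⟨fun r b x => by
    rw [Algebra.smul_def, mul_smul]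
    rfl⟩
  let e' : M ≃ₗ[R] N := { e with map_smul' := he }
  rw [e'.length_eq]
  exact Module.length_eq_of_surjective hs

section

variable {R : Type u} [CommRing R] {X : Scheme.{u}} [X.Over (Spec (CommRingCat.of R))]
  [IsProper (X ↘ Spec (CommRingCat.of R))] (E : X.Modules) (hE : PicF.IsInvertible E)
  (P : ChainComplex (ModuleCat.{u} R) ℤ)
  (hT : ∀ p : ℕ, Nonempty (CohIII.tensorAFunctor R E ⋙ CohIII.HAb X p ≅
    CohIII.TFun P (-(p : ℤ)) ⋙ forget₂ (ModuleCat.{u} R) AddCommGrpCat.{u}))

include hE hT in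
theorem exists_equiv (B : Type u) [CommRing B] [Algebra R B] {Y : Scheme.{u}} [Y.Over (Spec (CommRingCat.of B))]
    (j : Y ⟶ X) (H : IsPullback j (Y ↘ Spec (CommRingCat.of B)) (X ↘ Spec (CommRingCat.of R))
      (Spec.map (CommRingCat.ofHom (algebraMap R B)))) (F : Y.Modules)
    (e : (Scheme.Modules.pullback j).obj E ≅ F) (p : ℕ) :
    ∃ ε : (K504.TAlg.H P p).obj (ModuleCat.of R B) ≃+ Coh.HH Y F p,
      ∀ (r : R) x, ε (r • x) = algebraMap R B r • ε x := by
  have hq : Coh.IsQCoh E := Groth.Agent.Ega2.QCohLocal.isQCoh_of_isInvertible hE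
  have : CompactSpace X := QuasiCompact.compactSpace_of_compactSpace (X ↘ Spec (CommRingCat.of R))
  obtain ⟨ε, hε⟩ := GenFibre.exists_addEquiv (algebraMap R B) j H E hq F e p (CohIII.TFun P (-(p : ℤ))) (hT p)
  let i := (CohIII.TFun P (-(p : ℤ))).mapIso (resIso R B)
  refine ⟨i.symm.toLinearEquiv.toAddEquiv.trans ε, fun r x => ?_⟩
  change ε (i.inv.hom (r • x)) = algebraMap R B r • ε (i.inv.hom x)
  rw [map_smul, ← hε]
  congr 1
  have h1 : (ModuleCat.restrictScalars (algebraMap R B)).map (algebraMap R B r • 𝟙 (ModuleCat.of B B)) =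
      r • 𝟙 _ := by
    ext y
    rfl
  rw [h1, Functor.map_smul, CategoryTheory.Functor.map_id]
  rfl

end

/-- `H^p` of `E` over `B` vanishes. -/
def VanAt {R : Type u} [CommRing R] {X : Scheme.{u}} (f : X ⟶ Spec (CommRingCat.of R)) (E : X.Modules) (B : Type u)
    [CommRing B] [Algebra R B] (p : ℕ) : Prop :=
  ∃ (Y : Scheme.{u}) (a : Y ⟶ X) (q : Y ⟶ Spec (CommRingCat.of B)),
    IsPullback a q f (Spec.map (CommRingCat.ofHom (algebraMap R B))) ∧
      Subsingleton (Coh.HH Y ((Scheme.Modules.pullback a).obj E) p)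

/-- The count. -/
theorem main {R : Type u} [CommRing R] [IsRegularLocalRing R] {g : ℕ} (hg : ringKrullDim R = g)
    {X : Scheme.{u}} [X.Over (Spec (CommRingCat.of R))]
    [IsProper (X ↘ Spec (CommRingCat.of R))] [Flat (X ↘ Spec (CommRingCat.of R))]
    [LocallyOfFinitePresentation (X ↘ Spec (CommRingCat.of R))]
    (hO : Groth.Agent.Flat2F.DescLocal.UO (X ↘ Spec (CommRingCat.of R))) (E : X.Modules) (hE : PicF.IsInvertible E)
    (xs : List R) (hxs : IsWeaklyRegular R xs) (hlen : xs.length = g)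
    (hκ : TrivAt (X ↘ Spec (CommRingCat.of R)) E (CommRingCat.ofHom (IsLocalRing.residue R)))
    (hJ : ∀ I : Ideal R, I ≠ ⊤ →
      TrivAt (X ↘ Spec (CommRingCat.of R)) E (CommRingCat.ofHom (Ideal.Quotient.mk I)) → Ideal.ofList xs ≤ I)
    (hpr : ∀ (p : Ideal R) [p.IsPrime], p ≠ maximalIdeal R → ∀ j : ℕ,
      VanAt (X ↘ Spec (CommRingCat.of R)) E p.ResidueField j)
    (htop : ∀ j : ℕ, g < j → VanAt (X ↘ Spec (CommRingCat.of R)) E (ResidueField R) j)
    {Y : Scheme.{u}} [Y.Over (Spec (CommRingCat.of (R ⧸ Ideal.ofList xs)))] (a : Y ⟶ X)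
    (H : IsPullback a (Y ↘ Spec (CommRingCat.of (R ⧸ Ideal.ofList xs))) (X ↘ Spec (CommRingCat.of R))
      (Spec.map (CommRingCat.ofHom (algebraMap R (R ⧸ Ideal.ofList xs))))) (F : Y.Modules)
    (e : (Scheme.Modules.pullback a).obj E ≅ F) (j c : ℕ) (hj : j + c = g) :
    Module.length (R ⧸ Ideal.ofList xs) (Coh.HH Y F j) =
      (g.choose c : ℕ∞) * Module.length (R ⧸ Ideal.ofList xs) (Coh.HH Y F 0) := by
  obtain ⟨P, hP1, -, hP3, hP4⟩ := Groth.Agent.Fdesc.InvCx.exists_complex R X E hE
  have hP : ∀ i, Module.Finite R (P.X i) ∧ Module.Flat R (P.X i) := fun i =>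
    ⟨(hP1 i).1, have := (hP1 i).2; inferInstance⟩
  have hpos : ∀ (j : ℤ) (M : ModuleCat.{u} R), j < 0 → Subsingleton ((K504.TAlg.H P j).obj M) := fun j M hj =>
    ModuleCat.subsingleton_of_isZero (hP3 (-j) M (by omega))
  have key : ∀ (B : Type u) [CommRing B] [Algebra R B] (p : ℕ),
      VanAt (X ↘ Spec (CommRingCat.of R)) E B p →
      Subsingleton ((K504.TAlg.H P p).obj (ModuleCat.of R B)) := by
    rintro B _ _ p ⟨Y, a, q, HY, hB⟩
    let _ : Y.Over (Spec (CommRingCat.of B)) := ⟨q⟩
    obtain ⟨ε, -⟩ := exists_equiv E hE P hP4 B a HY _ (Iso.refl _) p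
    exact ε.toEquiv.subsingleton
  have h1 := K504.TMain.main hg P hP hpos (fun j hj => by
      obtain ⟨n, rfl⟩ := Int.eq_ofNat_of_zero_le (show 0 ≤ j by omega)
      exact key (ResidueField R) n (htop n (by omega)))
    (fun p _ hp j => by
      by_cases hj : j < 0
      · exact hpos j _ hj
      · obtain ⟨n, rfl⟩ := Int.eq_ofNat_of_zero_le (show 0 ≤ j by omega)
        exact key p.ResidueField n (hpr p hp n)) xs hxs hlen (fun I x b hb => by
      let _ : (pullback (X ↘ Spec (CommRingCat.of R)) (Spec.map (CommRingCat.ofHom (algebraMap R (R ⧸ I))))).Over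
        (Spec (CommRingCat.of (R ⧸ I))) := ⟨pullback.snd _ _⟩
      have HI : IsPullback (pullback.fst (X ↘ Spec (CommRingCat.of R))
        (Spec.map (CommRingCat.ofHom (algebraMap R (R ⧸ I))))) (pullback.snd (X ↘ Spec (CommRingCat.of R))
        (Spec.map (CommRingCat.ofHom (algebraMap R (R ⧸ I))))) (X ↘ Spec (CommRingCat.of R))
        (Spec.map (CommRingCat.ofHom (algebraMap R (R ⧸ I)))) := IsPullback.of_hasPullback _ _
      obtain ⟨ε, hε⟩ := exists_equiv E hE P hP4 (R ⧸ I) _ HI _ (Iso.refl _) 0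
      have h2 : ε (b • x) = 0 := by
        rw [hε]
        apply (HZero.equivAdd _).injective
        rw [HZero.equivAdd_smul_over, map_zero]
        exact smul_sections_eq_zero (f := X ↘ Spec (CommRingCat.of R)) hO hE hκ (Ideal.ofList xs) hJ HI _ b hb
      exact (map_eq_zero_iff ε ε.injective).mp h2)
  obtain ⟨ε, hε⟩ := exists_equiv E hE P hP4 (R ⧸ Ideal.ofList xs) a H F e j
  obtain ⟨ε0, hε0⟩ := exists_equiv E hE P hP4 (R ⧸ Ideal.ofList xs) a H F e 0
  rw [← length_eq_of_addEquiv Ideal.Quotient.mk_surjective ε hε,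
    ← length_eq_of_addEquiv Ideal.Quotient.mk_surjective ε0 hε0]
  have h3 := h1 j c hj
  have h4 := h1 0 g (by omega)
  rw [Nat.choose_self, Nat.cast_one, one_mul] at h4
  rw [h3, ← h4]

end K504.Fam
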