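import Groth.Agent.LoccohA.OmBC
import Groth.Agent.VarietyB.RpushAffVan
import Groth.Agent.CohtopA.PushCanTop
import Groth.Agent.CurvesC.UnitCoh

/-!
# The sheaf `W ↦ F(W ∩ D)`
-/

set_option autoImplicit false

universe u

open CategoryTheory CategoryTheory.Limits Opposite TopologicalSpace AlgebraicGeometry

namespace K504.GD

section top

variable {Y : TopCat.{u}} (D : Opens Y)

/-- intersection with `D` -/
def capF : Opens Y ⥤ Opens Y where
  obj W := W ⊓ D
  map h := homOfLE (inf_le_inf_right D h.le)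

/-- the inclusion of `D` -/
abbrev incl : TopCat.of D ⟶ Y := D.inclusion'

theorem capF_obj (W : Opens Y) : D.isOpenEmbedding.isOpenMap.functor.obj ((Opens.map (incl D)).obj W) = W ⊓ D := by
  ext x
  constructor
  · rintro ⟨y, hy, rfl⟩
    exact ⟨hy, y.2⟩
  · rintro ⟨h1, h2⟩
    exact ⟨⟨x, h2⟩, h1, rfl⟩

/-- `W ∩ D` in two ways -/
def capIso : Opens.map (incl D) ⋙ D.isOpenEmbedding.isOpenMap.functor ≅ capF D :=
  NatIso.ofComponents (fun W => eqToIso (capF_obj D W)) (fun _ => Subsingleton.elim _ _)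

variable (F : CohTop.Ab Y)

/-- the comparison of presheaves -/
noncomputable def gDIso : ((CohTop.push (incl D)).obj ((CohTop.restrFunctor D).obj F)).obj ≅ (capF D).op ⋙ F.obj :=
  Functor.isoWhiskerRight (NatIso.op (capIso D).symm) F.obj

/-- The sheaf `W ↦ F(W ∩ D)`. -/
noncomputable def gD : CohTop.Ab Y :=
  ⟨(capF D).op ⋙ F.obj, (Presheaf.isSheaf_of_iso_iff (gDIso D F)).1
    ((CohTop.push (incl D)).obj ((CohTop.restrFunctor D).obj F)).property⟩

/-- as a direct image -/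
noncomputable def gDPush : (CohTop.push (incl D)).obj ((CohTop.restrFunctor D).obj F) ≅ gD D F where
  hom := ⟨(gDIso D F).hom⟩
  inv := ⟨(gDIso D F).inv⟩
  hom_inv_id := by
    ext : 1
    exact (gDIso D F).hom_inv_id
  inv_hom_id := by
    ext : 1
    exact (gDIso D F).inv_hom_id

theorem Hc_of_iso {F G : CohTop.Ab Y} (e : F ≅ G) (n : ℕ) (V : Opens Y)
    (h : Subsingleton (Groth.Agent.LoccohA.OmBase.Hc F n V)) : Subsingleton (Groth.Agent.LoccohA.OmBase.Hc G n V) := by
  refine ⟨fun x y => ?_⟩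
  have h1 : ∀ x : Groth.Agent.LoccohA.OmBase.Hc G n V, Groth.Agent.LoccohA.OmBase.map e.hom n V
      (Groth.Agent.LoccohA.OmBase.map e.inv n V x) = x := fun x => by
    rw [← Groth.Agent.LoccohA.OmBase.map_comp, e.inv_hom_id, Groth.Agent.LoccohA.OmBase.map_id]
  rw [← h1 x, ← h1 y, Subsingleton.elim (Groth.Agent.LoccohA.OmBase.map e.inv n V x)]

end top

section scheme

open Groth.Agent.VarietyB.RpushAffVan

variable {Y : Scheme.{u}} (D : Y.Opens)

theorem isAffineOpen_ι_preimage {W : Y.Opens} (h : IsAffineOpen (W ⊓ D)) : IsAffineOpen (D.ι ⁻¹ᵁ W) := by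
  have h1 : D.ι ⁻¹ᵁ W = D.ι ⁻¹ᵁ (W ⊓ D) := by
    ext x
    exact ⟨fun hx => ⟨hx, x.2⟩, fun hx => hx.1⟩
  rw [h1]
  exact h.preimage_of_isOpenImmersion D.ι (by
    rw [Scheme.Opens.opensRange_ι]
    exact inf_le_right)

theorem subsingleton_affine (W : D.toScheme.Opens) (hW : IsAffineOpen W) (n : ℕ) :
    Subsingleton (CohTop.HU (X := D.toScheme.toTopCat) (Coh.toAb (Coh.structureModule D.toScheme)) (n + 1) W) :=
  Groth.Agent.LoccohA.OmBC.subsingleton_affine (Coh.structureModule D.toScheme)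
    (Groth.Agent.CurvesC.UnitCoh.isQCoh_unit _) hW n

/-- **Vanishing** of the cohomology of `W ↦ O(W ∩ D)`. -/
theorem subsingleton_Hc_gD (hD : ∀ W : Y.Opens, IsAffineOpen W → IsAffineOpen (W ⊓ D)) (V : Y.Opens)
    (hV : IsAffineOpen (V ⊓ D)) (n : ℕ) :
    Subsingleton (Groth.Agent.LoccohA.OmBase.Hc (X := Y.toTopCat) (gD (Y := Y.toTopCat) D
      (Coh.toAb (Coh.structureModule Y))) (n + 1) V) := by
  refine Hc_of_iso (Y := Y.toTopCat) (gDPush (Y := Y.toTopCat) D (Coh.toAb (Coh.structureModule Y))) (n + 1) V ?_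
  have h1 : ∀ q : ℕ, IsZero ((CohTop.Rpush (X := D.toScheme.toTopCat) (Y := Y.toTopCat) D.ι.base (q + 1)).obj
      (Coh.toAb (Coh.structureModule D.toScheme))) := fun q =>
    isZero_RpushAb_of_forall D.ι _ (q + 1) fun y U hy => by
      obtain ⟨_, ⟨V, hV, rfl⟩, hyV, hVU⟩ := Y.isBasis_affineOpens.exists_subset_of_mem_open hy U.2
      exact ⟨V, hyV, hVU, subsingleton_affine D _ (isAffineOpen_ι_preimage D (hD V hV)) q⟩
  have h2 := Groth.Agent.CohtopA.PushCanTop.pushCanU_bijective (X := D.toScheme.toTopCat) (Y := Y.toTopCat) D.ι.base V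
    (Coh.toAb (Coh.structureModule D.toScheme)) h1 (n + 1)
  have h3 := subsingleton_affine D _ (isAffineOpen_ι_preimage D hV) n
  exact h2.1.subsingleton

end scheme

end K504.GD
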