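import Groth.Agent.AbVar.K504.GD
import Groth.Agent.AbVar.K504.AltSh

/-!
# Maps between the sheaves `W ↦ F(W ∩ D)`
-/

set_option autoImplicit false

universe u

open CategoryTheory CategoryTheory.Limits Opposite TopologicalSpace AlgebraicGeometry

namespace K504.GDMap

open GD AltSh

theorem thin₂ {P A : Type*} [Preorder P] [Category A] (F : Pᵒᵖ ⥤ A) {a b c d : Pᵒᵖ} (f : a ⟶ b) (g : b ⟶ d)
    (f' : a ⟶ c) (g' : c ⟶ d) : F.map f ≫ F.map g = F.map f' ≫ F.map g' := by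
  rw [← F.map_comp, ← F.map_comp, Subsingleton.elim (f ≫ g) (f' ≫ g')]

theorem thin₁ {P A : Type*} [Preorder P] [Category A] (F : Pᵒᵖ ⥤ A) {a b d : Pᵒᵖ} (f : a ⟶ b) (g : b ⟶ d)
    (h : a ⟶ d) : F.map f ≫ F.map g = F.map h := by
  rw [← F.map_comp, Subsingleton.elim (f ≫ g) h]

section top

variable {Y : TopCat.{u}} (D : Opens Y) {F G H : CohTop.Ab Y}

/-- functoriality -/
noncomputable def gm (φ : F ⟶ G) : gD D F ⟶ gD D G :=
  ⟨{ app := fun W => φ.hom.app (op (W.unop ⊓ D))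
     naturality := fun _ _ i => φ.hom.naturality ((capF D).op.map i) }⟩

theorem ap_gm (φ : F ⟶ G) (W : (Opens Y)ᵒᵖ) (x : F.obj.obj (op (W.unop ⊓ D))) :
    ap (gm D φ) W x = ap φ (op (W.unop ⊓ D)) x := rfl

theorem gm_comp (φ : F ⟶ G) (ψ : G ⟶ H) : gm D (φ ≫ ψ) = gm D φ ≫ gm D ψ := rfl

theorem gm_id : gm D (𝟙 F) = 𝟙 _ := rfl

theorem gm_add (φ ψ : F ⟶ G) : gm D (φ + ψ) = gm D φ + gm D ψ := rfl

/-- as an additive map -/
noncomputable def gmHom (F G : CohTop.Ab Y) : (F ⟶ G) →+ (gD D F ⟶ gD D G) where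
  toFun := gm D
  map_zero' := rfl
  map_add' _ _ := rfl

/-- restriction to `W ∩ D` -/
noncomputable def et (F : CohTop.Ab Y) : F ⟶ gD D F :=
  ⟨{ app := fun W => F.obj.map (homOfLE inf_le_left : W.unop ⊓ D ⟶ W.unop).op
     naturality := fun _ _ _ => thin₂ F.obj _ _ _ _ }⟩

theorem et_gm (φ : F ⟶ G) : et D F ≫ gm D φ = φ ≫ et D G := by
  ext W : 3
  exact φ.hom.naturality (homOfLE inf_le_left : W.unop ⊓ D ⟶ W.unop).op

/-- restriction from `D` to `D'` -/
noncomputable def rh {D D' : Opens Y} (h : D' ≤ D) (F : CohTop.Ab Y) : gD D F ⟶ gD D' F :=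
  ⟨{ app := fun W => F.obj.map (homOfLE (inf_le_inf_left W.unop h) : W.unop ⊓ D' ⟶ W.unop ⊓ D).op
     naturality := fun _ _ _ => thin₂ F.obj _ _ _ _ }⟩

theorem et_rh {D D' : Opens Y} (h : D' ≤ D) : et D F ≫ rh h F = et D' F := by
  ext W : 3
  exact thin₁ F.obj _ _ _

theorem rh_gm {D D' : Opens Y} (h : D' ≤ D) (φ : F ⟶ G) : gm D φ ≫ rh h G = rh h F ≫ gm D' φ := by
  ext W : 3
  exact (φ.hom.naturality (homOfLE (inf_le_inf_left W.unop h) : W.unop ⊓ D' ⟶ W.unop ⊓ D).op).symm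

end top

section scheme

variable {X Y : Scheme.{u}} (D : Y.Opens)

/-- the structure sheaf as an abelian sheaf -/
noncomputable abbrev Oab (Y : Scheme.{u}) : CohTop.Ab Y.toTopCat := Coh.toAb (Coh.structureModule Y)

theorem res_res_apply {A B D : Y.Opens} (hA : A ≤ D) (hB : B ≤ D) (h : B ≤ A) (r : Γ(Y, D)) :
    Y.presheaf.map (homOfLE h).op (Y.presheaf.map (homOfLE hA).op r) = Y.presheaf.map (homOfLE hB).op r :=
  ConcreteCategory.congr_hom (thin₁ Y.presheaf (homOfLE hA).op (homOfLE h).op (homOfLE hB).op) r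

theorem mul_res {A B D : Y.Opens} (hA : A ≤ D) (hB : B ≤ D) (h : B ≤ A) (r : Γ(Y, D)) (x : Γ(Y, A)) :
    Y.presheaf.map (homOfLE hB).op r * Y.presheaf.map (homOfLE h).op x =
      Y.presheaf.map (homOfLE h).op (Y.presheaf.map (homOfLE hA).op r * x) := by
  rw [map_mul, res_res_apply hA hB h r]

/-- multiplication by a function on `D` -/
noncomputable def mu (r : Γ(Y, D)) : gD (Y := Y.toTopCat) D (Oab Y) ⟶ gD (Y := Y.toTopCat) D (Oab Y) :=
  ⟨{ app := fun W => AddCommGrpCat.ofHom (X := Γ(Y, (W.unop : Y.Opens) ⊓ D)) (Y := Γ(Y, (W.unop : Y.Opens) ⊓ D))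
      (AddMonoidHom.mulLeft (Y.presheaf.map (homOfLE inf_le_right : (W.unop : Y.Opens) ⊓ D ⟶ D).op r))
     naturality := fun V W i => by
      ext x
      exact mul_res (A := (V.unop : Y.Opens) ⊓ D) (B := (W.unop : Y.Opens) ⊓ D) inf_le_right inf_le_right
        (((capF (Y := Y.toTopCat) D).map i.unop).le) r x }⟩

theorem ap_mu (r : Γ(Y, D)) (W : (Opens Y.toTopCat)ᵒᵖ) (x : Γ(Y, (W.unop : Y.Opens) ⊓ D)) :
    ap (mu D r) W x = Y.presheaf.map (homOfLE inf_le_right : (W.unop : Y.Opens) ⊓ D ⟶ D).op r * x := rfl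

/-- as a ring homomorphism -/
noncomputable def muR : Γ(Y, D) →+* End (gD (Y := Y.toTopCat) D (Oab Y)) where
  toFun := mu D
  map_one' := by
    refine hom_ext' fun W x => ?_
    exact (congrArg (fun t => t * (show Γ(Y, (W.unop : Y.Opens) ⊓ D) from x)) (_root_.map_one _)).trans (one_mul _)
  map_mul' r s := by
    refine hom_ext' fun W x => ?_
    exact (congrArg (fun t => t * (show Γ(Y, (W.unop : Y.Opens) ⊓ D) from x)) (_root_.map_mul _ _ _)).trans
      (mul_assoc _ _ _)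
  map_zero' := by
    refine hom_ext' fun W x => ?_
    exact (congrArg (fun t => t * (show Γ(Y, (W.unop : Y.Opens) ⊓ D) from x)) (_root_.map_zero _)).trans (zero_mul _)
  map_add' r s := by
    refine hom_ext' fun W x => ?_
    exact (congrArg (fun t => t * (show Γ(Y, (W.unop : Y.Opens) ⊓ D) from x)) (_root_.map_add _ _ _)).trans
      (add_mul _ _ _)

theorem muR_apply (r : Γ(Y, D)) : muR D r = mu D r := rfl

theorem mu_rh {D D' : Y.Opens} (h : D' ≤ D) (r : Γ(Y, D)) :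
    mu D r ≫ rh (Y := Y.toTopCat) h (Oab Y) =
      rh (Y := Y.toTopCat) h (Oab Y) ≫ mu D' (Y.presheaf.map (homOfLE h).op r) := by
  refine hom_ext' fun W x => ?_
  have h1 := mul_res (A := (W.unop : Y.Opens) ⊓ D) (B := (W.unop : Y.Opens) ⊓ D') inf_le_right
    (inf_le_right.trans h) (inf_le_inf_left (W.unop : Y.Opens) h) r x
  refine h1.symm.trans ?_
  exact congrArg (fun t => t * Y.presheaf.map (homOfLE (inf_le_inf_left (W.unop : Y.Opens) h)).op x)
    (res_res_apply (A := D') (B := (W.unop : Y.Opens) ⊓ D') h (inf_le_right.trans h) inf_le_right r).symm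

variable (q : Y ⟶ X)

/-- `q^#` as a morphism of abelian sheaves -/
noncomputable def co : Oab X ⟶ (CohTop.push (X := Y.toTopCat) (Y := X.toTopCat) q.base).obj (Oab Y) :=
  ⟨{ app := fun V => AddCommGrpCat.ofHom (X := Γ(X, V.unop)) (Y := Γ(Y, q ⁻¹ᵁ V.unop)) (q.app V.unop).hom.toAddMonoidHom
     naturality := fun V W i => by
      ext x
      exact ConcreteCategory.congr_hom (q.naturality i) x }⟩

theorem ap_co (V : (Opens X.toTopCat)ᵒᵖ) (x : Γ(X, V.unop)) : ap (co q) V x = q.app V.unop x := rfl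

/-- `b q^#` on `D` -/
noncomputable def th (b : Γ(Y, D)) : Oab X ⟶ (CohTop.push (X := Y.toTopCat) (Y := X.toTopCat) q.base).obj
    (gD (Y := Y.toTopCat) D (Oab Y)) :=
  co q ≫ (CohTop.push (X := Y.toTopCat) (Y := X.toTopCat) q.base).map (et (Y := Y.toTopCat) D (Oab Y) ≫ mu D b)

theorem ap_th (b : Γ(Y, D)) (V : X.Opens) (x : Γ(X, V)) : ap (th D q b) (op V) x =
    Y.presheaf.map (homOfLE inf_le_right : q ⁻¹ᵁ V ⊓ D ⟶ D).op b *
      q.appLE V (q ⁻¹ᵁ V ⊓ D) inf_le_left x := rfl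

end scheme

end K504.GDMap
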