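import Groth.Agent.AbVar.K504.DescEt
import Groth.Agent.Grpsch.FinrankGen
import Groth.Agent.UnramA.FiniteEtaleCount
import Mathlib.FieldTheory.Galois.Basic
import Mathlib.FieldTheory.Fixed

/-!
# The function field extension of a finite étale homomorphism is Galois
-/

set_option autoImplicit false
universe u
open CategoryTheory CategoryTheory.Limits MonoidalCategory CartesianMonoidalCategory MonObj GrpObj AlgebraicGeometry

namespace K504.GalEt

section ff

variable {X Y Z : Scheme.{u}} [IrreducibleSpace X] [IrreducibleSpace Y] [IrreducibleSpace Z]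

/-- The map on function fields induced by a dominant morphism. -/
noncomputable def ff (f : X ⟶ Y) (e : f (genericPoint X) = genericPoint Y) :
    Y.presheaf.stalk (genericPoint Y) ⟶ X.presheaf.stalk (genericPoint X) :=
  Y.presheaf.stalkSpecializes (specializes_of_eq e) ≫ f.stalkMap (genericPoint X)

theorem spec_ff (f : X ⟶ Y) (e : f (genericPoint X) = genericPoint Y) :
    Spec.map (ff f e) ≫ Y.fromSpecStalk (genericPoint Y) = X.fromSpecStalk (genericPoint X) ≫ f := by
  rw [ff, Spec.map_comp, Category.assoc, Scheme.SpecMap_stalkSpecializes_fromSpecStalk,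
    Scheme.SpecMap_stalkMap_fromSpecStalk]

theorem eq_ff (f : X ⟶ Y) (e : f (genericPoint X) = genericPoint Y)
    (φ : Y.presheaf.stalk (genericPoint Y) ⟶ X.presheaf.stalk (genericPoint X))
    (h : Spec.map φ ≫ Y.fromSpecStalk (genericPoint Y) = X.fromSpecStalk (genericPoint X) ≫ f) :
    φ = ff f e := by
  apply Spec.map_injective
  rw [← cancel_mono (Y.fromSpecStalk (genericPoint Y)), h, spec_ff]

theorem ff_comp (f : X ⟶ Y) (e : f (genericPoint X) = genericPoint Y) (g : Y ⟶ Z)
    (e' : g (genericPoint Y) = genericPoint Z) (h : X ⟶ Z) (eh : h (genericPoint X) = genericPoint Z)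
    (hh : f ≫ g = h) : ff g e' ≫ ff f e = ff h eh := by
  apply eq_ff
  rw [Spec.map_comp, Category.assoc, spec_ff, ← Category.assoc, spec_ff, Category.assoc, hh]

/-- The rank of a finite flat morphism is the degree of the function field extension. -/
theorem finrank_eq {X Y : Scheme.{u}} [IsIntegral X] [IsIntegral Y] (f : X ⟶ Y) [IsFinite f] [Flat f]
    (e : f (genericPoint X) = genericPoint Y) (y : Y) :
    letI := (ff f e).hom.toAlgebra
    f.finrank y = Module.finrank (Y.presheaf.stalk (genericPoint Y)) (X.presheaf.stalk (genericPoint X)) := by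
  have h1 := Groth.Agent.Grpsch.FinrankGen.finrank_eq_stalk f e y
  rw [h1]
  let a1 := (f.stalkMap (genericPoint X)).hom.toAlgebra
  let a2 := (ff f e).hom.toAlgebra
  have hiso : IsIso (Y.presheaf.stalkSpecializes (specializes_of_eq e)) := by
    have := (Y.presheaf.stalkCongr (Inseparable.of_eq e)).isIso_inv
    exact this
  let i : Y.presheaf.stalk (genericPoint Y) ≃+* Y.presheaf.stalk (f (genericPoint X)) :=
    (asIso (Y.presheaf.stalkSpecializes (specializes_of_eq e))).commRingCatIsoToRingEquiv
  exact (Algebra.finrank_eq_of_equiv_equiv i (RingEquiv.refl _) (by ext; rfl)).symm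

end ff

variable {k : Type u} [Field k] [IsAlgClosed k]

/-- translation by a point -/
noncomputable def tr {E : Over (Spec (CommRingCat.of k))} [GrpObj E]
    (P : 𝟙_ (Over (Spec (CommRingCat.of k))) ⟶ E) : E ⟶ E := 𝟙 E * (toUnit E ≫ P)

omit [IsAlgClosed k] in
theorem comp_tr {E T : Over (Spec (CommRingCat.of k))} [GrpObj E]
    (P : 𝟙_ (Over (Spec (CommRingCat.of k))) ⟶ E) (x : T ⟶ E) : x ≫ tr P = x * (toUnit T ≫ P) := by
  rw [tr, MonObj.comp_mul, Category.comp_id, ← Category.assoc, toUnit_unique (x ≫ toUnit E) (toUnit T)]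

omit [IsAlgClosed k] in
theorem tr_inv {E : Over (Spec (CommRingCat.of k))} [GrpObj E]
    (P : 𝟙_ (Over (Spec (CommRingCat.of k))) ⟶ E) : tr P ≫ tr P⁻¹ = 𝟙 E := by
  rw [comp_tr, tr, GrpObj.comp_inv, mul_inv_cancel_right]

omit [IsAlgClosed k] in
theorem tr_inv' {E : Over (Spec (CommRingCat.of k))} [GrpObj E]
    (P : 𝟙_ (Over (Spec (CommRingCat.of k))) ⟶ E) : tr P⁻¹ ≫ tr P = 𝟙 E := by
  rw [comp_tr, tr, GrpObj.comp_inv, inv_mul_cancel_right]

omit [IsAlgClosed k] in
theorem isIso_tr {E : Over (Spec (CommRingCat.of k))} [GrpObj E]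
    (P : 𝟙_ (Over (Spec (CommRingCat.of k))) ⟶ E) : IsIso (tr P).left := by
  refine ⟨(tr P⁻¹).left, ?_, ?_⟩
  · rw [← Over.comp_left, tr_inv, Over.id_left]
  · rw [← Over.comp_left, tr_inv', Over.id_left]

theorem generic_of_isIso {X Y : Scheme.{u}} [IrreducibleSpace X] [IrreducibleSpace Y] (f : X ⟶ Y) [IsIso f] :
    f (genericPoint X) = genericPoint Y := by
  refine ((genericPoint_spec Y).eq ?_).symm
  have := (genericPoint_spec X).image (f := f) f.continuous
  rwa [Set.image_univ, f.surjective.range_eq, closure_univ] at this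

/-- kernel points -/
abbrev KerPts {E E' : Over (Spec (CommRingCat.of k))} [GrpObj E] [GrpObj E'] (φ : E ⟶ E') : Type u :=
  {P : 𝟙_ (Over (Spec (CommRingCat.of k))) ⟶ E // P ≫ φ = η[E']}

variable {E E' : Over (Spec (CommRingCat.of k))} [GrpObj E] [GrpObj E'] (φ : E ⟶ E') [IsMonHom φ]

omit [IsAlgClosed k] in
theorem tr_comp (P : KerPts φ) : tr P.1 ≫ φ = φ := by
  rw [tr, MonObj.mul_comp, Category.id_comp, Category.assoc, P.2]
  exact mul_one φ

omit [IsMonHom φ] in
/-- The number of kernel points of a finite étale homomorphism is its rank. -/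
theorem card_kerPts [IsFinite φ.left] [Etale φ.left] (y : Spec (CommRingCat.of k)) :
    Nat.card (KerPts φ) = φ.left.finrank (η[E'].left y) := by
  let W := pullback φ.left η[E'].left
  let g : W ⟶ Spec (CommRingCat.of k) := pullback.snd φ.left η[E'].left
  have h1 : φ.left.finrank (η[E'].left y) = g.finrank y :=
    (Scheme.Hom.finrank_pullback_snd φ.left η[E'].left y).symm
  rw [h1, ← Groth.Agent.UnramA.FiniteEtaleCount.card_sections g y]
  have hη : η[E'].left ≫ E'.hom = 𝟙 _ := Over.w η[E']
  refine Nat.card_congr
    { toFun := fun P => ⟨pullback.lift P.1.left (𝟙 _) ?_, pullback.lift_snd _ _ _⟩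
      invFun := fun s => ⟨Over.homMk (s.1 ≫ pullback.fst _ _) ?_, ?_⟩
      left_inv := ?_
      right_inv := ?_ }
  · rw [← Over.comp_left, P.2, Category.id_comp]
  · change (s.1 ≫ pullback.fst _ _) ≫ E.hom = 𝟙 _
    rw [← Over.w φ, ← Category.assoc, Category.assoc s.1, pullback.condition, ← Category.assoc]
    have : s.1 ≫ pullback.snd φ.left η[E'].left = 𝟙 _ := s.2
    rw [this, Category.id_comp, hη]
    rfl
  · ext1
    change (s.1 ≫ pullback.fst _ _) ≫ φ.left = _
    rw [Category.assoc, pullback.condition, ← Category.assoc]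
    have : s.1 ≫ pullback.snd φ.left η[E'].left = 𝟙 _ := s.2
    rw [this, Category.id_comp]
  · intro P
    apply Subtype.ext
    ext1
    exact pullback.lift_fst _ _ _
  · intro s
    apply Subtype.ext
    apply pullback.hom_ext
    · exact pullback.lift_fst _ _ _
    · rw [pullback.lift_snd]
      exact s.2.symm

section gal

variable [IsIntegral E.left] [IsIntegral E'.left]
  (e : φ.left (genericPoint E.left) = genericPoint E'.left)

/-- The automorphism of the function field induced by a kernel point. -/
noncomputable def act (P : KerPts φ) :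
    letI := (ff φ.left e).hom.toAlgebra
    (E.left.presheaf.stalk (genericPoint E.left)) →ₐ[E'.left.presheaf.stalk (genericPoint E'.left)]
      (E.left.presheaf.stalk (genericPoint E.left)) :=
  letI := (ff φ.left e).hom.toAlgebra
  haveI := isIso_tr P.1
  { (ff (tr P.1).left (generic_of_isIso _)).hom with
    commutes' := fun x => by
      have h := ff_comp (tr P.1).left (generic_of_isIso _) φ.left e φ.left e
        (by rw [← Over.comp_left, tr_comp])
      exact congr(($h).hom x) }

omit [IsAlgClosed k] in
theorem act_injective [IsSeparated E.hom] : Function.Injective (act φ e) := by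
  intro P Q h
  have hP := isIso_tr P.1
  have hQ := isIso_tr Q.1
  have h1 : ff (tr P.1).left (generic_of_isIso _) = ff (tr Q.1).left (generic_of_isIso _) := by
    ext x
    exact congrArg (fun m => m x) h
  have h2 : E.left.fromSpecStalk (genericPoint E.left) ≫ (tr P.1).left =
      E.left.fromSpecStalk (genericPoint E.left) ≫ (tr Q.1).left := by
    rw [← spec_ff _ (generic_of_isIso _), ← spec_ff _ (generic_of_isIso _), h1]
  have hdom : IsDominant (E.left.fromSpecStalk (genericPoint E.left)) := by
    refine ⟨?_⟩
    have hg : genericPoint E.left ∈ Set.range (E.left.fromSpecStalk (genericPoint E.left)) := by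
      rw [Scheme.range_fromSpecStalk]
      exact specializes_rfl
    have := closure_mono (Set.singleton_subset_iff.2 hg)
    rw [(genericPoint_spec E.left).def] at this
    exact dense_iff_closure_eq.2 (top_le_iff.1 this)
  have h3 : (tr P.1).left = (tr Q.1).left :=
    ext_of_isDominant_of_isSeparated E.hom (by rw [Over.w, Over.w])
      (E.left.fromSpecStalk (genericPoint E.left)) h2
  have h4 : tr P.1 = tr Q.1 := by
    ext1
    exact h3
  have h5 := congrArg (fun m => η[E] ≫ m) h4
  have h6 : ∀ R : 𝟙_ (Over (Spec (CommRingCat.of k))) ⟶ E, η[E] ≫ tr R = R := by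
    intro R
    rw [comp_tr, toUnit_unique (toUnit (𝟙_ (Over (Spec (CommRingCat.of k))))) (𝟙 _), Category.id_comp]
    exact one_mul R
  simp only [h6] at h5
  exact Subtype.ext h5

theorem main [IsSeparated E.hom] [IsFinite φ.left] [Etale φ.left] [Surjective φ.left] :
    letI := (ff φ.left e).hom.toAlgebra
    IsGalois (E'.left.functionField) (E.left.functionField) ∧
      Nat.card (E.left.functionField ≃ₐ[E'.left.functionField] E.left.functionField) =
        Nat.card (KerPts φ) := by
  let y : Spec (CommRingCat.of k) := IsLocalRing.closedPoint k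
  let _ : Algebra E'.left.functionField E.left.functionField := (ff φ.left e).hom.toAlgebra
  have h1 := card_kerPts φ y
  have h2 := finrank_eq φ.left e (η[E'].left y)
  have h3 : Nat.card (KerPts φ) = Module.finrank E'.left.functionField E.left.functionField :=
    h1.trans h2
  have hpos : 0 < φ.left.finrank (η[E'].left y) :=
    (Scheme.Hom.one_le_finrank_iff_surjective (f := φ.left)).2 inferInstance _
  have hfd : FiniteDimensional E'.left.functionField E.left.functionField :=
    Module.finite_of_finrank_pos (h2 ▸ hpos)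
  have hfin : Finite (KerPts φ) := Nat.finite_of_card_ne_zero (by rw [h1]; omega)
  have h4 : Nat.card (KerPts φ) ≤ Nat.card (E.left.functionField →ₐ[E'.left.functionField] E.left.functionField) :=
    Nat.card_le_card_of_injective (act φ e) (act_injective φ e)
  have h5 : Nat.card (E.left.functionField →ₐ[E'.left.functionField] E.left.functionField) ≤
      Module.finrank E'.left.functionField E.left.functionField := by
    rw [Nat.card_eq_fintype_card]
    exact AlgHom.card_le
  have h6 : Nat.card (E.left.functionField ≃ₐ[E'.left.functionField] E.left.functionField) =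
      Nat.card (E.left.functionField →ₐ[E'.left.functionField] E.left.functionField) :=
    Nat.card_congr (algEquivEquivAlgHom _ _).toEquiv
  have h7 : Nat.card (E.left.functionField ≃ₐ[E'.left.functionField] E.left.functionField) =
      Module.finrank E'.left.functionField E.left.functionField := by omega
  exact ⟨IsGalois.of_card_aut_eq_finrank _ _ h7, h7.trans h3.symm⟩

end gal

end K504.GalEt
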