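import Mathlib.LinearAlgebra.Basis.VectorSpace
import Mathlib.LinearAlgebra.Dual.Lemmas
import Mathlib.Algebra.Algebra.Basic

/-!
# Linear algebra for modules `N = R ⊗ H`
-/

set_option autoImplicit false

universe u v w

namespace K504.GlueAlg

set_option linter.unusedSectionVars false

variable {k : Type v} {R : Type u} {H : Type w} {N : Type*} [Field k] [CommRing R] [Algebra k R] [AddCommGroup H]
  [Module k H] [AddCommGroup N] [Module R N] (F : H →+ N) (hF : ∀ (a : k) x, F (a • x) = algebraMap k R a • F x)

/-- `N` is the base change of `H` -/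
def IsBC (k : Type v) {R : Type u} {H : Type w} {N : Type*} [Field k] [CommRing R] [Algebra k R] [AddCommGroup H]
    [Module k H] [AddCommGroup N] [Module R N] (F : H →+ N) : Prop :=
  ∀ (ι : Type u) (β : Module.Basis ι k R), Function.Bijective (fun x : ι →₀ H => x.sum fun i h => β i • F h)

variable (hbij : IsBC k (R := R) F)

include hbij in
theorem induction {p : N → Prop} (h1 : ∀ (r : R) x, p (r • F x)) (h0 : p 0) (h2 : ∀ a b, p a → p b → p (a + b)) (n : N) :
    p n := by
  obtain ⟨x, rfl⟩ := (hbij _ (Module.Basis.ofVectorSpace k R)).2 n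
  change p (x.sum fun i h => (Module.Basis.ofVectorSpace k R) i • F h)
  rw [Finsupp.sum]
  exact Finset.sum_induction _ p h2 h0 (fun i _ => h1 _ _)

include hbij in
/-- uniqueness of semilinear extensions -/
theorem unique {M : Type*} [AddCommGroup M] (A B : N →+ M) (act : R → M → M)
    (hA : ∀ r n, A (r • n) = act r (A n)) (hB : ∀ r n, B (r • n) = act r (B n)) (h : ∀ x, A (F x) = B (F x)) (n : N) :
    A n = B n := by
  refine induction F hbij (p := fun n => A n = B n) (fun r x => ?_) ?_ (fun a b ha hb => ?_) n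
  · rw [hA, hB, h]
  · rw [map_zero, map_zero]
  · rw [map_add, map_add, ha, hb]

include hF hbij in
/-- linear extension -/
theorem exists_ext (ξ : H →ₗ[k] k) : ∃ Ξ : N →+ R, (∀ (r : R) n, Ξ (r • n) = r * Ξ n) ∧
    ∀ x, Ξ (F x) = algebraMap k R (ξ x) := by
  classical
  let β := Module.Basis.ofVectorSpace k R
  let e0 : (Module.Basis.ofVectorSpaceIndex k R →₀ H) →+ N :=
    Finsupp.liftAddHom fun i => (DistribSMul.toAddMonoidHom N (β i)).comp F
  let e : (Module.Basis.ofVectorSpaceIndex k R →₀ H) ≃+ N := AddEquiv.ofBijective e0 (hbij _ β)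
  have he : ∀ i h, e (Finsupp.single i h) = β i • F h := fun i h => by
    change (Finsupp.single i h).sum _ = _
    exact Finsupp.sum_single_index (by rw [map_zero])
  let Ξ0 : (Module.Basis.ofVectorSpaceIndex k R →₀ H) →+ R := Finsupp.liftAddHom fun i =>
    (AddMonoidHom.mulLeft (β i)).comp ((algebraMap k R : k →+ R).comp (ξ : H →+ k))
  have hΞ0 : ∀ i h, Ξ0 (Finsupp.single i h) = β i * algebraMap k R (ξ h) := fun i h =>
    Finsupp.liftAddHom_apply_single _ _ _
  let Ξ : N →+ R := Ξ0.comp e.symm.toAddMonoidHom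
  have hΞe : ∀ x, Ξ (e x) = Ξ0 x := fun x => congrArg Ξ0 (e.symm_apply_apply x)
  have h0 : ∀ (c : Module.Basis.ofVectorSpaceIndex k R →₀ k) x, Ξ (Finsupp.linearCombination k β c • F x) =
      Finsupp.linearCombination k β c * algebraMap k R (ξ x) := fun c x => by
    induction c using Finsupp.induction_linear with
    | zero => rw [map_zero, zero_smul, map_zero, zero_mul]
    | add a b ha hb => rw [map_add, add_smul, map_add, ha, hb, add_mul]
    | single i c =>
      rw [Finsupp.linearCombination_single]
      have h2 : (c • β i) • F x = e (Finsupp.single i (c • x)) := by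
        rw [he, hF, smul_smul, Algebra.smul_def, mul_comm]
      rw [h2, hΞe, hΞ0, map_smul, smul_eq_mul, map_mul, Algebra.smul_def]
      ring
  have h1 : ∀ (r : R) x, Ξ (r • F x) = r * algebraMap k R (ξ x) := fun r x => by
    have := h0 (β.repr r) x
    rwa [β.linearCombination_repr] at this
  refine ⟨Ξ, fun r n => ?_, fun x => ?_⟩
  · refine induction F hbij (p := fun n => Ξ (r • n) = r * Ξ n) (fun s x => ?_) ?_ (fun a b ha hb => ?_) n
    · rw [smul_smul, h1, h1, mul_assoc]
    · rw [smul_zero, map_zero, mul_zero]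
    · rw [smul_add, map_add, map_add, ha, hb, mul_add]
  · have := h1 1 x
    rwa [one_smul, one_mul] at this

include hbij in
/-- descent -/
theorem mem_range [Nontrivial R] (n : N) (h : ∀ (ξ : H →ₗ[k] k) (Ξ : N →+ R), (∀ (r : R) n, Ξ (r • n) = r * Ξ n) →
    (∀ x, Ξ (F x) = algebraMap k R (ξ x)) → Ξ n ∈ Set.range (algebraMap k R))
    (hF : ∀ (a : k) x, F (a • x) = algebraMap k R a • F x) : ∃ x, F x = n := by
  classical
  have hli : LinearIndepOn k id ({1} : Set R) := by
    rw [LinearIndepOn]
    exact LinearIndependent.of_subsingleton (⟨1, rfl⟩ : ({1} : Set R)) one_ne_zero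
  let β := Module.Basis.extend hli
  obtain ⟨x, rfl⟩ := (hbij _ β).2 n
  let i0 : hli.extend (Set.subset_univ _) := ⟨1, hli.subset_extend _ rfl⟩
  have hi0 : β i0 = 1 := Module.Basis.extend_apply_self hli i0
  have hx : ∀ i, i ≠ i0 → x i = 0 := fun i hi => by
    rw [← Module.forall_dual_apply_eq_zero_iff k]
    intro ξ
    obtain ⟨Ξ, h1, h2⟩ := exists_ext F hF hbij ξ
    obtain ⟨c, hc⟩ := h ξ Ξ h1 h2
    have h3 : Ξ (x.sum fun i h => β i • F h) = Finsupp.linearCombination k β (x.mapRange ξ (map_zero ξ)) := by
      rw [Finsupp.sum, map_sum, Finsupp.linearCombination_apply,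
        Finsupp.sum_mapRange_index (h := fun i (a : k) => a • β i) (fun i => zero_smul k _), Finsupp.sum]
      refine Finset.sum_congr rfl fun i _ => ?_
      rw [h1, h2, Algebra.smul_def, mul_comm]
    have h4 : algebraMap k R c = Finsupp.linearCombination k β (Finsupp.single i0 c) := by
      rw [Finsupp.linearCombination_single, hi0, Algebra.smul_def, mul_one]
    have h5 := β.linearIndependent (h4.symm.trans (hc.trans h3))
    have h6 := DFunLike.congr_fun h5 i
    rw [Finsupp.single_eq_of_ne hi, Finsupp.mapRange_apply] at h6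
    exact h6.symm
  refine ⟨x i0, ?_⟩
  have h7 : x = Finsupp.single i0 (x i0) := by
    ext i
    by_cases hi : i = i0
    · rw [hi, Finsupp.single_eq_same]
    · rw [hx i hi, Finsupp.single_eq_of_ne hi]
  change _ = x.sum fun i h => β i • F h
  rw [h7, Finsupp.sum_single_index (by rw [map_zero, smul_zero]), hi0, one_smul, Finsupp.single_eq_same]

include hbij in
theorem injective [Nontrivial R] (x : H) (hx : F x = 0) : x = 0 := by
  let β := Module.Basis.ofVectorSpace k R
  obtain ⟨i⟩ : Nonempty (Module.Basis.ofVectorSpaceIndex k R) := β.index_nonempty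
  have h1 : Finsupp.single i x = 0 := (hbij _ β).1 (by
    change (Finsupp.single i x).sum _ = (0 : _ →₀ H).sum _
    rw [Finsupp.sum_single_index (by rw [map_zero, smul_zero]), Finsupp.sum_zero_index, hx, smul_zero])
  simpa using h1

end K504.GlueAlg
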