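import Groth.Agent.DelIll.K905.HTExact
import Mathlib.Algebra.Homology.DerivedCategory.Ext.Map

/-!
# Pull-back maps on `E1Deg.HT` along an exact functor

For `L : A ⥤ B` exact, `c : T' ⟶ L T` and `φ : L K ⟶ K'` a morphism of complexes:
`pb L c φ n : HT T K n →+ HT T' K' n`; naturality `HTmap_pb`, compatibility with connecting maps `delta_pb`,
comparison with `Ext` for complexes in degree `0`.
-/

set_option autoImplicit false

universe w w' w₁ w₂ v₁ v₂ u₁ u₂

open CategoryTheory CategoryTheory.Limits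

namespace K504.HTPb

open K905.HTExact E1Deg

variable {A : Type u₁} [Category.{v₁} A] [Abelian A] [HasDerivedCategory.{w₁} A]
  {B : Type u₂} [Category.{v₂} B] [Abelian B] [HasDerivedCategory.{w₂} B]
  (L : A ⥤ B) [L.Additive] [PreservesFiniteLimits L] [PreservesFiniteColimits L]
  {T : A} {T' : B} (c : T' ⟶ L.obj T)

/-- the morphism `T' ⟶ L T` in the derived category -/
noncomputable def pre : (DerivedCategory.singleFunctor B 0).obj T' ⟶
    L.mapDerivedCategory.obj ((DerivedCategory.singleFunctor A 0).obj T) :=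
  (DerivedCategory.singleFunctor B 0).map c ≫ (L.mapDerivedCategorySingleFunctor 0).inv.app T

/-- the morphism `L (Q K) ⟶ Q K'` -/
noncomputable def post {K : CochainComplex A ℤ} {K' : CochainComplex B ℤ}
    (φ : (L.mapHomologicalComplex (ComplexShape.up ℤ)).obj K ⟶ K') :
    L.mapDerivedCategory.obj (DerivedCategory.Q.obj K) ⟶ DerivedCategory.Q.obj K' :=
  L.mapDerivedCategoryFactors.hom.app K ≫ DerivedCategory.Q.map φ

/-- **The pull-back map** on `HT`. -/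
noncomputable def pb {K : CochainComplex A ℤ} {K' : CochainComplex B ℤ}
    (φ : (L.mapHomologicalComplex (ComplexShape.up ℤ)).obj K ⟶ K') (n : ℤ) :
    HT T K n →+ HT T' K' n where
  toFun x := pre L c ≫ ShiftedHom.map (M := ℤ) (a := n) x L.mapDerivedCategory ≫
    (shiftFunctor (DerivedCategory B) n).map (post L φ)
  map_zero' := by
    rw [ShiftedHom.map_zero, Limits.zero_comp, Limits.comp_zero]
  map_add' x y := by
    rw [ShiftedHom.map_add, Preadditive.add_comp, Preadditive.comp_add]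

theorem pb_apply {K : CochainComplex A ℤ} {K' : CochainComplex B ℤ}
    (φ : (L.mapHomologicalComplex (ComplexShape.up ℤ)).obj K ⟶ K') (n : ℤ) (x : HT T K n) :
    pb L c φ n x = pre L c ≫ ShiftedHom.map (M := ℤ) (a := n) x L.mapDerivedCategory ≫
    (shiftFunctor (DerivedCategory B) n).map (post L φ) := rfl

theorem map_comp_shift {C D : Type*} [Category C] [Category D] [HasShift C ℤ] [HasShift D ℤ]
    (F : C ⥤ D) [F.CommShift ℤ] {X Y Z : C} (n : ℤ) (x : X ⟶ (shiftFunctor C n).obj Y) (f : Y ⟶ Z) :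
    ShiftedHom.map (M := ℤ) (a := n) (x ≫ (shiftFunctor C n).map f) F =
      ShiftedHom.map (M := ℤ) (a := n) x F ≫ (shiftFunctor D n).map (F.map f) := by
  simp [ShiftedHom.map]

theorem post_naturality {K₁ K₂ : CochainComplex A ℤ} {K₁' K₂' : CochainComplex B ℤ}
    (φ₁ : (L.mapHomologicalComplex (ComplexShape.up ℤ)).obj K₁ ⟶ K₁')
    (φ₂ : (L.mapHomologicalComplex (ComplexShape.up ℤ)).obj K₂ ⟶ K₂') (f : K₁ ⟶ K₂) (g : K₁' ⟶ K₂')
    (h : φ₁ ≫ g = (L.mapHomologicalComplex (ComplexShape.up ℤ)).map f ≫ φ₂) :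
    post L φ₁ ≫ DerivedCategory.Q.map g =
      L.mapDerivedCategory.map (DerivedCategory.Q.map f) ≫ post L φ₂ := by
  rw [post, post, Category.assoc, ← Functor.map_comp, h, Functor.map_comp,
    ← L.mapDerivedCategoryFactors_hom_naturality_assoc]

/-- naturality -/
theorem HTmap_pb {K₁ K₂ : CochainComplex A ℤ} {K₁' K₂' : CochainComplex B ℤ}
    (φ₁ : (L.mapHomologicalComplex (ComplexShape.up ℤ)).obj K₁ ⟶ K₁')
    (φ₂ : (L.mapHomologicalComplex (ComplexShape.up ℤ)).obj K₂ ⟶ K₂') (f : K₁ ⟶ K₂) (g : K₁' ⟶ K₂')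
    (h : φ₁ ≫ g = (L.mapHomologicalComplex (ComplexShape.up ℤ)).map f ≫ φ₂) (n : ℤ) (x : HT T K₁ n) :
    HTmap T' g n (pb L c φ₁ n x) = pb L c φ₂ n (HTmap T f n x) := by
  rw [HTmap_apply, HTmap_apply, pb_apply, pb_apply, map_comp_shift, Category.assoc, Category.assoc,
    Category.assoc, ← Functor.map_comp, ← Functor.map_comp, post_naturality L φ₁ φ₂ f g h]

/-- the connecting map is a composition of shifted morphisms -/
theorem con_eq_comp {C : Type*} [Category C] [Preadditive C] [HasZeroObject C] [HasShift C ℤ]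
    [∀ (n : ℤ), (shiftFunctor C n).Additive] [Pretriangulated C] {P R : C} (δ : R ⟶ (shiftFunctor C (1 : ℤ)).obj P) {T : C}
    (n m : ℤ) (h : n + 1 = m) (x : T ⟶ (shiftFunctor C n).obj R) :
    con δ n m h x = ShiftedHom.comp (M := ℤ) (a := n) (b := 1) (c := m) x δ (by omega) := by
  rw [con_apply, ShiftedHom.comp, Category.assoc]

theorem con_comp_left {C : Type*} [Category C] [Preadditive C] [HasZeroObject C] [HasShift C ℤ]
    [∀ (n : ℤ), (shiftFunctor C n).Additive] [Pretriangulated C] {P R : C} (δ : R ⟶ (shiftFunctor C (1 : ℤ)).obj P) {T T' : C}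
    (n m : ℤ) (h : n + 1 = m) (a : T' ⟶ T) (x : T ⟶ (shiftFunctor C n).obj R) :
    con δ n m h (a ≫ x) = a ≫ con δ n m h x := by
  simp [con_apply]

theorem abs₁ {D : Type*} [Category D] {P₃ Q₃ Q₁ P₁ R Z W : D} {F : P₃ ⟶ R} {a : P₃ ⟶ Q₃} {dl : Q₃ ⟶ Q₁} {s : Q₁ ⟶ P₁} {i : P₁ ⟶ R}
    {i' : R ⟶ P₁} {t : P₁ ⟶ Z} {u : Q₁ ⟶ Z} {v : Q₃ ⟶ W} {w : W ⟶ Z} (hF : F = a ≫ dl ≫ s ≫ i)
    (hi : i ≫ i' = 𝟙 _) (hs : s ≫ t = u)
    (hd : dl ≫ u = v ≫ w) : (F ≫ i') ≫ t = (a ≫ v) ≫ w := by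
  rw [hF]
  simp only [Category.assoc]
  rw [reassoc_of% hi, hs, hd]

theorem map_delta_eq {S : ShortComplex (CochainComplex A ℤ)} (hS : S.ShortExact)
    {S' : ShortComplex (CochainComplex B ℤ)} (hS' : S'.ShortExact)
    (τ₁ : (L.mapHomologicalComplex (ComplexShape.up ℤ)).obj S.X₁ ⟶ S'.X₁)
    (τ₂ : (L.mapHomologicalComplex (ComplexShape.up ℤ)).obj S.X₂ ⟶ S'.X₂)
    (τ₃ : (L.mapHomologicalComplex (ComplexShape.up ℤ)).obj S.X₃ ⟶ S'.X₃)
    (h₁ : τ₁ ≫ S'.f = (L.mapHomologicalComplex (ComplexShape.up ℤ)).map S.f ≫ τ₂)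
    (h₂ : τ₂ ≫ S'.g = (L.mapHomologicalComplex (ComplexShape.up ℤ)).map S.g ≫ τ₃) :
    ShiftedHom.map (M := ℤ) (a := (1 : ℤ)) (DerivedCategory.triangleOfSESδ hS) L.mapDerivedCategory ≫
      (shiftFunctor (DerivedCategory B) (1 : ℤ)).map (post L τ₁) =
    post L τ₃ ≫ DerivedCategory.triangleOfSESδ hS' := by
  let τ : S.map (L.mapHomologicalComplex (ComplexShape.up ℤ)) ⟶ S' := ⟨τ₁, τ₂, τ₃, h₁, h₂⟩
  have h3 : (shiftFunctor (DerivedCategory B) (1 : ℤ)).map (L.mapDerivedCategoryFactors.inv.app S.X₁) ≫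
      (shiftFunctor (DerivedCategory B) (1 : ℤ)).map (post L τ₁) =
      (shiftFunctor (DerivedCategory B) (1 : ℤ)).map (DerivedCategory.Q.map τ₁) := by
    rw [← Functor.map_comp]
    congr 1
    exact Iso.inv_hom_id_app_assoc _ _ _
  exact abs₁ (DerivedCategory.map_triangleOfSESδ L hS) (Iso.inv_hom_id_app _ _) h3
    (DerivedCategory.triangleOfSESδ_naturality
    (hS.map_of_exact (L.mapHomologicalComplex (ComplexShape.up ℤ))) hS' τ)

theorem shiftedHom_comp_map {C : Type*} [Category C] [HasShift C ℤ] {X Y Z Z' : C} {n m : ℤ}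
    (x : ShiftedHom X Y n) (y : ShiftedHom Y Z (1 : ℤ)) (h : 1 + n = m) (f : Z ⟶ Z') :
    ShiftedHom.comp x y h ≫ (shiftFunctor C m).map f =
      ShiftedHom.comp x (y ≫ (shiftFunctor C (1 : ℤ)).map f) h := by
  rw [ShiftedHom.comp, ShiftedHom.comp]
  have := (shiftFunctorAdd' C 1 n m (by omega)).inv.naturality f
  rw [Category.assoc, Category.assoc, ← this]
  simp

theorem shiftedHom_map_comp {C : Type*} [Category C] [HasShift C ℤ] {X Y Y' Z : C} {n m : ℤ}
    (x : ShiftedHom X Y n) (f : Y ⟶ Y') (y : ShiftedHom Y' Z (1 : ℤ)) (h : 1 + n = m) :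
    ShiftedHom.comp (x ≫ (shiftFunctor C n).map f : ShiftedHom X Y' n) y h =
      ShiftedHom.comp x (f ≫ y : ShiftedHom Y Z (1 : ℤ)) h := by
  rw [ShiftedHom.comp, ShiftedHom.comp]
  simp

/-- compatibility with connecting maps -/
theorem delta_pb {S : ShortComplex (CochainComplex A ℤ)} (hS : S.ShortExact)
    {S' : ShortComplex (CochainComplex B ℤ)} (hS' : S'.ShortExact)
    (τ₁ : (L.mapHomologicalComplex (ComplexShape.up ℤ)).obj S.X₁ ⟶ S'.X₁)
    (τ₂ : (L.mapHomologicalComplex (ComplexShape.up ℤ)).obj S.X₂ ⟶ S'.X₂)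
    (τ₃ : (L.mapHomologicalComplex (ComplexShape.up ℤ)).obj S.X₃ ⟶ S'.X₃)
    (h₁ : τ₁ ≫ S'.f = (L.mapHomologicalComplex (ComplexShape.up ℤ)).map S.f ≫ τ₂)
    (h₂ : τ₂ ≫ S'.g = (L.mapHomologicalComplex (ComplexShape.up ℤ)).map S.g ≫ τ₃) (n m : ℤ) (h : n + 1 = m)
    (x : HT T S.X₃ n) :
    delta hS' T' n m h (pb L c τ₃ n x) = pb L c τ₁ m (delta hS T n m h x) := by
  rw [pb_apply, pb_apply]
  change con (DerivedCategory.triangleOfSESδ hS') n m h _ = _ ≫ ShiftedHom.map (M := ℤ) (a := m) (con (DerivedCategory.triangleOfSESδ hS) n m h x) _ ≫ _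
  rw [con_eq_comp _ _ _ _ x, ShiftedHom.map_comp, con_comp_left]
  congr 1
  rw [con_eq_comp, shiftedHom_comp_map, map_delta_eq L hS hS' τ₁ τ₂ τ₃ h₁ h₂]
  exact shiftedHom_map_comp _ _ _ _

end K504.HTPb
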