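import Groth.Agent.AbVar.K504.HTPb
import Groth.Agent.DelIll.K905.HTSingle
import Groth.Agent.LoccohA.OmBase

/-!
# Comparison of the pull-back map on `HT` with the pull-back map on `Ext`
-/

set_option autoImplicit false

universe w w' w₁ w₂ v₁ v₂ u₁ u₂

open CategoryTheory CategoryTheory.Limits Abelian

namespace K504.HTPbExt

open K905.HTExact E1Deg K504.HTPb

section e0

variable {A : Type u₁} [Category.{v₁} A] [Abelian A] [HasDerivedCategory.{w₁} A]

/-- `singleFunctor 0` is `Q` of the complex in degree `0` -/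
noncomputable def isoQ (F : A) : (DerivedCategory.singleFunctor A 0).obj F ≅
    DerivedCategory.Q.obj ((HomologicalComplex.single A (ComplexShape.up ℤ) 0).obj F) :=
  (DerivedCategory.singleFunctorIsoCompQ A 0).app F

theorem isoQ_naturality {F G : A} (θ : F ⟶ G) : DerivedCategory.Q.map ((HomologicalComplex.single A (ComplexShape.up ℤ) 0).map θ) ≫
    (isoQ G).inv = (isoQ F).inv ≫ (DerivedCategory.singleFunctor A 0).map θ :=
  (DerivedCategory.singleFunctorIsoCompQ A 0).inv.naturality θ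

variable [HasExt.{w} A]

/-- `HT` of a complex in degree `0` is `Ext`. -/
noncomputable def e0 (T F : A) (m : ℕ) :
    HT T ((HomologicalComplex.single A (ComplexShape.up ℤ) 0).obj F) (m : ℤ) ≃+ Ext.{w} T F m :=
  (homCongrRight ((shiftFunctor (DerivedCategory A) (m : ℤ)).mapIso (isoQ F).symm)).trans Ext.homAddEquiv.symm

theorem e0_hom (T F : A) (m : ℕ) (x : HT T ((HomologicalComplex.single A (ComplexShape.up ℤ) 0).obj F) (m : ℤ)) :
    (e0 T F m x).hom = x ≫ (shiftFunctor (DerivedCategory A) (m : ℤ)).map (isoQ F).inv :=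
  Ext.homAddEquiv.apply_symm_apply _

end e0

variable {A : Type u₁} [Category.{v₁} A] [Abelian A] [HasDerivedCategory.{w₁} A]
  {B : Type u₂} [Category.{v₂} B] [Abelian B] [HasDerivedCategory.{w₂} B]
  (L : A ⥤ B) [L.Additive] [PreservesFiniteLimits L] [PreservesFiniteColimits L]
  {T : A} {T' : B} (c : T' ⟶ L.obj T)

/-- `L` commutes with complexes in degree `0` -/
noncomputable def sglL (F : A) :
    (L.mapHomologicalComplex (ComplexShape.up ℤ)).obj ((HomologicalComplex.single A (ComplexShape.up ℤ) 0).obj F) ≅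
      (HomologicalComplex.single B (ComplexShape.up ℤ) 0).obj (L.obj F) :=
  (HomologicalComplex.singleMapHomologicalComplex L (ComplexShape.up ℤ) 0).app F

/-- a morphism `θ : L F ⟶ G` as a morphism of complexes in degree `0` -/
noncomputable def sgl {F : A} {G : B} (θ : L.obj F ⟶ G) :
    (L.mapHomologicalComplex (ComplexShape.up ℤ)).obj ((HomologicalComplex.single A (ComplexShape.up ℤ) 0).obj F) ⟶
      (HomologicalComplex.single B (ComplexShape.up ℤ) 0).obj G :=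
  (sglL L F).hom ≫ (HomologicalComplex.single B (ComplexShape.up ℤ) 0).map θ

/-- `L` on `singleFunctor 0` -/
noncomputable def dSgl (F : A) : L.mapDerivedCategory.obj ((DerivedCategory.singleFunctor A 0).obj F) ≅
    (DerivedCategory.singleFunctor B 0).obj (L.obj F) := (L.mapDerivedCategorySingleFunctor 0).app F

set_option backward.isDefEq.respectTransparency false in
theorem dSgl_hom (F : A) : (dSgl L F).hom = L.mapDerivedCategory.map (isoQ F).hom ≫
        L.mapDerivedCategoryFactors.hom.app _ ≫ DerivedCategory.Q.map (sglL L F).hom ≫ (isoQ (L.obj F)).inv := by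
  simp [Functor.mapDerivedCategorySingleFunctor, dSgl, isoQ, sglL]
  rfl

theorem abs₂ {D : Type*} [Category D] {P₁ P₂ P₃ P₄ P₅ P₆ P₇ : D} {f : P₁ ⟶ P₂} {s : P₂ ⟶ P₃} {t : P₃ ⟶ P₄}
    {i : P₄ ⟶ P₅} {j : P₁ ⟶ P₆} {j' : P₆ ⟶ P₁} {i' : P₃ ⟶ P₇} {u : P₇ ⟶ P₅} {st : P₂ ⟶ P₄} (hst : st = s ≫ t)
    {v : P₆ ⟶ P₇} (hv : v = j' ≫ f ≫ s ≫ i')
    (hj : j ≫ j' = 𝟙 _) (hi : t ≫ i = i' ≫ u) : (f ≫ st) ≫ i = j ≫ v ≫ u := by
  subst hst hv
  simp only [Category.assoc]
  rw [reassoc_of% hj, hi]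

theorem post_sgl {F : A} {G : B} (θ : L.obj F ⟶ G) :
    post L (sgl L θ) ≫ (isoQ G).inv =
      L.mapDerivedCategory.map (isoQ F).inv ≫ (dSgl L F).hom ≫ (DerivedCategory.singleFunctor B 0).map θ :=
  abs₂ (DerivedCategory.Q.map_comp _ _) (dSgl_hom L F)
    (by rw [← Functor.map_comp, Iso.inv_hom_id, CategoryTheory.Functor.map_id]) (isoQ_naturality θ)

variable [HasExt.{w} A] [HasExt.{w'} B]

theorem abs₃ {D : Type*} [Category D] {P₀ P₁ P₂ P₃ P₄ P₅ P₆ P₇ : D} {a : P₀ ⟶ P₁} {b : P₁ ⟶ P₂} {x : P₂ ⟶ P₃}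
    {p : P₃ ⟶ P₄} {i : P₄ ⟶ P₆} {j : P₃ ⟶ P₅} {d : P₅ ⟶ P₇} {u : P₇ ⟶ P₆} {ab : P₀ ⟶ P₂} (hab : ab = a ≫ b)
    (h : p ≫ i = j ≫ d ≫ u) : (ab ≫ x ≫ p) ≫ i = a ≫ (b ≫ (x ≫ j) ≫ d) ≫ u := by
  subst hab
  simp only [Category.assoc]
  rw [h]

theorem e0_pb {F : A} {G : B} (θ : L.obj F ⟶ G) (m : ℕ)
    (x : HT T ((HomologicalComplex.single A (ComplexShape.up ℤ) 0).obj F) (m : ℤ)) :
    e0 T' G m (pb L c (sgl L θ) m x) = Groth.Agent.LoccohA.OmBase.pbA L c θ m (e0 T F m x) := by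
  apply Ext.homAddEquiv.injective
  rw [Ext.homAddEquiv_apply, Ext.homAddEquiv_apply, e0_hom, Groth.Agent.LoccohA.OmBase.pbA_apply,
    Ext.comp_hom, Ext.mk₀_hom, Ext.comp_hom, Ext.mk₀_hom, Ext.mapExactFunctor_hom, e0_hom,
    ShiftedHom.comp_mk₀, ShiftedHom.mk₀_comp, pb_apply]
  have h1 := map_comp_shift L.mapDerivedCategory (m : ℤ) x (isoQ F).inv
  rw [h1]
  have h2 := congrArg (fun t => (shiftFunctor (DerivedCategory B) (m : ℤ)).map t) (post_sgl L θ)
  simp only [Functor.map_comp] at h2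
  exact abs₃ (D := DerivedCategory B) rfl h2

end K504.HTPbExt
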