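import Groth.Agent.VarietyA.EulerLES
import Groth.Agent.VarietyB.DimSch
import Groth.Agent.UnramA.SmoothFibreDim
import Groth.Agent.Picfga.CurveRelDim
import Groth.Agent.Krr.H487.ExtPull
import Groth.Agent.Krr.H487.KerRank
import Groth.Agent.Krr.H495.ExtExist
import Groth.Agent.Dual.H339.OmegaRank
import Groth.Agent.Sga67.TensorOps
import Groth.Agent.PerfC.PullRestrict
import Groth.Agent.S1937

/-!
# Exterior powers of differentials of group schemes over a field

* `finrank_HH_freeMod`: `dim H^n(X, O^m) = m · dim H^n(X, O)`;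
* `exists_iso_freeMod`: an `r`-th exterior power of `Ω_{G/k}` for a connected smooth separated group scheme `G` of
  dimension `g` over a field is free of rank `g choose r`.
-/

set_option autoImplicit false

universe u

open CategoryTheory CategoryTheory.Limits AlgebraicGeometry

namespace K504.Hodge

open Groth.Agent Groth.Agent.VarietyA.EulerLES

/-- `mapA` as an additive map. -/
noncomputable def mapHom (k : Type u) [CommRing k] {X : Scheme.{u}} [X.Over (Spec (CommRingCat.of k))]
    (M N : X.Modules) (n : ℕ) : (M ⟶ N) →+ (Coh.HH X M n →ₗ[k] Coh.HH X N n) where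
  toFun f := mapA k f n
  map_zero' := by
    ext x
    change mapΓ (0 : M ⟶ N) n x = 0
    rw [mapΓ_zero]
    rfl
  map_add' f g := by
    ext x
    change mapΓ (f + g) n x = mapΓ f n x + mapΓ g n x
    rw [mapΓ_add]
    rfl

theorem finrank_HH_freeMod (k : Type u) [Field k] {X : Scheme.{u}} [X.Over (Spec (CommRingCat.of k))] (m n : ℕ) :
    Module.finrank k (Coh.HH X (FlatMod.freeMod X m) n) =
      m * Module.finrank k (Coh.HH X (Coh.structureModule X) n) := by
  classical
  let O : X.Modules := Coh.structureModule X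
  let S : X.Modules := FlatMod.freeMod X m
  let i : Fin m → (O ⟶ S) := fun j => Sigma.ι (fun _ : Fin m => O) j
  let p : Fin m → (S ⟶ O) := fun j => Sigma.desc fun i => if i = j then 𝟙 O else 0
  have hip : ∀ a b, i a ≫ p b = if a = b then 𝟙 O else 0 := fun a b => Sigma.ι_desc _ _
  have htot : ∑ j, p j ≫ i j = 𝟙 S := by
    refine Sigma.hom_ext _ _ fun a => ?_
    rw [Preadditive.comp_sum, Category.comp_id]
    rw [Finset.sum_eq_single a]
    · rw [← Category.assoc]
      change (i a ≫ p a) ≫ i a = i a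
      rw [hip, if_pos rfl, Category.id_comp]
    · intro b _ hb
      rw [← Category.assoc]
      change (i a ≫ p b) ≫ i b = 0
      rw [hip, if_neg (Ne.symm hb), zero_comp]
    · intro h
      exact absurd (Finset.mem_univ _) h
  let T : (Fin m → Coh.HH X O n) →ₗ[k] Coh.HH X S n := ∑ j, (mapA k (i j) n).comp (LinearMap.proj j)
  let R : Coh.HH X S n →ₗ[k] (Fin m → Coh.HH X O n) := LinearMap.pi fun j => mapA k (p j) n
  have hT : ∀ x, T x = ∑ j, mapA k (i j) n (x j) := fun x => by
    simp only [T, LinearMap.sum_apply]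
    rfl
  have hRT : R.comp T = LinearMap.id := by
    refine LinearMap.ext fun x => funext fun a => ?_
    change mapA k (p a) n (T x) = x a
    rw [hT, map_sum, Finset.sum_eq_single a]
    · rw [← LinearMap.comp_apply, ← mapA_comp, hip, if_pos rfl, mapA_id]
      rfl
    · intro b _ hb
      rw [← LinearMap.comp_apply, ← mapA_comp, hip, if_neg hb]
      exact DFunLike.congr_fun (mapHom k O O n).map_zero (x b)
    · intro h
      exact absurd (Finset.mem_univ _) h
  have hTR : T.comp R = LinearMap.id := by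
    refine LinearMap.ext fun x => ?_
    change T (R x) = x
    rw [hT]
    have h1 : mapHom k S S n (∑ j, p j ≫ i j) x = x := by
      rw [htot]
      exact DFunLike.congr_fun (mapA_id k S n) x
    rw [map_sum, LinearMap.sum_apply] at h1
    refine Eq.trans (Finset.sum_congr rfl fun j _ => ?_) h1
    exact (DFunLike.congr_fun (mapA_comp k (p j) (i j) n) x).symm
  let e : (Fin m → Coh.HH X O n) ≃ₗ[k] Coh.HH X S n := LinearEquiv.ofLinearMap T R hTR hRT
  rw [← e.finrank_eq]
  by_cases hf : Module.Finite k (Coh.HH X O n)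
  · rw [Module.finrank_pi_fintype]
    simp only [Finset.sum_const, Finset.card_univ, Fintype.card_fin, smul_eq_mul]
    rfl
  · have h0 : Module.finrank k (Coh.HH X (Coh.structureModule X) n) = 0 := Module.finrank_of_not_finite hf
    rw [h0, Nat.mul_zero]
    rcases Nat.eq_zero_or_pos m with rfl | hm
    · exact Module.finrank_zero_of_subsingleton
    · refine Module.finrank_of_not_finite fun h => hf ?_
      exact Module.Finite.of_surjective (LinearMap.proj (R := k) (φ := fun _ : Fin m => Coh.HH X O n) ⟨0, hm⟩)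
        (LinearMap.proj_surjective _)

/-- A finite locally free module of rank `r` on the spectrum of a field is free of rank `r`. -/
theorem nonempty_iso_freeMod {k : Type u} [Field k] {m : ℕ} {N : (Spec (CommRingCat.of k)).Modules}
    (hN : FlatMod.IsFinLocFreeOfRank m N) : Nonempty (N ≅ FlatMod.freeMod (Spec (CommRingCat.of k)) m) := by
  have hs : Subsingleton ↥(Spec (CommRingCat.of k)) := inferInstanceAs (Subsingleton (PrimeSpectrum k))
  let x : ↥(Spec (CommRingCat.of k)) := (⊥ : PrimeSpectrum k)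
  obtain ⟨U, hx, e⟩ := hN x
  have hU : U = ⊤ := by
    ext z
    simp [Subsingleton.elim z x, hx]
  subst hU
  obtain ⟨c, hc⟩ := Sga67.LocBasis.nonempty_restrict_iso_iff.1 e
  exact Sga67.LocBasis.nonempty_iso_free hc

theorem isFinLocFree_of_rank {X : Scheme.{u}} {r : ℕ} {M : X.Modules} (h : FlatMod.IsFinLocFreeOfRank r M) :
    FlatMod.IsFinLocFree M := fun x => by
  obtain ⟨U, hx, e⟩ := h x
  exact ⟨U, r, hx, e⟩

/-- An integral scheme smooth over a field is smooth of some relative dimension. -/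
theorem exists_relDim (k : Type u) [Field k] (X : Scheme.{u}) (f : X ⟶ Spec (CommRingCat.of k))
    [Smooth f] [IsIntegral X] : ∃ n : ℕ, SmoothOfRelativeDimension n f := by
  choose m V hV hxV hsm hdim hbasic using Picfga.CurveRelDim.exists_local_data k X f
  have hconst : ∀ x y, m x = m y := by
    intro x y
    obtain ⟨z, hz⟩ := nonempty_preirreducible_inter (V x).2 (V y).2 ⟨x, hxV x⟩ ⟨y, hxV y⟩
    obtain ⟨a, b, hab, hza⟩ := exists_basicOpen_le_affine_inter (hV x) (hV y) z hz
    have h1 := hbasic x a ⟨z, hza⟩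
    have h2 := hbasic y b ⟨z, hab ▸ hza⟩
    rw [← hab, h1] at h2
    exact_mod_cast h2
  have : Nonempty X := inferInstance
  obtain ⟨x₀⟩ := this
  refine ⟨m x₀, ⟨fun x => ?_⟩⟩
  obtain ⟨U, hU, e, hs⟩ := hsm x
  rw [hconst x x₀] at hs
  exact ⟨U, hU, V x, hV x, hxV x, e, hs⟩

theorem topologicalKrullDim_eq {k : Type u} [Field k] {X : Scheme.{u}} (f : X ⟶ Spec (CommRingCat.of k)) (n : ℕ)
    [SmoothOfRelativeDimension n f] [IrreducibleSpace X] : topologicalKrullDim X = n := by
  have hsm : Smooth f := SmoothOfRelativeDimension.smooth n f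
  let : X.Over (Spec (CommRingCat.of k)) := ⟨f⟩
  have : LocallyOfFiniteType (X ↘ (Spec (CommRingCat.of k))) := inferInstanceAs (LocallyOfFiniteType f)
  rw [VarietyB.DimSch.topologicalKrullDim_eq_trd k,
    ← VarietyB.DimSch.localDim_eq_of_irreducible k (X := X) (Classical.arbitrary X)]
  exact UnramA.SmoothFibreDim.localDim_eq n f _

theorem isFinLocFreeOfRank_pullback {X Y : Scheme.{u}} {r : ℕ} (f : X ⟶ Y) {M : Y.Modules}
    (hM : FlatMod.IsFinLocFreeOfRank r M) :
    FlatMod.IsFinLocFreeOfRank r ((Scheme.Modules.pullback f).obj M) := by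
  intro x
  obtain ⟨V, hV, e⟩ := hM (f x)
  obtain ⟨b, hb⟩ := Sga67.LocBasis.nonempty_restrict_iso_iff.mp e
  exact ⟨f ⁻¹ᵁ V, hV, Sga67.LocBasis.nonempty_restrict_iso_iff.mpr ⟨_, Krr.H487.LocBasisPull.isLocBasis_pbS f hb⟩⟩

/-- The sheaf of differentials of a smooth group scheme of relative dimension `g` over a field is free of rank
`g`, being the pull-back of a module on the base. -/
theorem exists_pullback {k : Type u} [Field k] (G : Over (Spec (CommRingCat.of k))) [GrpObj G] [QuasiSeparated G.hom]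
    (g : ℕ) [SmoothOfRelativeDimension g G.hom] :
    Nonempty (Omega.sheaf G.hom ≅
      (Scheme.Modules.pullback G.hom).obj (FlatMod.freeMod (Spec (CommRingCat.of k)) g)) := by
  obtain ⟨⟨e⟩, -⟩ := Groth.Agent.S1937.result (Spec (CommRingCat.of k)) G
  let η : Spec (CommRingCat.of k) ⟶ G.left := (MonObj.one : MonoidalCategoryStruct.tensorUnit (Over (Spec (CommRingCat.of k))) ⟶ G).left
  have hη : η ≫ G.hom = 𝟙 _ := Over.w (MonObj.one : MonoidalCategoryStruct.tensorUnit (Over (Spec (CommRingCat.of k))) ⟶ G)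
  let N : (Spec (CommRingCat.of k)).Modules := Omega.conormal (Z := Spec (CommRingCat.of k)) η
  have e0 : Omega.sheaf G.hom ≅ (Scheme.Modules.pullback G.hom).obj N := e
  have h1 : FlatMod.IsFinLocFreeOfRank g (Omega.sheaf G.hom) :=
    Groth.Agent.Dual.H339.OmegaRank.isFinLocFreeOfRank_omega g G.hom
  let e1 : N ≅ (Scheme.Modules.pullback η).obj (Omega.sheaf G.hom) :=
    (Scheme.Modules.pullbackId _).symm.app N ≪≫
      (Scheme.Modules.pullbackCongr hη.symm).app N ≪≫
      (Scheme.Modules.pullbackComp η G.hom).symm.app N ≪≫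
      (Scheme.Modules.pullback η).mapIso e0.symm
  have h2 : FlatMod.IsFinLocFreeOfRank g N :=
    Krr.H487.KerRank.isFinLocFreeOfRank_of_iso e1.symm (isFinLocFreeOfRank_pullback η h1)
  obtain ⟨e2⟩ := nonempty_iso_freeMod h2
  exact ⟨e0 ≪≫ (Scheme.Modules.pullback G.hom).mapIso e2⟩

/-- An exterior power of a module pulled back from the spectrum of a field is free. -/
theorem extPow_free {k : Type u} [Field k] {X : Scheme.{u}} (f : X ⟶ Spec (CommRingCat.of k)) {g r : ℕ}
    {E L : X.Modules}
    (e : E ≅ (Scheme.Modules.pullback f).obj (FlatMod.freeMod (Spec (CommRingCat.of k)) g))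
    (hL : ExtPow.IsExtPow r E L) : Nonempty (L ≅ FlatMod.freeMod X (g.choose r)) := by
  let E₀ : (Spec (CommRingCat.of k)).Modules := FlatMod.freeMod (Spec (CommRingCat.of k)) g
  have hE₀r : FlatMod.IsFinLocFreeOfRank g E₀ := fun x =>
    ⟨⊤, trivial, Sga67.LocBasis.nonempty_restrict_iso_iff.2 ⟨_, (Sga67.LocBasis.free_isLocBasis _ _)⟩⟩
  have hE₀ : FlatMod.IsFinLocFree E₀ := isFinLocFree_of_rank hE₀r
  obtain ⟨L₀, -, hL₀⟩ := Krr.H495.ExtExist.exists_isExtPow r E₀ hE₀
  obtain ⟨e₀⟩ := nonempty_iso_freeMod (Krr.H487.KerRank.isFinLocFreeOfRank_extPow hE₀r hL₀)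
  have hE' : FlatMod.IsFinLocFree ((Scheme.Modules.pullback f).obj E₀) :=
    isFinLocFree_of_rank (isFinLocFreeOfRank_pullback f hE₀r)
  obtain ⟨L', -, hL'⟩ := Krr.H495.ExtExist.exists_isExtPow r _ hE'
  obtain ⟨e₁⟩ := Krr.H487.ExtPull.nonempty_pullback_iso (f := f) hE₀ hL₀ hL'
  obtain ⟨e₂⟩ := Sga67.TensorOps.nonempty_iso_of_isExtPow e hL hL'
  exact ⟨e₂ ≪≫ e₁.symm ≪≫ (Scheme.Modules.pullback f).mapIso e₀ ≪≫ PerfC.PullRestrict.pullbackFreeMod f _⟩

/-- Hodge sheaves of a connected smooth group scheme over a field. -/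
theorem main {k : Type u} [Field k] (G : Over (Spec (CommRingCat.of k))) [GrpObj G] [QuasiSeparated G.hom]
    [Smooth G.hom] [IsIntegral G.left] {g r : ℕ} (hg : topologicalKrullDim G.left = g) {L : G.left.Modules}
    (hL : ExtPow.IsExtPow r (Omega.sheaf G.hom) L) : Nonempty (L ≅ FlatMod.freeMod G.left (g.choose r)) := by
  obtain ⟨n, hn⟩ := exists_relDim k G.left G.hom
  have h1 : topologicalKrullDim G.left = n := topologicalKrullDim_eq G.hom n
  have h2 : n = g := by
    rw [hg] at h1
    exact_mod_cast h1.symm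
  subst h2
  obtain ⟨e⟩ := exists_pullback G n
  exact extPow_free G.hom e hL

end K504.Hodge
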