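import Groth.Agent.AbVar.K504.StarBC
import Groth.Agent.AbVar.K504.AltRho
import Groth.Agent.AbVar.K504.GlueAlg

/-!
# Invariant derivations act trivially on hypercohomology: the maps
-/

set_option autoImplicit false

universe w w' u v

open CategoryTheory CategoryTheory.Limits Opposite TopologicalSpace AlgebraicGeometry

namespace K504.Star

open GD GDMap AltSh AltPb HTN AltBC StarBC AltRho E1Deg KLinDR Groth.Agent.LoccohA.OmEdge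
  Groth.Agent.CohtopA.FreeAb

section abs

variable {C : Type u} [SmallCategory C] {J : GrothendieckTopology C} [HasDerivedCategory.{w} (Sheaf J AddCommGrpCat.{u})]
  {W : Type} [AddCommGroup W] {F G H : Sheaf J AddCommGrpCat.{u}} {t : W →+ (F ⟶ F)} (ht : Comm t)
  {s : W →+ (G ⟶ G)} (hs : Comm s) {r : W →+ (H ⟶ H)} (hr : Comm r) (T : Sheaf J AddCommGrpCat.{u}) (n : ℤ)

omit [HasDerivedCategory.{w} (Sheaf J AddCommGrpCat.{u})] in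
theorem CEmap_comp (φ : F ⟶ G) (h : ∀ v, t v ≫ φ = φ ≫ s v) (ψ : G ⟶ H) (h' : ∀ v, s v ≫ ψ = ψ ≫ r v)
    (h'' : ∀ v, t v ≫ (φ ≫ ψ) = (φ ≫ ψ) ≫ r v) : CEmap ht hs φ h ≫ CEmap hs hr ψ h' = CEmap ht hr (φ ≫ ψ) h'' := by
  ext q : 1
  exact ((altSh W q).map_comp φ ψ).symm

/-- the map on hypercohomology -/
noncomputable def Mm (φ : F ⟶ G) (h : ∀ v, t v ≫ φ = φ ≫ s v) : HTN T (CE t ht) n →+ HTN T (CE s hs) n :=
  HTNmap T (CEmap ht hs φ h) n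

theorem Mm_comp (φ : F ⟶ G) (h : ∀ v, t v ≫ φ = φ ≫ s v) (ψ : G ⟶ H) (h' : ∀ v, s v ≫ ψ = ψ ≫ r v)
    (χ : F ⟶ H) (h'' : ∀ v, t v ≫ χ = χ ≫ r v) (hχ : φ ≫ ψ = χ) (x : HTN T (CE t ht) n) :
    Mm hs hr T n ψ h' (Mm ht hs T n φ h x) = Mm ht hr T n χ h'' x := by
  subst hχ
  rw [Mm, Mm, Mm, ← HTNmap_comp, CEmap_comp ht hs hr φ h ψ h' h'']

theorem Mm_square {G' : Sheaf J AddCommGrpCat.{u}} {s' : W →+ (G' ⟶ G')} (hs' : Comm s')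
    (φ : F ⟶ G) (h : ∀ v, t v ≫ φ = φ ≫ s v) (ψ : G ⟶ H) (h' : ∀ v, s v ≫ ψ = ψ ≫ r v)
    (φ' : F ⟶ G') (g : ∀ v, t v ≫ φ' = φ' ≫ s' v) (ψ' : G' ⟶ H) (g' : ∀ v, s' v ≫ ψ' = ψ' ≫ r v)
    (e : φ ≫ ψ = φ' ≫ ψ') (x : HTN T (CE t ht) n) :
    Mm hs hr T n ψ h' (Mm ht hs T n φ h x) = Mm hs' hr T n ψ' g' (Mm ht hs' T n φ' g x) := by
  have h'' : ∀ v, t v ≫ (φ' ≫ ψ') = (φ' ≫ ψ') ≫ r v := fun v => by
    rw [← Category.assoc, g, Category.assoc, g', Category.assoc]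
  rw [Mm_comp ht hs hr T n φ h ψ h' _ h'' e, Mm_comp ht hs' hr T n φ' g ψ' g' _ h'' rfl]

theorem Mm_id (h : ∀ v, t v ≫ 𝟙 F = 𝟙 F ≫ t v) (x : HTN T (CE t ht) n) : Mm ht ht T n (𝟙 F) h x = x := by
  have h1 : CEmap ht ht (𝟙 F) h = 𝟙 _ := by
    ext q : 1
    exact (altSh W q).map_id F
  rw [Mm, h1, HTNmap_id]

theorem Mm_zero (h : ∀ v, t v ≫ (0 : F ⟶ G) = 0 ≫ s v) (x : HTN T (CE t ht) n) : Mm ht hs T n 0 h x = 0 := by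
  have h1 : CEmap ht hs (0 : F ⟶ G) h = 0 := by
    ext q : 1
    exact (altSh W q).map_zero _ _
  rw [Mm, h1, HTNmap_zero]

end abs

section abspb

variable {X Y : TopCat.{u}} (f : Y ⟶ X) {W : Type} [AddCommGroup W]
  [HasDerivedCategory.{w} (CohTop.Ab X)] [HasDerivedCategory.{w'} (CohTop.Ab Y)]

/-- the morphism `ℤ_Y ⟶ f⁻¹ ℤ_X` -/
noncomputable def cq : freeAb (Opens.grothendieckTopology Y) (⊤ : Opens Y) ⟶
    (CohTop.pull f).obj (freeAb (Opens.grothendieckTopology X) (⊤ : Opens X)) := alp f ⊤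

/-- the pull-back map -/
noncomputable def Pm {F : CohTop.Ab X} {G : CohTop.Ab Y} {t : W →+ (F ⟶ F)} (ht : Comm t)
    {t' : W →+ (G ⟶ G)} (ht' : Comm t') (n : ℤ) (θ : F ⟶ (CohTop.push f).obj G) (h : Tw f θ t t') :
    HTN (freeAb (Opens.grothendieckTopology X) (⊤ : Opens X)) (CE t ht) n →+
      HTN (freeAb (Opens.grothendieckTopology Y) (⊤ : Opens Y)) (CE t' ht') n :=
  pbN (CohTop.pull f) (cq f) (CEpb f θ ht ht' h) n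

theorem Pm_Mm {F : CohTop.Ab X} {G : CohTop.Ab Y} {t : W →+ (F ⟶ F)} (ht : Comm t)
    {t' : W →+ (G ⟶ G)} (ht' : Comm t') (n : ℤ) (θ : F ⟶ (CohTop.push f).obj G) (h : Tw f θ t t')
    {F₁ : CohTop.Ab X} {G₁ : CohTop.Ab Y} (θ₁ : F₁ ⟶ (CohTop.push f).obj G₁) {t₁ : W →+ (F₁ ⟶ F₁)} (ht₁ : Comm t₁)
    {t₁' : W →+ (G₁ ⟶ G₁)} (ht₁' : Comm t₁') (h₁ : Tw f θ₁ t₁ t₁') (a : F ⟶ F₁) (ha : ∀ v, t v ≫ a = a ≫ t₁ v)
    (b : G ⟶ G₁) (hb : ∀ v, t' v ≫ b = b ≫ t₁' v) (hab : θ ≫ (CohTop.push f).map b = a ≫ θ₁)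
    (x : HTN (freeAb (Opens.grothendieckTopology X) (⊤ : Opens X)) (CE t ht) n) :
    Mm ht' ht₁' _ n b hb (Pm f ht ht' n θ h x) = Pm f ht₁ ht₁' n θ₁ h₁ (Mm ht ht₁ _ n a ha x) :=
  map_pbN (CohTop.pull f) (cq f) (CEpb f θ ht ht' h) (CEpb f θ₁ ht₁ ht₁' h₁) (CEmap ht ht₁ a ha)
    (CEmap ht' ht₁' b hb) (CEpb_map f θ ht ht' h θ₁ ht₁ ht₁' h₁ a ha b hb hab) n x

theorem Pm_Mm' {F : CohTop.Ab X} {G : CohTop.Ab Y} {t : W →+ (F ⟶ F)} (ht : Comm t)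
    {t' : W →+ (G ⟶ G)} (ht' : Comm t') (n : ℤ) (θ : F ⟶ (CohTop.push f).obj G) (h : Tw f θ t t')
    {G₁ : CohTop.Ab Y} (θ₁ : F ⟶ (CohTop.push f).obj G₁)
    {t₁' : W →+ (G₁ ⟶ G₁)} (ht₁' : Comm t₁') (h₁ : Tw f θ₁ t t₁')
    (b : G ⟶ G₁) (hb : ∀ v, t' v ≫ b = b ≫ t₁' v) (hab : θ ≫ (CohTop.push f).map b = θ₁)
    (x : HTN (freeAb (Opens.grothendieckTopology X) (⊤ : Opens X)) (CE t ht) n) :
    Mm ht' ht₁' _ n b hb (Pm f ht ht' n θ h x) = Pm f ht ht₁' n θ₁ h₁ x := by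
  have h1 : ∀ v, t v ≫ 𝟙 F = 𝟙 F ≫ t v := fun v => by rw [Category.comp_id, Category.id_comp]
  rw [Pm_Mm f ht ht' n θ h θ₁ ht ht₁' h₁ (𝟙 F) h1 b hb (by rw [hab, Category.id_comp]), Mm_id]

end abspb

variable {k : Type u} [Field k] {X Y : Scheme.{u}}

section basic

variable (f : X ⟶ Spec (CommRingCat.of k))

/-- scalars as endomorphisms of `O_X` -/
noncomputable def rX : k →+* End (Oab X) where
  toFun a := Coh.smulAb (Coh.structureModule X) (Coh.toGlobal f a)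
  map_one' := by
    rw [map_one, Coh.smulAb_one]
    rfl
  map_mul' a b := by
    rw [map_mul, Coh.smulAb_mul]
    rfl
  map_zero' := by rw [map_zero, Coh.smulAb_zero]
  map_add' a b := by rw [map_add, Coh.smulAb_add]

theorem ap_rX (a : k) (V : X.Opens) (x : Γ(X, V)) :
    ap (show Oab X ⟶ Oab X from rX f a) (op V) x = aX f V a * x := rfl

theorem appLE_res (q : Y ⟶ X) {V₀ V : X.Opens} (hV : V ≤ V₀) {W : Y.Opens} (h : W ≤ q ⁻¹ᵁ V) (h' : W ≤ q ⁻¹ᵁ V₀)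
    (z : Γ(X, V₀)) :
    q.appLE V W h (X.presheaf.map (homOfLE hV).op z) = Y.presheaf.map (homOfLE h').op (q.app V₀ z) := by
  have h1 : X.presheaf.map (homOfLE hV).op ≫ q.appLE V W h = q.app V₀ ≫ Y.presheaf.map (homOfLE h').op := by
    rw [Scheme.Hom.map_appLE, Scheme.Hom.app_eq_appLE, Scheme.Hom.appLE_map]
  exact ConcreteCategory.congr_hom h1 z

theorem appLE_aX (q : Y ⟶ X) {V : X.Opens} {W : Y.Opens} (h : W ≤ q ⁻¹ᵁ V) (a : k) :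
    q.appLE V W h (aX f V a) = aX (q ≫ f) W a :=
  appLE_res q (le_top : V ≤ ⊤) h (le_top : W ≤ ⊤) _

end basic

section ops

variable (p : Y ⟶ X) (U : X.Opens) {W : Type} [AddCommGroup W]

/-- the operators on `W ↦ O(W ∩ p⁻¹U)` -/
noncomputable def tD (t1 : W →+ (Oab Y ⟶ Oab Y)) : W →+ (gD (Y := Y.toTopCat) (p ⁻¹ᵁ U) (Oab Y) ⟶
    gD (Y := Y.toTopCat) (p ⁻¹ᵁ U) (Oab Y)) :=
  (gmHom (Y := Y.toTopCat) (p ⁻¹ᵁ U) (Oab Y) (Oab Y)).comp t1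

theorem tD_apply (t1 : W →+ (Oab Y ⟶ Oab Y)) (v : W) : tD p U t1 v = gm (Y := Y.toTopCat) (p ⁻¹ᵁ U) (t1 v) := rfl

theorem comm_tD {t1 : W →+ (Oab Y ⟶ Oab Y)} (h : Comm t1) : Comm (tD p U t1) := fun v w => by
  rw [tD_apply, tD_apply, ← gm_comp, ← gm_comp, h]

/-- linearity over `p^# O_X` -/
def PLin (φ : Oab Y ⟶ Oab Y) : Prop :=
  ∀ (U : X.Opens) (V : Y.Opens) (h : V ≤ p ⁻¹ᵁ U) (b : Γ(X, U)) (x : Γ(Y, V)),
    ap φ (op V) (p.appLE U V h b * x : Γ(Y, V)) = (p.appLE U V h b * (show Γ(Y, V) from ap φ (op V) x) : Γ(Y, V))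

variable {p} in
theorem PLin.comm {φ : Oab Y ⟶ Oab Y} (hφ : PLin p φ) (U : X.Opens) (b : Γ(X, U)) :
    gm (Y := Y.toTopCat) (p ⁻¹ᵁ U) φ ≫ mu (p ⁻¹ᵁ U) (p.app U b) =
      mu (p ⁻¹ᵁ U) (p.app U b) ≫ gm (Y := Y.toTopCat) (p ⁻¹ᵁ U) φ := by
  refine hom_ext' fun W x => ?_
  exact (hφ U ((W.unop : Y.Opens) ⊓ p ⁻¹ᵁ U) inf_le_right b x).symm

/-- `O(U)` acts on `W ↦ O(W ∩ p⁻¹U)` -/
noncomputable def rD : Γ(X, U) →+* End (gD (Y := Y.toTopCat) (p ⁻¹ᵁ U) (Oab Y)) :=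
  (muR (p ⁻¹ᵁ U)).comp (p.app U).hom

theorem RC_rD {t1 : W →+ (Oab Y ⟶ Oab Y)} (h : ∀ v, PLin p (t1 v)) : RC (rD p U) (tD p U t1) := fun v b =>
  (h v).comm U b

theorem Tw_th {q : Y ⟶ X} {t : W →+ (Oab X ⟶ Oab X)} {t1 : W →+ (Oab Y ⟶ Oab Y)}
    (hq : Tw (X := X.toTopCat) (Y := Y.toTopCat) q.base (co q) t t1) (h : ∀ v, PLin p (t1 v)) (b : Γ(X, U)) :
    Tw (X := X.toTopCat) (Y := Y.toTopCat) q.base (th (p ⁻¹ᵁ U) q (p.app U b)) t (tD p U t1) := fun v => by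
  rw [th, tD_apply, Category.assoc, ← Functor.map_comp, Category.assoc, ← (h v).comm U b,
    ← Category.assoc (et _ _), et_gm, Category.assoc, Functor.map_comp, ← Category.assoc, hq v, Category.assoc]

end ops

end K504.Star
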