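import Groth.Agent.AbVar.K504.Star

/-!
# Invariant derivations act trivially on hypercohomology: the proof
-/

set_option autoImplicit false
set_option linter.unusedSectionVars false

universe w w' u v

open CategoryTheory CategoryTheory.Limits Opposite TopologicalSpace AlgebraicGeometry

namespace K504.Star2

open K504.Star GD GDMap AltSh AltPb HTN AltBC StarBC AltRho E1Deg KLinDR Groth.Agent.LoccohA.OmEdge
  Groth.Agent.CohtopA.FreeAb GlueAlg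

/-- the data -/
structure SD {k : Type u} [Field k] {X Y : Scheme.{u}} (f : X ⟶ Spec (CommRingCat.of k)) (p : Y ⟶ X) (m : ℕ) where
  t : (Fin m → ℤ) →+ (Oab X ⟶ Oab X)
  ht : Comm t
  hrt : RC (rX f) t
  t1 : (Fin m → ℤ) →+ (Oab Y ⟶ Oab Y)
  ht1 : Comm t1
  hp : ∀ v, PLin p (t1 v)

variable {k : Type u} [Field k] {X Y : Scheme.{u}} {f : X ⟶ Spec (CommRingCat.of k)} {p : Y ⟶ X} {m : ℕ}
  [HasDerivedCategory.{w} (CohTop.Ab X.toTopCat)] [HasDerivedCategory.{w'} (CohTop.Ab Y.toTopCat)] (d : SD f p m) (n : ℤ)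

/-- hypercohomology on `X` -/
abbrev HX : Type w := HTρ (freeAb (Opens.grothendieckTopology X.toTopCat) (⊤ : Opens X.toTopCat)) (ex (CE d.t d.ht))
  (ρx d.ht d.hrt) n

/-- hypercohomology on `Y` -/
abbrev HY : Type w' := HTN (freeAb (Opens.grothendieckTopology Y.toTopCat) (⊤ : Opens Y.toTopCat)) (CE d.t1 d.ht1) n

/-- hypercohomology on `Y` of the sheaf for `U` -/
abbrev HU (U : X.Opens) : Type w' := HTρ (freeAb (Opens.grothendieckTopology Y.toTopCat) (⊤ : Opens Y.toTopCat))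
  (ex (CE (tD p U d.t1) (comm_tD p U d.ht1))) (ρx (comm_tD p U d.ht1) (RC_rD p U d.hp)) n

theorem smul_HU (U : X.Opens) (b : Γ(X, U)) (y : HU d n U) : b • y = HTρ.toHT.symm (Mm (comm_tD p U d.ht1)
    (comm_tD p U d.ht1) _ n (mu (p ⁻¹ᵁ U) (p.app U b)) (fun v => RC_rD p U d.hp v b) (HTρ.toHT y)) := rfl

theorem smul_HX (a : k) (x : HX d n) : a • x = HTρ.toHT.symm (Mm d.ht
    d.ht _ n (rX f a) (fun v => d.hrt v a) (HTρ.toHT x)) := rfl

variable {q : Y ⟶ X} (hq : Tw (X := X.toTopCat) (Y := Y.toTopCat) q.base (co q) d.t d.t1) (U : X.Opens)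

/-- pull-back along `q`, restricted to `U` -/
noncomputable def Fq : HX d n →+ HU d n U :=
  (HTρ.toHT.symm.toAddMonoidHom.comp (Pm (X := X.toTopCat) (Y := Y.toTopCat) q.base d.ht (comm_tD p U d.ht1) n
    (th (p ⁻¹ᵁ U) q (p.app U 1)) (Tw_th p U hq d.hp 1))).comp HTρ.toHT.toAddMonoidHom

theorem mu_one_comp (b : Γ(X, U)) : mu (p ⁻¹ᵁ U) (p.app U 1) ≫ mu (p ⁻¹ᵁ U) (p.app U b) =
    mu (p ⁻¹ᵁ U) (p.app U b) := by
  have h1 : mu (p ⁻¹ᵁ U) (p.app U 1) = 𝟙 _ := by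
    rw [map_one]
    exact map_one (muR (p ⁻¹ᵁ U))
  rw [h1, Category.id_comp]

theorem th_comp (b : Γ(X, U)) : th (p ⁻¹ᵁ U) q (p.app U 1) ≫ (CohTop.push (X := Y.toTopCat) (Y := X.toTopCat)
    q.base).map (mu (p ⁻¹ᵁ U) (p.app U b)) = th (p ⁻¹ᵁ U) q (p.app U b) := by
  rw [th, th, Category.assoc, ← Functor.map_comp, Category.assoc, mu_one_comp]

theorem smul_Fq (b : Γ(X, U)) (x : HX d n) : b • Fq d n hq U x =
    HTρ.toHT.symm (Pm (X := X.toTopCat) (Y := Y.toTopCat) q.base d.ht (comm_tD p U d.ht1) n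
    (th (p ⁻¹ᵁ U) q (p.app U b)) (Tw_th p U hq d.hp b) (HTρ.toHT x)) :=
  congrArg HTρ.toHT.symm (Pm_Mm' (X := X.toTopCat) (Y := Y.toTopCat) q.base d.ht (comm_tD p U d.ht1) n _
    (Tw_th p U hq d.hp 1) (th (p ⁻¹ᵁ U) q (p.app U b)) (comm_tD p U d.ht1) (Tw_th p U hq d.hp b)
    (mu (p ⁻¹ᵁ U) (p.app U b)) (fun v => RC_rD p U d.hp v b) (th_comp U b) (HTρ.toHT x))

theorem th_rX (w : q ≫ f = p ≫ f) (a : k) : th (p ⁻¹ᵁ U) q (p.app U 1) ≫ (CohTop.push (X := Y.toTopCat)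
    (Y := X.toTopCat) q.base).map (mu (p ⁻¹ᵁ U) (p.app U (aX f U a))) = (show Oab X ⟶ Oab X from rX f a) ≫
      th (p ⁻¹ᵁ U) q (p.app U 1) := by
  rw [th_comp]
  refine hom_ext' fun V x => ?_
  induction V using Opposite.rec with | _ V =>
  change p.appLE U (q ⁻¹ᵁ V ⊓ p ⁻¹ᵁ U) inf_le_right (aX f U a) *
      q.appLE V (q ⁻¹ᵁ V ⊓ p ⁻¹ᵁ U) inf_le_left x = p.appLE U (q ⁻¹ᵁ V ⊓ p ⁻¹ᵁ U) inf_le_right 1 *
      q.appLE V (q ⁻¹ᵁ V ⊓ p ⁻¹ᵁ U) inf_le_left (aX f V a * (show Γ(X, V) from x))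
  rw [map_one, one_mul, map_mul, appLE_aX, appLE_aX, w]

theorem Fq_smul (w : q ≫ f = p ≫ f) (a : k) (x : HX d n) : Fq d n hq U (a • x) = aX f U a • Fq d n hq U x :=
  congrArg HTρ.toHT.symm (Pm_Mm (X := X.toTopCat) (Y := Y.toTopCat) q.base d.ht (comm_tD p U d.ht1) n _
    (Tw_th p U hq d.hp 1) (th (p ⁻¹ᵁ U) q (p.app U 1)) d.ht (comm_tD p U d.ht1) (Tw_th p U hq d.hp 1)
    (rX f a) (fun v => d.hrt v a)
    (mu (p ⁻¹ᵁ U) (p.app U (aX f U a))) (fun v => RC_rD p U d.hp v (aX f U a)) (th_rX U w a) (HTρ.toHT x)).symm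

theorem isBC [QuasiCompact f] [QuasiSeparated f] [IsSeparated f] (H : IsPullback q p f f) (hU : IsAffineOpen U)
    [i1 : Algebra k Γ(X, U)] (hb : algebraMap k Γ(X, U) = aX f U) : IsBC k (R := Γ(X, U)) (Fq d n hq U) := by
  intro ι β
  have h1 := BC_th H hU hb β d.ht (comm_tD p U d.ht1) (fun i => Tw_th p U hq d.hp (β i)) n
  have h2 : (fun x : ι →₀ HX d n => x.sum fun i h => β i • Fq d n hq U h) =
      Phi (CohTop.pull (X := Y.toTopCat) (Y := X.toTopCat) q.base)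
        (alp (X := X.toTopCat) (Y := Y.toTopCat) q.base (⊤ : Opens X.toTopCat))
        (fun i => CEpb (X := X.toTopCat) (Y := Y.toTopCat) q.base (th (p ⁻¹ᵁ U) q (p.app U (β i))) d.ht
          (comm_tD p U d.ht1) (Tw_th p U hq d.hp (β i))) n := by
    funext x
    refine Eq.trans (Finset.sum_congr rfl fun i _ => smul_Fq d n hq U (β i) (x i)) ?_
    exact (Phi_apply (CohTop.pull (X := Y.toTopCat) (Y := X.toTopCat) q.base)
        (alp (X := X.toTopCat) (Y := Y.toTopCat) q.base (⊤ : Opens X.toTopCat))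
        (fun i => CEpb (X := X.toTopCat) (Y := Y.toTopCat) q.base (th (p ⁻¹ᵁ U) q (p.app U (β i))) d.ht
          (comm_tD p U d.ht1) (Tw_th p U hq d.hp (β i))) n x).symm
  rw [h2]
  exact h1

end K504.Star2
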