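import Groth.Agent.AbVar.K504.Star2

/-!
# Invariant derivations act trivially on hypercohomology: the end of the proof
-/

set_option autoImplicit false
set_option linter.unusedSectionVars false

universe w w' u v

open CategoryTheory CategoryTheory.Limits Opposite TopologicalSpace AlgebraicGeometry

namespace K504.Star3

open K504.Star K504.Star2 GD GDMap AltSh AltPb HTN AltBC StarBC AltRho E1Deg KLinDR Groth.Agent.LoccohA.OmEdge
  Groth.Agent.CohtopA.FreeAb GlueAlg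

variable {k : Type u} [Field k] {X Y : Scheme.{u}} {f : X ⟶ Spec (CommRingCat.of k)} {p : Y ⟶ X} {m : ℕ}
  [HasDerivedCategory.{w} (CohTop.Ab X.toTopCat)] [HasDerivedCategory.{w'} (CohTop.Ab Y.toTopCat)] (d : SD f p m) (n : ℤ)

/-- restriction to `U` -/
noncomputable def R (U : X.Opens) : HY d n →+ HU d n U :=
  HTρ.toHT.symm.toAddMonoidHom.comp (Mm d.ht1 (comm_tD p U d.ht1) _ n (et (Y := Y.toTopCat) (p ⁻¹ᵁ U) (Oab Y))
    (fun v => (et_gm (Y := Y.toTopCat) (p ⁻¹ᵁ U) (d.t1 v)).symm))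

section q

variable {q : Y ⟶ X} (hq : Tw (X := X.toTopCat) (Y := Y.toTopCat) q.base (co q) d.t d.t1) (U : X.Opens)

/-- pull-back along `q` -/
noncomputable def Aq : HX d n →+ HY d n :=
  (Pm (X := X.toTopCat) (Y := Y.toTopCat) q.base d.ht d.ht1 n (co q) hq).comp HTρ.toHT.toAddMonoidHom

theorem th_one : co q ≫ (CohTop.push (X := Y.toTopCat) (Y := X.toTopCat) q.base).map
    (et (Y := Y.toTopCat) (p ⁻¹ᵁ U) (Oab Y)) = th (p ⁻¹ᵁ U) q (p.app U 1) := by
  have h1 : mu (p ⁻¹ᵁ U) (p.app U 1) = 𝟙 _ := by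
    rw [map_one]
    exact map_one (muR (p ⁻¹ᵁ U))
  rw [th, h1, Category.comp_id]

theorem R_Aq (x : HX d n) : R d n U (Aq d n hq x) = Fq d n hq U x :=
  congrArg HTρ.toHT.symm (Pm_Mm' (X := X.toTopCat) (Y := Y.toTopCat) q.base d.ht d.ht1 n (co q) hq
    (th (p ⁻¹ᵁ U) q (p.app U 1)) (comm_tD p U d.ht1) (Tw_th p U hq d.hp 1)
    (et (Y := Y.toTopCat) (p ⁻¹ᵁ U) (Oab Y)) (fun v => (et_gm (Y := Y.toTopCat) (p ⁻¹ᵁ U) (d.t1 v)).symm)
    (th_one U) (HTρ.toHT x))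

end q

/-- restriction from `U` to `U'` -/
noncomputable def rr {U U' : X.Opens} (h : U' ≤ U) : HU d n U →+ HU d n U' :=
  (HTρ.toHT.symm.toAddMonoidHom.comp (Mm (comm_tD p U d.ht1) (comm_tD p U' d.ht1) _ n
    (rh (Y := Y.toTopCat) (p.preimage_mono h) (Oab Y))
    (fun v => rh_gm (Y := Y.toTopCat) (p.preimage_mono h) (d.t1 v)))).comp HTρ.toHT.toAddMonoidHom

theorem app_res {U U' : X.Opens} (h : U' ≤ U) (b : Γ(X, U)) :
    Y.presheaf.map (homOfLE (p.preimage_mono h)).op (p.app U b) = p.app U' (X.presheaf.map (homOfLE h).op b) :=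
  (ConcreteCategory.congr_hom (p.naturality (homOfLE h).op) b).symm

theorem rr_smul {U U' : X.Opens} (h : U' ≤ U) (b : Γ(X, U)) (y : HU d n U) :
    rr d n h (b • y) = (X.presheaf.map (homOfLE h).op b : Γ(X, U')) • rr d n h y := by
  refine congrArg HTρ.toHT.symm (Mm_square (comm_tD p U d.ht1) (comm_tD p U d.ht1) (comm_tD p U' d.ht1) _ n
    (comm_tD p U' d.ht1) (mu (p ⁻¹ᵁ U) (p.app U b)) (fun v => RC_rD p U d.hp v b)
    (rh (Y := Y.toTopCat) (p.preimage_mono h) (Oab Y))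
    (fun v => rh_gm (Y := Y.toTopCat) (p.preimage_mono h) (d.t1 v))
    (rh (Y := Y.toTopCat) (p.preimage_mono h) (Oab Y))
    (fun v => rh_gm (Y := Y.toTopCat) (p.preimage_mono h) (d.t1 v))
    (mu (p ⁻¹ᵁ U') (p.app U' (X.presheaf.map (homOfLE h).op b))) (fun v => RC_rD p U' d.hp v _) ?_ (HTρ.toHT y))
  rw [← app_res h b]
  exact mu_rh (p.preimage_mono h) (p.app U b)

theorem rr_R {U U' : X.Opens} (h : U' ≤ U) (y : HY d n) : rr d n h (R d n U y) = R d n U' y :=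
  congrArg HTρ.toHT.symm (Mm_comp d.ht1 (comm_tD p U d.ht1) (comm_tD p U' d.ht1) _ n
    (et (Y := Y.toTopCat) (p ⁻¹ᵁ U) (Oab Y)) (fun v => (et_gm (Y := Y.toTopCat) (p ⁻¹ᵁ U) (d.t1 v)).symm)
    (rh (Y := Y.toTopCat) (p.preimage_mono h) (Oab Y))
    (fun v => rh_gm (Y := Y.toTopCat) (p.preimage_mono h) (d.t1 v))
    (et (Y := Y.toTopCat) (p ⁻¹ᵁ U') (Oab Y)) (fun v => (et_gm (Y := Y.toTopCat) (p ⁻¹ᵁ U') (d.t1 v)).symm)
    (et_rh (Y := Y.toTopCat) (F := Oab Y) (p.preimage_mono h)) y)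

theorem rr_Fq {q : Y ⟶ X} (hq : Tw (X := X.toTopCat) (Y := Y.toTopCat) q.base (co q) d.t d.t1) {U U' : X.Opens}
    (h : U' ≤ U) (x : HX d n) : rr d n h (Fq d n hq U x) = Fq d n hq U' x := by
  rw [← R_Aq, ← R_Aq, rr_R]

section glue

variable {q : Y ⟶ X} (hq : Tw (X := X.toTopCat) (Y := Y.toTopCat) q.base (co q) d.t d.t1)
  [QuasiCompact f] [QuasiSeparated f] [IsSeparated f] (H : IsPullback q p f f) [IsIntegral X]
  (hΓ : Function.Surjective (aX f (⊤ : X.Opens)))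

/-- affine nonempty opens -/
def AffN (X : Scheme.{u}) : Type u := {U : X.Opens // IsAffineOpen U ∧ (U : Set X).Nonempty}

theorem inf_affN {X : Scheme.{u}} [IsIntegral X] (f : X ⟶ Spec (CommRingCat.of k)) [IsSeparated f] (V V' : AffN X) : IsAffineOpen (V.1 ⊓ V'.1) ∧ ((V.1 ⊓ V'.1 : X.Opens) : Set X).Nonempty := by
  refine ⟨?_, ?_⟩
  · have h1 := isAffineOpen_inf (𝟙 X) f V'.2.1 V.2.1
    exact h1
  · exact nonempty_preirreducible_inter V.1.2 V'.1.2 V.2.2 V'.2.2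

include H hΓ in
/-- **Rigidity**: every class on `Y` is locally on the base the pull-back of a class on `X`. -/
theorem exists_eq (y : HY d n) (U : AffN X) : ∃ x : HX d n, Fq d n hq U.1 x = R d n U.1 y := by
  classical
  let i1 : ∀ U : X.Opens, Algebra k Γ(X, U) := fun U => (aX f U).toAlgebra
  have hbc : ∀ U : AffN X, IsBC k (R := Γ(X, U.1)) (Fq d n hq U.1) := fun U =>
    isBC d n hq U.1 H U.2.1 rfl
  have hsm : ∀ (U : X.Opens) (a : k) (x : HX d n), Fq d n hq U (a • x) = algebraMap k Γ(X, U) a • Fq d n hq U x :=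
    fun U a x => Fq_smul d n hq U H.w a x
  have hnt : ∀ U : AffN X, Nontrivial Γ(X, U.1) := fun U => by
    have : Nonempty U.1 := ⟨⟨U.2.2.some, U.2.2.some_mem⟩⟩
    infer_instance
  have := hnt U
  refine mem_range (k := k) (R := Γ(X, U.1)) (Fq d n hq U.1) (hbc U) (R d n U.1 y) ?_ (hsm U.1)
  intro ξ Ξ hΞ1 hΞ2
  choose E hE1 hE2 using fun U : AffN X => exists_ext (k := k) (R := Γ(X, U.1)) (Fq d n hq U.1) (hsm U.1) (hbc U) ξ
  have hres : ∀ (V V' : AffN X) (h : V'.1 ≤ V.1) (z : HU d n V.1),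
      X.presheaf.map (homOfLE h).op (E V z) = E V' (rr d n h z) := fun V V' h z => by
    refine unique (k := k) (R := Γ(X, V.1)) (Fq d n hq V.1) (hbc V)
      (((X.presheaf.map (homOfLE h).op).hom : Γ(X, V.1) →+ Γ(X, V'.1)).comp (E V)) ((E V').comp (rr d n h))
      (fun r z => X.presheaf.map (homOfLE h).op r * z) (fun r z => ?_) (fun r z => ?_) (fun x => ?_) z
    · change X.presheaf.map (homOfLE h).op (E V (r • z)) = _
      rw [hE1, map_mul]
      rfl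
    · change E V' (rr d n h (r • z)) = _
      rw [rr_smul, hE1]
      rfl
    · change X.presheaf.map (homOfLE h).op (E V (Fq d n hq V.1 x)) = E V' (rr d n h (Fq d n hq V.1 x))
      rw [hE2, rr_Fq, hE2]
      exact aX_res f h _
  obtain ⟨s, hs, -⟩ := X.sheaf.existsUnique_gluing' (fun V : AffN X => V.1) ⊤ (fun V => homOfLE le_top) (by
    intro x _
    obtain ⟨_, ⟨V, hV, rfl⟩, hxV, -⟩ := X.isBasis_affineOpens.exists_subset_of_mem_open (Set.mem_univ x) isOpen_univ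
    exact Opens.mem_iSup.2 ⟨⟨V, hV, ⟨x, hxV⟩⟩, hxV⟩) (fun V => E V (R d n V.1 y)) (by
    intro V V'
    let V'' : AffN X := ⟨V.1 ⊓ V'.1, inf_affN f V V'⟩
    have e1 := hres V V'' inf_le_left (R d n V.1 y)
    have e2 := hres V' V'' inf_le_right (R d n V'.1 y)
    rw [rr_R] at e1 e2
    exact e1.trans e2.symm)
  obtain ⟨c, hc⟩ := hΓ s
  refine ⟨c, ?_⟩
  have h1 : X.presheaf.map (homOfLE (le_top : U.1 ≤ ⊤)).op s = E U (R d n U.1 y) := hs U
  rw [← hc] at h1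
  have h2 : Ξ (R d n U.1 y) = E U (R d n U.1 y) :=
    unique (k := k) (R := Γ(X, U.1)) (Fq d n hq U.1) (hbc U) Ξ (E U) (fun r z => r * z) hΞ1 (hE1 U)
      (fun x => (hΞ2 x).trans (hE2 U x).symm) _
  rw [h2, ← h1]
  exact (aX_res f le_top c).symm

end glue

end K504.Star3
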