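import Groth.Agent.AbVar.K504.Star3

/-!
# Invariant derivations act trivially on hypercohomology: the theorem
-/

set_option autoImplicit false
set_option linter.unusedSectionVars false

universe w w' u v

open CategoryTheory CategoryTheory.Limits Opposite TopologicalSpace AlgebraicGeometry

namespace K504.Star4

open K504.Star K504.Star2 K504.Star3 GD GDMap AltSh AltPb HTN AltBC StarBC AltRho E1Deg KLinDR
  Groth.Agent.LoccohA.OmEdge Groth.Agent.CohtopA.FreeAb GlueAlg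

variable {k : Type u} [Field k] {X Y : Scheme.{u}} {f : X ⟶ Spec (CommRingCat.of k)} {p : Y ⟶ X} {m : ℕ}
  [HasDerivedCategory.{w} (CohTop.Ab X.toTopCat)] [HasDerivedCategory.{w'} (CohTop.Ab Y.toTopCat)] (d : SD f p m) (n : ℤ)

section star

variable {p1 μ : Y ⟶ X} (h1 : Tw (X := X.toTopCat) (Y := Y.toTopCat) p1.base (co p1) d.t d.t1)
  (hμ : Tw (X := X.toTopCat) (Y := Y.toTopCat) μ.base (co μ) d.t d.t1)
  [QuasiCompact f] [QuasiSeparated f] [IsSeparated f] (H1 : IsPullback p1 p f f) (Hμ : IsPullback μ p f f) [IsIntegral X]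
  (hΓ : Function.Surjective (aX f (⊤ : X.Opens)))
  (s : Oab X ⟶ Oab X) (hs : ∀ v, d.t v ≫ s = s ≫ d.t v) (s2 : Oab Y ⟶ Oab Y) (hs2 : ∀ v, d.t1 v ≫ s2 = s2 ≫ d.t1 v)
  (hp1 : co p1 ≫ (CohTop.push (X := Y.toTopCat) (Y := X.toTopCat) p1.base).map s2 = 0)
  (hsμ : co μ ≫ (CohTop.push (X := Y.toTopCat) (Y := X.toTopCat) μ.base).map s2 = s ≫ co μ)

/-- `s2` on the sheaf for `U` -/
noncomputable def sU (U : X.Opens) : HU d n U →+ HU d n U :=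
  (HTρ.toHT.symm.toAddMonoidHom.comp (Mm (comm_tD p U d.ht1) (comm_tD p U d.ht1) _ n
    (gm (Y := Y.toTopCat) (p ⁻¹ᵁ U) s2) (fun v => by
      rw [tD_apply, ← gm_comp, ← gm_comp, hs2]))).comp HTρ.toHT.toAddMonoidHom

theorem sU_R (U : X.Opens) (y : HY d n) : sU d n s2 hs2 U (R d n U y) =
    R d n U (Mm d.ht1 d.ht1 _ n s2 hs2 y) :=
  congrArg HTρ.toHT.symm (Mm_square d.ht1 (comm_tD p U d.ht1) (comm_tD p U d.ht1) _ n
    d.ht1 (et (Y := Y.toTopCat) (p ⁻¹ᵁ U) (Oab Y))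
    (fun v => (et_gm (Y := Y.toTopCat) (p ⁻¹ᵁ U) (d.t1 v)).symm)
    (gm (Y := Y.toTopCat) (p ⁻¹ᵁ U) s2) (fun v => by rw [tD_apply, ← gm_comp, ← gm_comp, hs2])
    s2 hs2 (et (Y := Y.toTopCat) (p ⁻¹ᵁ U) (Oab Y))
    (fun v => (et_gm (Y := Y.toTopCat) (p ⁻¹ᵁ U) (d.t1 v)).symm)
    (et_gm (Y := Y.toTopCat) (p ⁻¹ᵁ U) s2) y)

include h1 hμ H1 Hμ hΓ hs2 hp1 hsμ in
/-- **Invariant derivations act as zero on hypercohomology.** -/
theorem star (x : HX d n) : Mm d.ht d.ht (freeAb (Opens.grothendieckTopology X.toTopCat) (⊤ : Opens X.toTopCat)) n s hs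
    (HTρ.toHT x) = 0 := by
  obtain ⟨_, ⟨V, hV, rfl⟩, hxV, -⟩ := X.isBasis_affineOpens.exists_subset_of_mem_open
    (Set.mem_univ (Classical.arbitrary X)) isOpen_univ
  let U : AffN X := ⟨V, hV, ⟨_, hxV⟩⟩
  obtain ⟨x₀, hx₀⟩ := exists_eq d n h1 H1 hΓ (Aq d n hμ x) U
  let sx : HX d n := HTρ.toHT.symm (Mm d.ht d.ht _ n s hs (HTρ.toHT x))
  have e1 : Mm d.ht1 d.ht1 _ n s2 hs2 (Aq d n hμ x) = Aq d n hμ sx :=
    Pm_Mm (X := X.toTopCat) (Y := Y.toTopCat) μ.base d.ht d.ht1 n (co μ) hμ (co μ) d.ht d.ht1 hμ s hs s2 hs2 hsμ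
      (HTρ.toHT x)
  have e2 : Mm d.ht1 d.ht1 _ n s2 hs2 (Aq d n h1 x₀) = 0 := by
    have h0 : ∀ v, d.t v ≫ (0 : Oab X ⟶ Oab X) = 0 ≫ d.t v := fun v => by rw [comp_zero, zero_comp]
    have e3 := Pm_Mm (X := X.toTopCat) (Y := Y.toTopCat) p1.base d.ht d.ht1 n (co p1) h1 (co p1) d.ht d.ht1 h1 0 h0
      s2 hs2 (by rw [hp1, zero_comp]) (HTρ.toHT x₀)
    refine e3.trans ?_
    rw [Mm_zero]
    exact _root_.map_zero _
  have e4 : Fq d n hμ U.1 sx = 0 :=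
    (R_Aq d n hμ U.1 sx).symm.trans ((congrArg (R d n U.1) e1.symm).trans
      ((sU_R d n s2 hs2 U.1 _).symm.trans ((congrArg (sU d n s2 hs2 U.1) (hx₀.symm.trans (R_Aq d n h1 U.1 x₀).symm)).trans
        ((sU_R d n s2 hs2 U.1 _).trans ((congrArg (R d n U.1) e2).trans (_root_.map_zero _))))))
  let i1 : Algebra k Γ(X, U.1) := (aX f U.1).toAlgebra
  have hnt : Nontrivial Γ(X, U.1) := by
    have : Nonempty U.1 := ⟨⟨U.2.2.some, U.2.2.some_mem⟩⟩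
    infer_instance
  exact GlueAlg.injective (k := k) (R := Γ(X, U.1)) (Fq d n hμ U.1) (isBC d n hμ U.1 Hμ U.2.1 rfl) sx e4

end star

end K504.Star4
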