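import Groth.Agent.AbVar.K504.GDMap
import Groth.Agent.AbVar.K504.AltBC
import Groth.Agent.LoccohA.OmPoly

/-!
# Base change along `q : Y ⟶ X` for the sheaf `W ↦ O(W ∩ p₂⁻¹ U)`
-/

set_option autoImplicit false

universe w w' u v

open CategoryTheory CategoryTheory.Limits Opposite TopologicalSpace AlgebraicGeometry

namespace K504.StarBC

open GD GDMap AltSh AltPb HTN AltBC Groth.Agent.LoccohA.OmBase Groth.Agent.LoccohA.OmBC Groth.Agent.LoccohA.OmEdge
  Groth.Agent.LoccohA.OmMVCmp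

section phi

variable {X Y : Scheme.{u}} (p : Y ⟶ X)

/-- variant of `OmBC.bijective_Phi` -/
theorem bijective_Phi' [CompactSpace X] [QuasiSeparatedSpace X] (F : X.Modules)
    (hF : Coh.IsQCoh F) (G : CohTop.Ab Y.toTopCat)
    (hG : ∀ V : X.Opens, IsAffineOpen V → ∀ n, Subsingleton (Hc (X := Y.toTopCat) G (n + 1) (p ⁻¹ᵁ V))) {ι : Type*}
    (θ : ι → (Coh.toAb F ⟶ (Coh.pushAb p).obj G))
    (H : ∀ V : X.Opens, IsAffineOpen V → Function.Bijective
      fun x : ι →₀ (Coh.toAb F).obj.obj (op V) => x.sum fun i m => (θ i).hom.app (op V) m) (n : ℕ) :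
    Function.Bijective (Phi (X := X.toTopCat) (Y := Y.toTopCat) p.base θ n (⊤ : Opens X.toTopCat)) := by
  have key : ∀ n, Function.Bijective (Phi (X := X.toTopCat) (Y := Y.toTopCat) p.base θ n (⊤ : X.Opens)) := by
    refine Groth.Agent.CohqA.FBCCx.induction_le (⊤ : X.Opens) isQuasiSeparated_univ
      (fun V => ∀ n, Function.Bijective (Phi (X := X.toTopCat) (Y := Y.toTopCat) p.base θ n V)) ?_ ?_ ⊤ le_rfl
      isCompact_univ
    · intro V _ hV n
      cases n with
      | zero =>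
        have h1 := h0_Phi (X := X.toTopCat) (Y := Y.toTopCat) p.base θ V
        have h2 : Function.Bijective (h0 (X := Y.toTopCat) G _ ∘
            Phi (X := X.toTopCat) (Y := Y.toTopCat) p.base θ 0 V) := by
          have h3 : (h0 (X := Y.toTopCat) G _ ∘ Phi (X := X.toTopCat) (Y := Y.toTopCat) p.base θ 0 V) =
              (fun x : ι →₀ (Coh.toAb F).obj.obj (op V) => x.sum fun i m => (θ i).hom.app (op V) m) ∘
                (mr ι (h0 (X := X.toTopCat) (Coh.toAb F) V).toAddMonoidHom) := funext h1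
          rw [h3]
          refine (H V hV).comp ?_
          exact (Finsupp.mapRange.addEquiv (h0 (X := X.toTopCat) (Coh.toAb F) V)).bijective
        exact (Function.Bijective.of_comp_iff' (h0 (X := Y.toTopCat) G _).bijective _).1 h2
      | succ n =>
        have i1 := subsingleton_affine F hF hV n
        have i2 : Subsingleton (Hc (X := Y.toTopCat) G (n + 1) ((Opens.map p.base).obj V)) := hG V hV n
        exact ⟨fun a b _ => Subsingleton.elim _ _, fun b => ⟨0, Subsingleton.elim _ _⟩⟩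
    · intro U V _ _ h₁ h₂ h₃
      exact bijective_sup (X := X.toTopCat) (Y := Y.toTopCat) p.base θ U V h₁ h₂ h₃
  exact key n

end phi

section sections

variable {k : Type u} [CommRing k]

/-- scalars on sections -/
noncomputable def aX {X : Scheme.{u}} (f : X ⟶ Spec (CommRingCat.of k)) (V : X.Opens) : k →+* Γ(X, V) :=
  (X.presheaf.map (homOfLE le_top : V ⟶ ⊤).op).hom.comp
    (f.appTop.hom.comp (Scheme.ΓSpecIso (CommRingCat.of k)).inv.hom)

theorem aX_res {X : Scheme.{u}} (f : X ⟶ Spec (CommRingCat.of k)) {V W : X.Opens} (h : W ≤ V) (a : k) :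
    X.presheaf.map (homOfLE h).op (aX f V a) = aX f W a :=
  res_res_apply (Y := X) (le_top : V ≤ ⊤) (le_top : W ≤ ⊤) h _

variable {X Y T : Scheme.{u}} {q : Y ⟶ X} {p : Y ⟶ T} {f : X ⟶ Spec (CommRingCat.of k)}
  {f' : T ⟶ Spec (CommRingCat.of k)} (H : IsPullback q p f f')

include H in
theorem isPushout {V : X.Opens} (hV : IsAffineOpen V) {U : T.Opens} (hU : IsAffineOpen U) {W : Y.Opens}
    (hW : W = q ⁻¹ᵁ V ⊓ p ⁻¹ᵁ U) :
    IsPushout (CommRingCat.ofHom (aX f V)) (CommRingCat.ofHom (aX f' U)) (q.appLE V W (by simp [hW]))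
      (p.appLE U W (by simp [hW])) := by
  have h1 := (isIso_pushoutSection_iff H (US := ⊤) (UT := U) (UX := V) (UY := W)
    le_top le_top hW).mp (isIso_pushoutSection_of_isAffineOpen H le_top le_top hW
      (isAffineOpen_top _) hU hV)
  refine IsPushout.of_iso h1 (Scheme.ΓSpecIso _) (Iso.refl _) (Iso.refl _) (Iso.refl _)
    ?_ ?_ ?_ ?_
  · rw [Iso.refl_hom, Category.comp_id]
    ext x
    change _ = X.presheaf.map (homOfLE le_top : V ⟶ ⊤).op (f.appTop
      ((Scheme.ΓSpecIso (CommRingCat.of k)).inv ((Scheme.ΓSpecIso (CommRingCat.of k)).hom x)))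
    rw [Iso.hom_inv_id_apply]
    rfl
  · rw [Iso.refl_hom, Category.comp_id]
    ext x
    change _ = T.presheaf.map (homOfLE le_top : U ⟶ ⊤).op (f'.appTop
      ((Scheme.ΓSpecIso (CommRingCat.of k)).inv ((Scheme.ΓSpecIso (CommRingCat.of k)).hom x)))
    rw [Iso.hom_inv_id_apply]
    rfl
  · rw [Iso.refl_hom, Iso.refl_hom, Category.comp_id, Category.id_comp]
  · rw [Iso.refl_hom, Iso.refl_hom, Category.comp_id, Category.id_comp]

theorem core₀ {k A B C : Type*} [CommRing k] [CommRing A] [CommRing B] [CommRing C] [Algebra k A] [Algebra A C]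
    [Algebra B C] [Algebra k B] [Algebra k C] [IsScalarTower k A C] [IsScalarTower k B C] (h2 : Algebra.IsPushout k A B C)
    {ι : Type*} (β : Module.Basis ι k B) :
    Function.Bijective (fun x : ι →₀ A => x.sum fun i m => algebraMap B C (β i) * algebraMap A C m) := by
  have h3 := h2.out
  have h4 : ∀ i, h3.basis β i = algebraMap B C (β i) := fun i => by
    rw [IsBaseChange.basis_apply]
    rfl
  have h5 : (fun x : ι →₀ A => x.sum fun i m => algebraMap B C (β i) * algebraMap A C m) =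
      (h3.basis β).repr.symm := by
    funext x
    rw [Module.Basis.repr_symm_apply, Finsupp.linearCombination_apply]
    refine Finsupp.sum_congr fun i _ => ?_
    rw [h4, Algebra.smul_def, mul_comm]
  rw [h5]
  exact (h3.basis β).repr.symm.bijective

theorem core' {k A B C : Type u} [CommRing k] [CommRing A] [CommRing B] [CommRing C] (a : k →+* A) (b : k →+* B)
    (c : A →+* C) (d : B →+* C)
    (h : IsPushout (CommRingCat.ofHom a) (CommRingCat.ofHom b) (CommRingCat.ofHom c) (CommRingCat.ofHom d))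
    {ι : Type*} [i0 : Algebra k B] (hb : algebraMap k B = b) (β : Module.Basis ι k B) :
    Function.Bijective (fun x : ι →₀ A => x.sum fun i m => d (β i) * c m) := by
  let i1 : Algebra k A := a.toAlgebra
  let i2 : Algebra A C := c.toAlgebra
  let i3 : Algebra B C := d.toAlgebra
  let i4 : Algebra k C := (c.comp a).toAlgebra
  have hw : ∀ x, c (a x) = d (b x) := fun x => congr($(h.w) x)
  have i5 : IsScalarTower k A C := IsScalarTower.of_algebraMap_eq (fun _ => rfl)
  have i6 : IsScalarTower k B C := IsScalarTower.of_algebraMap_eq (fun x => (hw x).trans (by rw [hb]; rfl))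
  have h2 : Algebra.IsPushout k A B C := by
    rw [← hb] at h
    exact CommRingCat.isPushout_iff_isPushout.mp h
  exact core₀ h2 β

include H in
theorem bijective_sections {V : X.Opens} (hV : IsAffineOpen V) {U : T.Opens} (hU : IsAffineOpen U)
    {ι : Type*} [Algebra k Γ(T, U)] (hb : algebraMap k Γ(T, U) = aX f' U) (β : Module.Basis ι k Γ(T, U)) :
    Function.Bijective (fun x : ι →₀ Γ(X, V) => x.sum fun i m =>
      ap (th (p ⁻¹ᵁ U) q (p.app U (β i))) (op V) m) :=
  core' (aX f V) (aX f' U) (q.appLE V (q ⁻¹ᵁ V ⊓ p ⁻¹ᵁ U) inf_le_left).hom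
    (p.appLE U (q ⁻¹ᵁ V ⊓ p ⁻¹ᵁ U) inf_le_right).hom (isPushout H hV hU rfl) hb β

end sections

section aff

theorem isAffineOpen_inf {Y T S : Scheme.{u}} (p : Y ⟶ T) (f' : T ⟶ S) [IsAffine S] [IsSeparated f'] {U : T.Opens}
    (hU : IsAffineOpen U) {W : Y.Opens} (hW : IsAffineOpen W) : IsAffineOpen (W ⊓ p ⁻¹ᵁ U) := by
  have i1 : IsAffine W.toScheme := hW
  have i2 : IsAffineHom (W.ι ≫ p) := IsAffineHom.of_comp (W.ι ≫ p) f'
  have h1 : IsAffineOpen ((W.ι ≫ p) ⁻¹ᵁ U) := hU.preimage _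
  have h2 := h1.image_of_isOpenImmersion W.ι
  have h3 : W.ι ''ᵁ ((W.ι ≫ p) ⁻¹ᵁ U) = W ⊓ p ⁻¹ᵁ U := by
    ext x
    constructor
    · rintro ⟨y, hy, rfl⟩
      exact ⟨y.2, hy⟩
    · rintro ⟨h1, h2⟩
      exact ⟨⟨x, h1⟩, h2, rfl⟩
  rwa [h3] at h2

theorem isAffineOpen_prod {X Y T S : Scheme.{u}} {q : Y ⟶ X} {p : Y ⟶ T} {f : X ⟶ S} [IsAffine S]
    {f' : T ⟶ S} (H : IsPullback q p f f') {V : X.Opens} (hV : IsAffineOpen V) {U : T.Opens} (hU : IsAffineOpen U) :
    IsAffineOpen (q ⁻¹ᵁ V ⊓ p ⁻¹ᵁ U) := by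
  have i1 : IsAffine V.toScheme := hV
  have i2 : IsAffine U.toScheme := hU
  have i3 : IsAffine (⊤ : S.Opens).toScheme := isAffineOpen_top S
  exact .of_isIso (Scheme.Hom.isPullback_resLE H (US := ⊤) (UT := U) (UX := V) le_top le_top rfl).isoPullback.hom

end aff

section bc

variable {k : Type u} [Field k] {X Y T : Scheme.{u}} {q : Y ⟶ X} {p : Y ⟶ T} {f : X ⟶ Spec (CommRingCat.of k)}
  {f' : T ⟶ Spec (CommRingCat.of k)} (H : IsPullback q p f f') [QuasiCompact f] [QuasiSeparated f] [IsSeparated f']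
  {U : T.Opens} (hU : IsAffineOpen U)
  {ι : Type v} [Algebra k Γ(T, U)] (hb : algebraMap k Γ(T, U) = aX f' U) (β : Module.Basis ι k Γ(T, U))

include H hU hb in
theorem bijective_Phi_th (n : ℕ) : Function.Bijective (Phi (X := X.toTopCat) (Y := Y.toTopCat) q.base
    (fun i => th (p ⁻¹ᵁ U) q (p.app U (β i))) n (⊤ : Opens X.toTopCat)) := by
  have i1 : CompactSpace X := QuasiCompact.compactSpace_of_compactSpace f
  have i2 : QuasiSeparatedSpace X := quasiSeparatedSpace_of_quasiSeparated f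
  refine bijective_Phi' q (Coh.structureModule X) (Groth.Agent.CurvesC.UnitCoh.isQCoh_unit X) _ (fun V hV n => ?_) _
    (fun V hV => ?_) n
  · exact subsingleton_Hc_gD (p ⁻¹ᵁ U) (fun W hW => isAffineOpen_inf p f' hU hW) (q ⁻¹ᵁ V)
      (isAffineOpen_prod H hV hU) n
  · exact bijective_sections H hV hU hb β

variable [HasDerivedCategory.{w} (CohTop.Ab X.toTopCat)] [HasDerivedCategory.{w'} (CohTop.Ab Y.toTopCat)]
  {m : ℕ} {t : (Fin m → ℤ) →+ (Oab X ⟶ Oab X)} (ht : Comm t)
  {t' : (Fin m → ℤ) →+ (gD (Y := Y.toTopCat) (p ⁻¹ᵁ U) (Oab Y) ⟶ gD (Y := Y.toTopCat) (p ⁻¹ᵁ U) (Oab Y))}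
  (ht' : Comm t') (hθ : ∀ i, Tw q.base (th (p ⁻¹ᵁ U) q (p.app U (β i))) t t')

include H hU hb in
/-- **Base change.** -/
theorem BC_th : BC (CohTop.pull (X := Y.toTopCat) (Y := X.toTopCat) q.base)
    (alp (X := X.toTopCat) (Y := Y.toTopCat) q.base (⊤ : Opens X.toTopCat))
    (fun i => CEpb (X := X.toTopCat) (Y := Y.toTopCat) q.base (th (p ⁻¹ᵁ U) q (p.app U (β i))) ht ht' (hθ i)) :=
  BC_CE (X := X.toTopCat) (Y := Y.toTopCat) q.base _ ⊤ m (bijective_Phi_th H hU hb β) ht ht' hθ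

end bc

end K504.StarBC
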