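import Groth.Agent.Ega3A.TFunBasic
import Mathlib.RingTheory.Regular.RegularSequence
import Mathlib.RingTheory.Length

/-!
# `T^j(M) = H^j(P ⊗ M)` and weakly regular sequences

Acyclicity, propagation of annihilators and the count of lengths along a regular sequence.
-/

set_option autoImplicit false
universe u

open CategoryTheory CategoryTheory.Limits RingTheory.Sequence
open scoped Pointwise

namespace K504.TAlg

open Groth.Agent.Ega3A.TFunBasic

variable {A : Type u} [CommRing A] (P : ChainComplex (ModuleCat.{u} A) ℤ)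

/-- `T^j(M) = H^j(P ⊗ M)`. -/
noncomputable abbrev H (j : ℤ) : ModuleCat.{u} A ⥤ ModuleCat.{u} A := CohIII.TFun P (-j)

theorem map_smul' (j : ℤ) (M : ModuleCat.{u} A) (a : A) : (H P j).map (a • 𝟙 M) = a • 𝟙 _ := by
  rw [Functor.map_smul, CategoryTheory.Functor.map_id]

/-- `0 → M → M → M/rM → 0`. -/
noncomputable abbrev mulS (M : ModuleCat.{u} A) (r : A) : ShortComplex (ModuleCat.{u} A) :=
  ShortComplex.mk (r • 𝟙 M) (ModuleCat.ofHom (Submodule.mkQ (r • (⊤ : Submodule A M)))) (by
    ext x
    change Submodule.mkQ (r • (⊤ : Submodule A M)) (r • x) = 0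
    rw [Submodule.mkQ_apply, Submodule.Quotient.mk_eq_zero]
    exact Submodule.smul_mem_pointwise_smul _ _ _ trivial)

theorem mulS_X₃ (M : ModuleCat.{u} A) (r : A) : (mulS M r).X₃ = ModuleCat.of A (QuotSMulTop r M) := rfl

theorem mulS_shortExact (M : ModuleCat.{u} A) (r : A) (hr : IsSMulRegular M r) : (mulS M r).ShortExact where
  exact := by
    refine (ShortComplex.ShortExact.moduleCat_exact_iff_function_exact (mulS M r)).mpr ?_
    intro x
    change Submodule.mkQ (r • (⊤ : Submodule A M)) x = 0 ↔ x ∈ Set.range (fun y : M => r • y)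
    rw [Submodule.mkQ_apply, Submodule.Quotient.mk_eq_zero, Submodule.mem_smul_pointwise_iff_exists]
    simp
  mono_f := (ModuleCat.mono_iff_injective _).mpr fun x y h => hr h
  epi_g := (ModuleCat.epi_iff_surjective _).mpr (Submodule.mkQ_surjective _)

variable (hP : ∀ i, Module.Flat A (P.X i))

section LES

variable {S : ShortComplex (ModuleCat.{u} A)} (hS : S.ShortExact)

/-- the connecting map -/
noncomputable def δ (j : ℤ) : (H P j).obj S.X₃ ⟶ (H P (j + 1)).obj S.X₁ :=
  δT P hP hS (-j) (-(j + 1)) (by simp)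

theorem exact₁ (j : ℤ) (x : (H P (j + 1)).obj S.X₁) (hx : ((H P (j + 1)).map S.f).hom x = 0) :
    ∃ y, (δ P hP hS j).hom y = x :=
  ((ShortComplex.ShortExact.moduleCat_exact_iff_function_exact _).mp
    (T_exact₁ P hP hS (-j) (-(j + 1)) (by simp)) x).mp hx

theorem f_δ (j : ℤ) (y : (H P j).obj S.X₃) : ((H P (j + 1)).map S.f).hom ((δ P hP hS j).hom y) = 0 :=
  ((ShortComplex.ShortExact.moduleCat_exact_iff_function_exact _).mp
    (T_exact₁ P hP hS (-j) (-(j + 1)) (by simp)) _).mpr ⟨y, rfl⟩

include hP hS in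
theorem exact₂ (j : ℤ) (x : (H P j).obj S.X₂) (hx : ((H P j).map S.g).hom x = 0) :
    ∃ y, ((H P j).map S.f).hom y = x :=
  ((ShortComplex.ShortExact.moduleCat_exact_iff_function_exact _).mp (T_exact₂ P hP hS (-j)) x).mp hx

theorem exact₃ (j : ℤ) (x : (H P j).obj S.X₃) (hx : (δ P hP hS j).hom x = 0) :
    ∃ y, ((H P j).map S.g).hom y = x :=
  ((ShortComplex.ShortExact.moduleCat_exact_iff_function_exact _).mp
    (T_exact₃ P hP hS (-j) (-(j + 1)) (by simp)) x).mp hx

theorem δ_g (j : ℤ) (y : (H P j).obj S.X₂) : (δ P hP hS j).hom (((H P j).map S.g).hom y) = 0 :=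
  ((ShortComplex.ShortExact.moduleCat_exact_iff_function_exact _).mp
    (T_exact₃ P hP hS (-j) (-(j + 1)) (by simp)) _).mpr ⟨y, rfl⟩

end LES

theorem mulS_map (j : ℤ) (M : ModuleCat.{u} A) (r : A) (x : (H P j).obj M) :
    ((H P j).map (mulS M r).f).hom x = r • x := by
  have h : (H P j).map (mulS M r).f = r • 𝟙 _ := map_smul' P j M r
  rw [h]
  rfl

include hP in
/-- Acyclicity: low cohomology vanishes when nilpotent elements form a weakly regular sequence. -/
theorem acyc (hpos : ∀ (j : ℤ) (M : ModuleCat.{u} A), j < 0 → Subsingleton ((H P j).obj M)) (rs : List A)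
    (hnil : ∀ r ∈ rs, ∀ (j : ℤ) (M : ModuleCat.{u} A) (x : (H P j).obj M), ∃ n : ℕ, r ^ n • x = 0) :
    ∀ (M : Type u) [AddCommGroup M] [Module A M], IsWeaklyRegular M rs → ∀ j : ℤ, j < rs.length →
      Subsingleton ((H P j).obj (ModuleCat.of A M)) := by
  induction rs with
  | nil =>
    intro M _ _ _ j hj
    exact hpos j _ (by simpa using hj)
  | cons r rs ih =>
    intro M _ _ hM j hj
    rw [isWeaklyRegular_cons_iff] at hM
    have hS := mulS_shortExact (ModuleCat.of A M) r hM.1
    have h1 : Subsingleton ((H P (j - 1)).obj (mulS (ModuleCat.of A M) r).X₃) :=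
      ih (fun r' hr' => hnil r' (List.mem_cons_of_mem _ hr')) (QuotSMulTop r M) hM.2 (j - 1) (by
        rw [List.length_cons] at hj
        push_cast at hj
        omega)
    have h2 : ∀ x : (H P j).obj (ModuleCat.of A M), r • x = 0 → x = 0 := by
      intro x hx
      obtain ⟨j', rfl⟩ : ∃ j', j = j' + 1 := ⟨j - 1, by ring⟩
      obtain ⟨y, rfl⟩ := exact₁ P hP hS j' x (by rw [mulS_map]; exact hx)
      rw [show j' + 1 - 1 = j' by ring] at h1
      rw [Subsingleton.elim y 0]
      exact map_zero _
    refine ⟨fun x y => ?_⟩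
    rw [← sub_eq_zero]
    obtain ⟨n, hn⟩ := hnil r List.mem_cons_self j _ (x - y)
    clear hj
    induction n with
    | zero => simpa using hn
    | succ n ihn =>
      apply ihn
      apply h2
      rw [← mul_smul, ← pow_succ']
      exact hn

/-- Cyclic modules. -/
def Cyc (A : Type u) [CommRing A] (M : Type u) [AddCommGroup M] [Module A M] : Prop :=
  ∃ m : M, Submodule.span A {m} = ⊤

theorem Cyc.of_surjective {M N : Type u} [AddCommGroup M] [Module A M] [AddCommGroup N] [Module A N]
    (h : Cyc A M) (f : M →ₗ[A] N) (hf : Function.Surjective f) : Cyc A N := by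
  obtain ⟨m, hm⟩ := h
  refine ⟨f m, ?_⟩
  rw [← Set.image_singleton, Submodule.span_image, hm, Submodule.map_top, LinearMap.range_eq_top.mpr hf]

theorem Cyc.exists_equiv {M : Type u} [AddCommGroup M] [Module A M] (h : Cyc A M) :
    ∃ I : Ideal A, Nonempty (M ≃ₗ[A] (A ⧸ I)) := by
  obtain ⟨m, hm⟩ := h
  have hs : Function.Surjective (LinearMap.toSpanSingleton A M m) := by
    rw [← LinearMap.range_eq_top, LinearMap.range_toSpanSingleton, hm]
  exact ⟨_, ⟨((LinearMap.toSpanSingleton A M m).quotKerEquivOfSurjective hs).symm⟩⟩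

theorem Cyc.self : Cyc A A := ⟨1, by rw [Ideal.submodule_span_eq, Ideal.span_singleton_one]⟩

include hP in
/-- If `J` kills `T^0` of cyclic modules and `rs` kills everything then `J` kills `T^n(M)`, `n` the length of `rs`. -/
theorem kill_length (J : Ideal A) (h0 : ∀ (M : Type u) [AddCommGroup M] [Module A M], Cyc A M →
      ∀ (x : (H P 0).obj (ModuleCat.of A M)), ∀ a ∈ J, a • x = 0)
    (rs : List A)
    (hkill : ∀ r ∈ rs, ∀ (j : ℤ) (M : ModuleCat.{u} A) (x : (H P j).obj M), r • x = 0) :
    ∀ (M : Type u) [AddCommGroup M] [Module A M], Cyc A M → IsWeaklyRegular M rs →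
      ∀ (x : (H P rs.length).obj (ModuleCat.of A M)), ∀ a ∈ J, a • x = 0 := by
  induction rs with
  | nil =>
    intro M _ _ hc _ x a ha
    exact h0 M hc x a ha
  | cons r rs ih =>
    intro M _ _ hc hM x a ha
    rw [isWeaklyRegular_cons_iff] at hM
    have hS := mulS_shortExact (ModuleCat.of A M) r hM.1
    obtain ⟨y, hy⟩ := exact₁ P hP hS (rs.length : ℤ) x (by
      rw [mulS_map]
      exact hkill r List.mem_cons_self _ _ _)
    have h1 : a • y = 0 := ih (fun r' hr' => hkill r' (List.mem_cons_of_mem _ hr')) (QuotSMulTop r M)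
      (hc.of_surjective (Submodule.mkQ _) (Submodule.mkQ_surjective _)) hM.2 y a ha
    have h2 : x = (δ P hP hS (rs.length : ℤ)).hom y := hy.symm
    rw [h2]
    refine (map_smul (δ P hP hS (rs.length : ℤ)).hom a y).symm.trans ?_
    rw [h1]
    exact map_zero _

include hP in
/-- If `r` is regular on `M` and kills `T^j(M)`, `T^{j+1}(M)` then the lengths add. -/
theorem length_quot (M : Type u) [AddCommGroup M] [Module A M] (r : A) (hr : IsSMulRegular M r) (j : ℤ)
    (h0 : ∀ x : (H P j).obj (ModuleCat.of A M), r • x = 0)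
    (h1 : ∀ x : (H P (j + 1)).obj (ModuleCat.of A M), r • x = 0) :
    Module.length A ((H P j).obj (ModuleCat.of A (QuotSMulTop r M))) =
      Module.length A ((H P j).obj (ModuleCat.of A M)) +
        Module.length A ((H P (j + 1)).obj (ModuleCat.of A M)) := by
  have hS := mulS_shortExact (ModuleCat.of A M) r hr
  refine Module.length_eq_add_of_exact ((H P j).map (mulS (ModuleCat.of A M) r).g).hom (δ P hP hS j).hom ?_ ?_ ?_
  · rw [injective_iff_map_eq_zero]
    intro x hx
    obtain ⟨y, hy⟩ := exact₂ P hP hS j x hx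
    rw [mulS_map] at hy
    rw [← hy]
    exact h0 y
  · intro x
    refine exact₁ P hP hS j x ?_
    rw [mulS_map]
    exact h1 x
  · intro x
    exact ⟨fun hx => exact₃ P hP hS j x hx, fun ⟨y, hy⟩ => by rw [← hy]; exact δ_g P hP hS j y⟩

/-- The iterated Pascal operator. -/
def D : ℕ → (ℤ → ℕ∞) → ℤ → ℕ∞
  | 0, f => f
  | n + 1, f => D n (fun j => f j + f (j + 1))

theorem D_single (n : ℕ) (f : ℤ → ℕ∞) (g : ℤ) (hf : ∀ j, j ≠ g → f j = 0) (i : ℤ) (c : ℕ) (hi : i + c = g) :
    D n f i = (n.choose c : ℕ∞) * f g := by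
  have key : ∀ (n : ℕ) (f : ℤ → ℕ∞) (i : ℤ), D n f i = ∑ c ∈ Finset.range (n + 1), (n.choose c : ℕ∞) * f (i + c) := by
    intro n
    induction n with
    | zero => intro f i; simp [D]
    | succ n ih =>
      intro f i
      rw [D, ih]
      simp only [mul_add, Finset.sum_add_distrib]
      rw [Finset.sum_range_succ' (fun c => ((n + 1).choose c : ℕ∞) * f (i + c)) (n + 1)]
      simp only [Nat.choose_succ_succ, Nat.cast_add, add_mul, Finset.sum_add_distrib]
      rw [add_comm, add_assoc]
      congr 1
      · refine Finset.sum_congr rfl fun c _ => ?_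
        congr 2
        push_cast
        ring
      · rw [Finset.sum_range_succ' (fun c => (n.choose c : ℕ∞) * f (i + c)) n]
        conv_rhs => rw [Finset.sum_range_succ]
        simp
  rw [key]
  by_cases hc : c ≤ n
  · rw [Finset.sum_eq_single c]
    · rw [hi]
    · intro d _ hd
      rw [hf (i + d) (fun h => hd (by omega)), mul_zero]
    · intro h
      exact absurd (Finset.mem_range.mpr (by omega)) h
  · rw [Nat.choose_eq_zero_of_lt (by omega), Nat.cast_zero, zero_mul]
    refine Finset.sum_eq_zero fun d hd => ?_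
    have := Finset.mem_range.mp hd
    rw [hf (i + d) (fun h => hc (by omega)), mul_zero]

include hP in
/-- The lengths of `T^j(M/(rs)M)`. -/
theorem length_ofList (rs : List A)
    (hkill : ∀ r ∈ rs, ∀ (j : ℤ) (M : Type u) [AddCommGroup M] [Module A M] [Module.Finite A M]
      (x : (H P j).obj (ModuleCat.of A M)), r • x = 0) :
    ∀ (M : Type u) [AddCommGroup M] [Module A M] [Module.Finite A M], IsWeaklyRegular M rs → ∀ j : ℤ,
      Module.length A ((H P j).obj (ModuleCat.of A (M ⧸ (Ideal.ofList rs • (⊤ : Submodule A M))))) =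
        D rs.length (fun j => Module.length A ((H P j).obj (ModuleCat.of A M))) j := by
  induction rs with
  | nil =>
    intro M _ _ _ _ j
    have e : (M ⧸ (Ideal.ofList ([] : List A) • (⊤ : Submodule A M))) ≃ₗ[A] M :=
      Submodule.quotEquivOfEqBot _ (by simp)
    exact ((H P j).mapIso e.toModuleIso).toLinearEquiv.length_eq
  | cons r rs ih =>
    intro M _ _ _ hM j
    rw [isWeaklyRegular_cons_iff] at hM
    have e := Submodule.quotOfListConsSMulTopEquivQuotSMulTopInner M r rs
    rw [((H P j).mapIso e.toModuleIso).toLinearEquiv.length_eq]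
    refine (ih (fun r' hr' => hkill r' (List.mem_cons_of_mem _ hr')) (QuotSMulTop r M) hM.2 j).trans ?_
    rw [List.length_cons, D]
    congr 1
    funext j'
    exact length_quot P hP M r hM.1 j' (hkill r List.mem_cons_self _ M) (hkill r List.mem_cons_self _ M)

/-- `a` kills `T^j(A^n)` if it kills `T^j(A)`. -/
theorem smul_pi_eq_zero (j : ℤ) (a : A) (h : ∀ x : (H P j).obj (ModuleCat.of A A), a • x = 0) (n : ℕ)
    (x : (H P j).obj (ModuleCat.of A (Fin n → A))) : a • x = 0 := by
  have h1 : 𝟙 (ModuleCat.of A (Fin n → A)) = ∑ i : Fin n,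
      (ModuleCat.ofHom (LinearMap.proj i : (Fin n → A) →ₗ[A] A) ≫
        ModuleCat.ofHom (LinearMap.single A (fun _ : Fin n => A) i)) := by
    ext1
    rw [ModuleCat.hom_sum]
    refine LinearMap.ext fun v => ?_
    rw [LinearMap.sum_apply]
    funext i
    simp [Finset.sum_apply, Pi.single_apply]
  have h2 : 𝟙 ((H P j).obj (ModuleCat.of A (Fin n → A))) = ∑ i : Fin n,
      ((H P j).map (ModuleCat.ofHom (LinearMap.proj i : (Fin n → A) →ₗ[A] A)) ≫
        (H P j).map (ModuleCat.ofHom (LinearMap.single A (fun _ : Fin n => A) i))) := by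
    rw [← CategoryTheory.Functor.map_id, h1, Functor.map_sum]
    simp only [Functor.map_comp]
  have h3 : x = ∑ i : Fin n, ((H P j).map (ModuleCat.ofHom (LinearMap.single A (fun _ : Fin n => A) i))).hom
      (((H P j).map (ModuleCat.ofHom (LinearMap.proj i : (Fin n → A) →ₗ[A] A))).hom x) := by
    have := congrArg (fun φ => ModuleCat.Hom.hom φ x) h2
    simp only [ModuleCat.hom_sum, LinearMap.sum_apply, ModuleCat.hom_comp, LinearMap.comp_apply] at this
    exact this
  rw [h3, Finset.smul_sum]
  refine Finset.sum_eq_zero fun i _ => ?_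
  rw [← map_smul, h, map_zero]

theorem subsingleton_pi (j : ℤ) (h : Subsingleton ((H P j).obj (ModuleCat.of A A))) (n : ℕ) :
    Subsingleton ((H P j).obj (ModuleCat.of A (Fin n → A))) := by
  refine ⟨fun x y => ?_⟩
  have h1 := smul_pi_eq_zero P j 1 (fun x => Subsingleton.elim _ _) n (x - y)
  rw [one_smul, sub_eq_zero] at h1
  exact h1

include hP in
/-- If `T^j(A) = 0` for `j < g` and `T^j = 0` for `j > g` then what kills `T^g(A)` kills everything. -/
theorem kill_all [IsNoetherianRing A] (g : ℤ)
    (htop : ∀ (j : ℤ) (M : ModuleCat.{u} A), g < j → Subsingleton ((H P j).obj M))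
    (hlow : ∀ j : ℤ, j < g → Subsingleton ((H P j).obj (ModuleCat.of A A)))
    (a : A) (hN : ∀ x : (H P g).obj (ModuleCat.of A A), a • x = 0) (j : ℤ) (M : Type u) [AddCommGroup M]
    [Module A M] [Module.Finite A M] (x : (H P j).obj (ModuleCat.of A M)) : a • x = 0 := by
  have key : ∀ (c : ℕ) (j : ℤ), j + c = g + 1 → ∀ (M : Type u) [AddCommGroup M]
    [Module A M] [Module.Finite A M] (x : (H P j).obj (ModuleCat.of A M)), a • x = 0 := by
    intro c
    induction c with
    | zero =>
      intro j hj M _ _ _ x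
      have := htop j (ModuleCat.of A M) (by simp at hj; omega)
      exact Subsingleton.elim _ _
    | succ c ih =>
      intro j hj M _ _ _ x
      obtain ⟨n, f, hf⟩ := Module.Finite.exists_fin' A M
      let S : ShortComplex (ModuleCat.{u} A) := ShortComplex.mk (ModuleCat.ofHom (LinearMap.ker f).subtype)
        (ModuleCat.ofHom f) (by ext x; exact x.2)
      have hS : S.ShortExact :=
        { exact := (ShortComplex.ShortExact.moduleCat_exact_iff_function_exact S).mpr
            (LinearMap.exact_subtype_ker_map f)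
          mono_f := (ModuleCat.mono_iff_injective _).mpr (Submodule.subtype_injective _)
          epi_g := (ModuleCat.epi_iff_surjective _).mpr hf }
      by_cases hjg : j = g
      · subst hjg
        have h1 : Subsingleton ((H P (j + 1)).obj S.X₁) := htop _ _ (by omega)
        obtain ⟨y, hy⟩ := exact₃ P hP hS j x (Subsingleton.elim _ _)
        rw [← hy, ← map_smul]
        refine (congrArg _ (smul_pi_eq_zero P j a hN n y)).trans (map_zero _)
      · have h1 : Subsingleton ((H P j).obj S.X₂) := by
          by_cases hlt : j < g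
          · exact subsingleton_pi P j (hlow j hlt) n
          · exact htop _ _ (by omega)
        have h2 : (δ P hP hS j).hom (a • x) = 0 := by
          rw [map_smul]
          exact ih (j + 1) (by push_cast at hj; omega) (LinearMap.ker f) _
        obtain ⟨y, hy⟩ := exact₃ P hP hS j (a • x) h2
        rw [← hy, Subsingleton.elim y 0]
        exact map_zero _
  by_cases hj : j ≤ g + 1
  · exact key (g + 1 - j).toNat j (by omega) M x
  · have := htop j (ModuleCat.of A M) (by omega)
    exact Subsingleton.elim _ _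

end K504.TAlg
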