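import Groth.Agent.AbVar.K504.TAlg
import Groth.Agent.Ega3B.LiftFibre
import Groth.Agent.Localalg.Depth
import Groth.Agent.Ega4B.DepthBasic
import Groth.Agent.CalgB.RegPar
import Groth.Agent.CalgA.RegBasic

/-!
# The count of `length T^j(R/J)` for `J` generated by a regular sequence of maximal length
-/

set_option autoImplicit false
universe u

open CategoryTheory CategoryTheory.Limits RingTheory.Sequence IsLocalRing

namespace K504.TMain

open K504.TAlg

/-- A regular local ring of dimension `g` contains a weakly regular sequence of length `g` in every ideal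
with radical the maximal ideal. -/
theorem exists_seq {R : Type u} [CommRing R] [IsRegularLocalRing R] {g : ℕ} (hg : ringKrullDim R = g)
    (I : Ideal R) (hI : I.radical = maximalIdeal R) :
    ∃ rs : List R, rs.length = g ∧ (∀ r ∈ rs, r ∈ I) ∧ IsWeaklyRegular R rs := by
  have hne : I ≠ ⊤ := by
    rintro rfl
    rw [Ideal.radical_top] at hI
    exact (maximalIdeal.isMaximal R).ne_top hI.symm
  have hm : (maximalIdeal R).radical = maximalIdeal R := (maximalIdeal.isMaximal R).isPrime.isRadical.radical
  have h1 : (g : ℕ∞) ≤ LocCoh.idealDepth I R := by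
    rw [Groth.Agent.Localalg.Depth.idealDepth_congr_radical (hI.trans hm.symm) R]
    obtain ⟨l, hl1, hl2⟩ := Groth.Agent.CalgB.RegPar.exists_list R hg
    have h2 := Groth.Agent.CalgA.RegBasic.isRegular_of_ofList_eq g R l hl1 hg hl2
    have h3 := Groth.Agent.Ega4B.DepthBasic.length_le_idealDepth (I := maximalIdeal R) l h2.toIsWeaklyRegular
      (fun r hr => hl2 ▸ Ideal.subset_span hr)
    rwa [hl1] at h3
  refine (Groth.Agent.Ega4B.DepthBasic.natCast_le_idealDepth_iff ?_ g).mp h1
  simpa using hne

variable {R : Type u} [CommRing R] [IsRegularLocalRing R] {g : ℕ} (hg : ringKrullDim R = g)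
  (P : ChainComplex (ModuleCat.{u} R) ℤ) (hP : ∀ i, Module.Finite R (P.X i) ∧ Module.Flat R (P.X i))
  (hpos : ∀ (j : ℤ) (M : ModuleCat.{u} R), j < 0 → Subsingleton ((H P j).obj M))
  (htop : ∀ j : ℤ, g < j → Subsingleton ((H P j).obj (ModuleCat.of R (ResidueField R))))
  (hpr : ∀ (p : Ideal R) [p.IsPrime], p ≠ maximalIdeal R → ∀ j : ℤ,
    Subsingleton ((H P j).obj (ModuleCat.of R p.ResidueField)))

/-- The annihilator of all `T^j`. -/
def ann : Ideal R where
  carrier := {a | ∀ (j : ℤ) (M : ModuleCat.{u} R) (x : (H P j).obj M), a • x = 0}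
  add_mem' {a b} ha hb j M x := by rw [add_smul, ha, hb, add_zero]
  zero_mem' j M x := by rw [zero_smul]
  smul_mem' c {a} ha j M x := by rw [smul_eq_mul, mul_smul, ha, smul_zero]

theorem mem_ann {a : R} : a ∈ ann P ↔ ∀ (j : ℤ) (M : ModuleCat.{u} R) (x : (H P j).obj M), a • x = 0 := Iff.rfl

include hP htop in
theorem htop' (j : ℤ) (hj : g < j) (M : ModuleCat.{u} R) : Subsingleton ((H P j).obj M) := by
  have := htop j hj
  exact ModuleCat.subsingleton_of_isZero (Groth.Agent.Ega3A.LocalT.isZero_T P hP (-j)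
    (ModuleCat.isZero_of_subsingleton _) M)

include hP hpos htop hpr in
theorem ann_not_le (p : Ideal R) [hp : p.IsPrime] (hne : p ≠ maximalIdeal R) : ¬ ann P ≤ p := by
  have h1 : ∀ j : ℤ, ∃ s : R, s ∉ p ∧ ∀ (M : ModuleCat.{u} R) (x : (H P j).obj M), s • x = 0 := fun j => by
    have := hpr p hne j
    exact Groth.Agent.Ega3B.LiftFibre.exists_smul_T_eq_zero P hP p (-j) (ModuleCat.isZero_of_subsingleton _)
  choose s hs1 hs2 using h1
  have h2 : (∏ j ∈ Finset.range (g + 1), s j) ∈ ann P := by
    intro j M x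
    by_cases h : 0 ≤ j ∧ j ≤ g
    · obtain ⟨n, rfl⟩ := Int.eq_ofNat_of_zero_le h.1
      have hn : n ∈ Finset.range (g + 1) := Finset.mem_range.mpr (by omega)
      rw [← Finset.prod_erase_mul _ _ hn, mul_smul]
      have := hs2 (n : ℤ) M x
      rw [show s (n : ℤ) • x = 0 from this, smul_zero]
    · by_cases h0 : j < 0
      · have := hpos j M h0
        exact Subsingleton.elim _ _
      · have := htop' P hP htop j (by omega) M
        exact Subsingleton.elim _ _
  intro hle
  have h3 := hle h2
  rw [Ideal.IsPrime.prod_mem_iff] at h3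
  obtain ⟨i, -, hi⟩ := h3
  exact hs1 _ hi

include hP hpos htop hpr hg in
theorem main (xs : List R) (hxs : IsWeaklyRegular R xs) (hlen : xs.length = g)
    (h0 : ∀ (I : Ideal R) (x : (H P 0).obj (ModuleCat.of R (R ⧸ I))), ∀ a ∈ Ideal.ofList xs, a • x = 0)
    (j c : ℕ) (hj : j + c = g) :
    Module.length R ((H P j).obj (ModuleCat.of R (R ⧸ Ideal.ofList xs))) =
      (g.choose c : ℕ∞) * Module.length R ((H P g).obj (ModuleCat.of R R)) := by
  have hflat : ∀ i, Module.Flat R (P.X i) := fun i => (hP i).2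
  have htop'' : ∀ (j : ℤ) (M : ModuleCat.{u} R), (g : ℤ) < j → Subsingleton ((H P j).obj M) :=
    fun j M hj => htop' P hP htop j hj M
  -- vanishing of `T^j(R)` for `j < g` and `J T^g(R) = 0`
  have key : (∀ j : ℤ, j < g → Subsingleton ((H P j).obj (ModuleCat.of R R))) ∧
      ∀ a ∈ Ideal.ofList xs, ∀ x : (H P g).obj (ModuleCat.of R R), a • x = 0 := by
    by_cases htriv : ann P = ⊤
    · have h1 : ∀ (j : ℤ) (M : ModuleCat.{u} R) (x : (H P j).obj M), x = 0 := fun j M x => by
        have h2 : (1 : R) ∈ ann P := htriv ▸ trivial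
        have := h2 j M x
        rwa [one_smul] at this
      exact ⟨fun j _ => ⟨fun x y => by rw [h1 _ _ x, h1 _ _ y]⟩, fun a _ x => h1 _ _ _⟩
    · have hrad : (ann P).radical = maximalIdeal R := by
        apply le_antisymm
        · rw [← (maximalIdeal.isMaximal R).isPrime.isRadical.radical]
          exact Ideal.radical_mono (le_maximalIdeal htriv)
        · rw [Ideal.radical_eq_sInf]
          refine le_sInf ?_
          rintro p ⟨hp1, hp2⟩
          by_contra hne
          have h3 : p ≠ maximalIdeal R := fun h => hne (h ▸ le_rfl)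
          exact ann_not_le P hP hpos htop hpr p h3 hp1
      obtain ⟨rs, hrs1, hrs2, hrs3⟩ := exists_seq hg (ann P) hrad
      have hlow := acyc P hflat hpos rs (fun r hr j M x => ⟨1, by rw [pow_one]; exact hrs2 r hr j M x⟩) R hrs3
      rw [hrs1] at hlow
      refine ⟨hlow, fun a ha x => ?_⟩
      have h4 := kill_length P hflat (Ideal.ofList xs) (fun M _ _ hM x a ha => by
        obtain ⟨I, ⟨e⟩⟩ := hM.exists_equiv
        let e' := ((H P 0).mapIso e.toModuleIso).toLinearEquiv
        apply e'.injective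
        rw [map_smul, map_zero]
        exact h0 I (e' x) a ha) rs (fun r hr => hrs2 r hr) R Cyc.self hrs3
      rw [hrs1] at h4
      exact h4 x a ha
  have hkill : ∀ r ∈ xs, ∀ (j : ℤ) (M : Type u) [AddCommGroup M] [Module R M] [Module.Finite R M]
      (x : (H P j).obj (ModuleCat.of R M)), r • x = 0 := fun r hr j M _ _ _ x =>
    kill_all P hflat g htop'' key.1 r (key.2 r (Ideal.subset_span hr)) j M x
  have h5 := length_ofList P hflat xs hkill R hxs j
  have e : (R ⧸ (Ideal.ofList xs • (⊤ : Submodule R R))) ≃ₗ[R] (R ⧸ Ideal.ofList xs) :=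
    Submodule.quotEquivOfEq _ _ (by simp)
  rw [((H P j).mapIso e.toModuleIso).toLinearEquiv.length_eq] at h5
  rw [h5, hlen]
  exact D_single g _ (g : ℤ) (fun j' hj' => by
    have : Subsingleton ((H P j').obj (ModuleCat.of R R)) := by
      by_cases hlt : j' < g
      · exact key.1 j' hlt
      · exact htop'' j' _ (by omega)
    exact Module.length_eq_zero) (j : ℤ) c (by omega)

end K504.TMain
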